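import Mathlib
import Cfsg.Agent.Cl.QuadExtra
import Cfsg.Agent.Cl.OrthStd

/-! The two orthogonal spaces of dimension eight over the field with two elements, with vectors coded by numbers:
bits `0..3` are `e0..e3` and bits `4..7` are `f0..f3` (port of `W3/FV`). -/

set_option autoImplicit false
set_option maxRecDepth 100000
set_option linter.unusedVariables false

namespace Cfsg.Agent.W4

open Cfsg.Agent.Cl QuadraticMap

/-- Vectors. -/
@[ext] structure V where
  n : ℕ
  lt : n < 256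

instance : DecidableEq V := fun a b => decidable_of_iff (Nat.beq a.n b.n = true) (by
  rw [Nat.beq_eq]; exact V.ext_iff.symm)

/-- The vector with a given code. -/
def vv (k : ℕ) : V := ⟨Nat.mod k 256, Nat.mod_lt _ (by decide)⟩

theorem vv_n (v : V) : vv v.n = v := V.ext (Nat.mod_eq_of_lt v.lt)

/-- A test on all vectors. -/
def allV (p : V → Bool) : Bool := Nat.rec true (fun n ih => and (p (vv n)) ih) 256

theorem allV_iff {p : V → Bool} : allV p = true ↔ ∀ v, p v = true := by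
  have k : ∀ m : ℕ, (Nat.rec true (fun n ih => and (p (vv n)) ih) m : Bool) = true ↔ ∀ n < m, p (vv n) = true := by
    intro m
    induction m with
    | zero => simp
    | succ m ih => simp only [Bool.and_eq_true, ih, Nat.forall_lt_succ_right, and_comm]
  exact (k 256).trans ⟨fun h v => vv_n v ▸ h _ v.lt, fun h _ _ => h _⟩

instance V.decAll (P : V → Prop) [DecidablePred P] : Decidable (∀ v, P v) :=
  decidable_of_iff (allV (fun v => decide (P v)) = true) (by simp [allV_iff])

instance V.decEx (P : V → Prop) [DecidablePred P] : Decidable (∃ v, P v) :=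
  decidable_of_iff (allV (fun v => !decide (P v)) = false) (by
    rw [← Bool.not_eq_true, allV_iff]; simp)

theorem xor_lt (a b : V) : Nat.xor a.n b.n < 256 := Nat.xor_lt_two_pow (n := 8) a.lt b.lt

instance : Add V := ⟨fun a b => ⟨Nat.xor a.n b.n, xor_lt a b⟩⟩
instance : Zero V := ⟨⟨0, by decide⟩⟩
instance : Neg V := ⟨id⟩

theorem add_n (a b : V) : (a + b).n = a.n ^^^ b.n := rfl

instance : AddCommGroup V :=
  { AddGroup.ofLeftAxioms (fun a b c => V.ext (Nat.xor_assoc _ _ _)) (fun a => V.ext (Nat.zero_xor _))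
      (fun a => V.ext (Nat.xor_self _)) with
    add_comm := fun a b => V.ext (Nat.xor_comm _ _) }

@[simp] theorem add_self (a : V) : a + a = 0 := V.ext (Nat.xor_self _)
@[simp] theorem add_add_self (a b : V) : a + (a + b) = b := by rw [← add_assoc, add_self, zero_add]
@[simp] theorem add_add_self' (a b : V) : a + b + b = a := by rw [add_assoc, add_self, add_zero]
@[simp] theorem neg_eq (a : V) : -a = a := rfl
theorem add_eq_zero_iff {a b : V} : a + b = 0 ↔ a = b := add_eq_zero_iff_eq_neg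
theorem add_eq_iff {a b c : V} : a + b = c ↔ a = c + b := ⟨fun h => by simp [← h], fun h => by simp [h]⟩

instance : Fintype V := Fintype.ofEquiv (Fin 256) ⟨fun i => ⟨i.1, i.2⟩, fun v => ⟨v.n, v.lt⟩, fun _ => rfl, fun _ => rfl⟩

theorem card_V : Nat.card V = 256 := by rw [Nat.card_eq_fintype_card, Fintype.ofEquiv_card, Fintype.card_fin]

instance : Module (ZMod 2) V := AddCommGroup.zmodModule fun x => by rw [two_nsmul, add_self]

/-- Bit `n` of `m`. -/
def bt (m n : ℕ) : Bool := Nat.beq (Nat.mod (Nat.shiftRight m n) 2) 1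

/-- The table of the quadratic form; `true` is the minus type. -/
def qT (τ : Bool) : ℕ := cond τ 0x6969c3c3a5a50f0f999933335555ffff6996c33ca55a0ff0996633cc55aaff00 0x6996c33ca55a0ff0996633cc55aaff0096963c3c5a5af0f06666ccccaaaa0000

/-- The table of parities. -/
def pT : ℕ := 0x6996966996696996966969966996966996696996699696696996966996696996

/-- Exchange of the two halves. -/
def sw (n : ℕ) : ℕ := Nat.lor (Nat.shiftRight n 4) (Nat.shiftLeft (Nat.land n 15) 4)

/-- The quadratic form. -/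
def qb (τ : Bool) (v : V) : Bool := bt (qT τ) v.n

/-- The polar form. -/
def fb (u v : V) : Bool := bt pT (Nat.land u.n (sw v.n))

/-- Multiplication by a scalar. -/
def sm (b : Bool) (v : V) : V := cond b v 0

@[simp] theorem sm_true (v : V) : sm true v = v := rfl
@[simp] theorem sm_false (v : V) : sm false v = 0 := rfl

/-- A bit as a scalar. -/
def b2 (b : Bool) : ZMod 2 := cond b 1 0

theorem b2_xor : ∀ b c, b2 (b ^^ c) = b2 b + b2 c := by decide
theorem b2_and : ∀ b c, b2 (b && c) = b2 b * b2 c := by decide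
theorem b2_eq_zero : ∀ {b}, b2 b = 0 ↔ b = false := by decide
theorem b2_inj : ∀ {b c}, b2 b = b2 c ↔ b = c := by decide

theorem bt_eq (m n : ℕ) : bt m n = m.testBit n := by
  rw [bt, Nat.testBit, Bool.eq_iff_iff, Nat.beq_eq, bne_iff_ne, Nat.one_and_eq_mod_two]
  change (m >>> n) % 2 = 1 ↔ _
  omega

theorem bt_add (u v : V) (i : ℕ) : bt (u + v).n i = (bt u.n i ^^ bt v.n i) := by
  simp only [bt_eq, add_n, Nat.testBit_xor]

theorem qb_bits : ∀ (τ : Bool) (v : V), qb τ v = ((bt v.n 0 && bt v.n 4) ^^ (bt v.n 1 && bt v.n 5) ^^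
    (bt v.n 2 && bt v.n 6) ^^ (bt v.n 3 && bt v.n 7) ^^ (τ && (bt v.n 3 ^^ bt v.n 7))) := by decide +kernel

theorem par_bits : ∀ v : V, bt pT v.n = (bt v.n 0 ^^ bt v.n 1 ^^ bt v.n 2 ^^ bt v.n 3 ^^ bt v.n 4 ^^ bt v.n 5 ^^
    bt v.n 6 ^^ bt v.n 7) := by decide +kernel

theorem sw_bits : ∀ v : V, (bt (sw v.n) 0 = bt v.n 4 ∧ bt (sw v.n) 1 = bt v.n 5 ∧ bt (sw v.n) 2 = bt v.n 6 ∧
    bt (sw v.n) 3 = bt v.n 7) ∧ bt (sw v.n) 4 = bt v.n 0 ∧ bt (sw v.n) 5 = bt v.n 1 ∧ bt (sw v.n) 6 = bt v.n 2 ∧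
    bt (sw v.n) 7 = bt v.n 3 := by decide +kernel

theorem fb_bits (u v : V) : fb u v = ((bt u.n 0 && bt v.n 4) ^^ (bt u.n 1 && bt v.n 5) ^^ (bt u.n 2 && bt v.n 6) ^^
    (bt u.n 3 && bt v.n 7) ^^ (bt u.n 4 && bt v.n 0) ^^ (bt u.n 5 && bt v.n 1) ^^ (bt u.n 6 && bt v.n 2) ^^
    (bt u.n 7 && bt v.n 3)) := by
  have k := par_bits ⟨Nat.land u.n (sw v.n), lt_of_le_of_lt Nat.and_le_left u.lt⟩
  have k1 : ∀ i, bt (Nat.land u.n (sw v.n)) i = (bt u.n i && bt (sw v.n) i) := fun i => by
    simp only [bt_eq]; exact Nat.testBit_and _ _ _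
  obtain ⟨⟨a, b, c, d⟩, e, f, g, h⟩ := sw_bits v
  simpa only [fb, k1, a, b, c, d, e, f, g, h] using k

theorem qb_add (τ : Bool) (u v : V) : qb τ (u + v) = (qb τ u ^^ qb τ v ^^ fb u v) := by
  simp only [← b2_inj, qb_bits, fb_bits, bt_add, b2_xor, b2_and]; ring
theorem fb_comm (u v : V) : fb u v = fb v u := by
  simp only [← b2_inj, fb_bits, b2_xor, b2_and]; ring
@[simp] theorem fb_self : ∀ u : V, fb u u = false := by decide +kernel
@[simp] theorem fb_zero : ∀ u : V, fb u 0 = false := by decide +kernel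
@[simp] theorem zero_fb : ∀ u : V, fb 0 u = false := by decide +kernel
@[simp] theorem qb_zero : ∀ τ, qb τ 0 = false := by decide +kernel
theorem fb_add_left (u v w : V) : fb (u + v) w = (fb u w ^^ fb v w) := by
  simp only [← b2_inj, fb_bits, bt_add, b2_xor, b2_and]; ring
theorem fb_add_right (u v w : V) : fb w (u + v) = (fb w u ^^ fb w v) := by
  rw [fb_comm, fb_add_left, fb_comm u, fb_comm v]
theorem fb_sm_left (b : Bool) (u v : V) : fb (sm b u) v = (b && fb u v) := by cases b <;> simp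
theorem fb_sm_right (b : Bool) (u v : V) : fb u (sm b v) = (b && fb u v) := by cases b <;> simp
theorem qb_sm (τ b : Bool) (u : V) : qb τ (sm b u) = (b && qb τ u) := by cases b <;> simp
theorem sm_xor (b c : Bool) (u : V) : sm (b ^^ c) u = sm b u + sm c u := by cases b <;> cases c <;> simp
theorem exists_fb (v : V) (h : v ≠ 0) : ∃ u, fb u v = true := by
  have : ∀ v : V, v ≠ 0 → ∃ i ∈ [1, 2, 4, 8, 16, 32, 64, 128], fb (vv i) v = true := by decide +kernel
  exact let ⟨_, _, e⟩ := this v h; ⟨_, e⟩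
theorem eq_of_fb {u v : V} (h : ∀ w, fb w u = fb w v) : u = v := by
  by_contra k
  obtain ⟨w, e⟩ := exists_fb (u + v) (mt add_eq_zero_iff.1 k)
  simp [fb_add_right, h] at e

/-- Eichler transformations. -/
def rho (τ : Bool) (x w v : V) : V := v + sm (fb v x) w + sm (fb v w ^^ (qb τ w && fb v x)) x

/-- Reflections (the identity for a singular vector). -/
def rf (τ : Bool) (a v : V) : V := v + sm (qb τ a && fb v a) a

/-- Isometries. -/
structure Iso (τ : Bool) (T : V → V) : Prop where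
  add : ∀ u v, T (u + v) = T u + T v
  q : ∀ v, qb τ (T v) = qb τ v

namespace Iso

variable {τ : Bool} {S T : V → V}

theorem zero (h : Iso τ T) : T 0 = 0 := by simpa using h.add 0 0

theorem f (h : Iso τ T) (u v : V) : fb (T u) (T v) = fb u v := by
  have := h.q (u + v)
  rw [h.add, qb_add, qb_add, h.q, h.q] at this
  simpa using this

theorem inj (h : Iso τ T) : Function.Injective T := fun u v e => eq_of_fb fun w => by rw [← h.f w, e, h.f]

theorem surj (h : Iso τ T) : Function.Surjective T := Finite.surjective_of_injective h.inj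

theorem eq_zero (h : Iso τ T) {v : V} : T v = 0 ↔ v = 0 := by rw [← h.inj.eq_iff (a := v), h.zero]

theorem sm (h : Iso τ T) (b : Bool) (v : V) : T (sm b v) = sm b (T v) := by cases b <;> simp [h.zero]

theorem rho (h : Iso τ T) (x w v : V) : T (rho τ x w v) = rho τ (T x) (T w) (T v) := by
  simp only [W4.rho, h.add, h.sm, h.f, h.q]

theorem comp (h : Iso τ S) (k : Iso τ T) : Iso τ (S ∘ T) :=
  ⟨fun u v => by simp only [Function.comp, k.add, h.add], fun v => by simp only [Function.comp, k.q, h.q]⟩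

theorem id : Iso τ id := ⟨fun _ _ => rfl, fun _ => rfl⟩

end Iso

theorem iso_rf (τ : Bool) (a : V) : Iso τ (rf τ a) := by
  refine ⟨fun u v => ?_, fun v => ?_⟩
  · simp only [rf, fb_add_left, Bool.and_xor_distrib_left, sm_xor]; abel
  · simp only [rf, qb_add, qb_sm, fb_sm_right]
    cases qb τ a <;> cases fb v a <;> simp

/-- A product of reflections. -/
def wd (τ : Bool) (l : List ℕ) (v : V) : V := List.rec v (fun a _ ih => rf τ (vv a) ih) l

theorem iso_wd (τ : Bool) (l : List ℕ) : Iso τ (wd τ l) := by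
  induction l with
  | nil => exact Iso.id
  | cons a l ih => exact (iso_rf τ (vv a)).comp ih

/-- The linear map with given images of the basis. -/
def lin (a b c d e f g h v : V) : V :=
  sm (bt v.n 0) a + sm (bt v.n 1) b + sm (bt v.n 2) c + sm (bt v.n 3) d + sm (bt v.n 4) e + sm (bt v.n 5) f +
    sm (bt v.n 6) g + sm (bt v.n 7) h

theorem Iso.eq_lin {τ : Bool} {T : V → V} (h : Iso τ T) (v : V) :
    T v = lin (T (vv 1)) (T (vv 2)) (T (vv 4)) (T (vv 8)) (T (vv 16)) (T (vv 32)) (T (vv 64)) (T (vv 128)) v := by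
  have : ∀ v, v = lin (vv 1) (vv 2) (vv 4) (vv 8) (vv 16) (vv 32) (vv 64) (vv 128) v := by decide +kernel
  conv_lhs => rw [this v]
  simp only [lin, h.add, h.sm]

/-! ### Comparison with the standard forms -/

theorem b2_smul (b : Bool) (v : V) : b2 b • v = sm b v := by cases b <;> simp [b2]

theorem polar_qb (τ : Bool) (u v : V) : polar (fun v => b2 (qb τ v)) u v = b2 (fb u v) := by
  rw [polar, qb_add]
  cases qb τ u <;> cases qb τ v <;> cases fb u v <;> decide

/-- The quadratic form, bundled. -/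
def qf (τ : Bool) : QuadraticForm (ZMod 2) V := QuadraticMap.ofPolar (fun v => b2 (qb τ v))
  (fun c u => by rcases quad_zmod2_cases c with rfl | rfl <;> simp [b2])
  (fun u v w => by simp only [polar_qb, fb_add_left, b2_xor])
  (fun c u v => by rcases quad_zmod2_cases c with rfl | rfl <;> simp [polar_qb, b2_eq_zero])

theorem qf_apply (τ : Bool) (v : V) : qf τ v = b2 (qb τ v) := rfl

theorem polar_qf (τ : Bool) (u v : V) : polar (qf τ) u v = b2 (fb u v) := polar_qb τ u v

theorem qf_nondeg (τ : Bool) : (polarBilin (qf τ)).Nondegenerate :=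
  (quad_nondeg_iff _).2 fun u hu => eq_of_fb fun w => by
    rw [fb_zero, fb_comm, ← b2_eq_zero, ← polar_qf τ, hu]

theorem exists_equiv {ι : Type} [Fintype ι] [DecidableEq ι] (hι : Fintype.card ι = 8) (p : ι → ℕ)
    (h2 : ∀ v : V, (∀ i, bt v.n (p i) = false) → v = 0) :
    ∃ e : V ≃ₗ[ZMod 2] (ι → ZMod 2), ∀ v i, e v i = b2 (bt v.n (p i)) := by
  let d : V →+ (ι → ZMod 2) := AddMonoidHom.mk' (fun v i => b2 (bt v.n (p i))) fun u v => by
    funext i; rw [bt_add, b2_xor]; rfl
  have k : Function.Injective d := (injective_iff_map_eq_zero d).2 fun v hv => h2 v fun i => b2_eq_zero.1 (congrFun hv i)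
  exact ⟨LinearEquiv.ofBijective (d.toZModLinearMap 2) ((Nat.bijective_iff_injective_and_card _).2 ⟨k, by
    rw [card_V, Nat.card_fun, Nat.card_zmod, Nat.card_eq_fintype_card, hι]; rfl⟩), fun _ _ => rfl⟩

theorem eq_zero_of_bits : ∀ v : V, bt v.n 0 = false → bt v.n 1 = false → bt v.n 2 = false → bt v.n 3 = false →
    bt v.n 4 = false → bt v.n 5 = false → bt v.n 6 = false → bt v.n 7 = false → v = 0 := by decide +kernel

theorem b2_sq : ∀ b, b2 b ^ 2 = b2 b := by decide

theorem equiv_plus : ∃ e : V ≃ₗ[ZMod 2] (Fin 4 ⊕ Fin 4 → ZMod 2), ∀ v, quad_plus 4 (ZMod 2) (e v) = qf false v := by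
  obtain ⟨e, he⟩ := exists_equiv (ι := Fin 4 ⊕ Fin 4) rfl (Sum.elim (·.1) (·.1 + 4)) fun v h =>
    eq_zero_of_bits v (h (.inl 0)) (h (.inl 1)) (h (.inl 2)) (h (.inl 3)) (h (.inr 0)) (h (.inr 1)) (h (.inr 2))
      (h (.inr 3))
  refine ⟨e, fun v => ?_⟩
  rw [quad_plus_apply, Fin.sum_univ_four, qf_apply, qb_bits]
  simp only [he, b2_xor, b2_and]
  exact (add_zero _).symm.trans (congrArg _ (zero_mul _).symm)

theorem equiv_minus : ∃ e : V ≃ₗ[ZMod 2] ((Fin 3 ⊕ Fin 3) ⊕ Fin 2 → ZMod 2),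
    ∀ v, quad_minus 3 (ZMod 2) 1 1 (e v) = qf true v := by
  obtain ⟨e, he⟩ := exists_equiv (ι := (Fin 3 ⊕ Fin 3) ⊕ Fin 2) rfl
    (Sum.elim (Sum.elim (·.1) (·.1 + 4)) (4 * ·.1 + 3)) fun v h =>
    eq_zero_of_bits v (h (.inl (.inl 0))) (h (.inl (.inl 1))) (h (.inl (.inl 2))) (h (.inr 0)) (h (.inl (.inr 0)))
      (h (.inl (.inr 1))) (h (.inl (.inr 2))) (h (.inr 1))
  refine ⟨e, fun v => ?_⟩
  rw [quad_minus_apply, Fin.sum_univ_three, qf_apply, qb_bits]
  simp only [he, b2_xor, b2_and, b2_sq]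
  change b2 (bt v.n 0) * b2 (bt v.n 4) + b2 (bt v.n 1) * b2 (bt v.n 5) + b2 (bt v.n 2) * b2 (bt v.n 6) +
    (b2 (bt v.n 3) + 1 * b2 (bt v.n 3) * b2 (bt v.n 7) + 1 * b2 (bt v.n 7)) = _ + 1 * _
  ring

end Cfsg.Agent.W4
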