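import Mathlib
import Cfsg.Agent.W4.V

/-! Linear algebra in the coded orthogonal spaces: spans, Eichler transformations, canonical bases. -/

set_option autoImplicit false
set_option maxRecDepth 100000
set_option linter.unusedVariables false

namespace Cfsg.Agent.W4

variable {τ : Bool} {T : V → V} {x w w' v : V}

/-- The span of `x` and a list of vectors. -/
def els (x : V) (l : List V) : List V := List.rec [0, x] (fun a _ ih => ih ++ ih.map (a + ·)) l

theorem els_nil : v ∈ els x [] ↔ v = 0 ∨ v = x := by simp [els]

theorem els_cons {a : V} {l : List V} : v ∈ els x (a :: l) ↔ v ∈ els x l ∨ a + v ∈ els x l := by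
  change v ∈ els x l ++ (els x l).map (a + ·) ↔ _
  rw [List.mem_append, List.mem_map]
  exact or_congr_right ⟨fun ⟨u, h, e⟩ => by simpa [← e] using h, fun h => ⟨_, h, by simp⟩⟩

theorem length_els (x : V) (l : List V) : (els x l).length = 2 ^ (l.length + 1) := by
  induction l with
  | nil => rfl
  | cons a l ih =>
    change (els x l ++ (els x l).map (a + ·)).length = _
    rw [List.length_append, List.length_map, ih, List.length_cons]; ring

/-- A subspace containing `x`. -/
structure Sub (x : V) (S : V → Prop) : Prop where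
  zero : S 0
  self : S x
  add : ∀ u v, S u → S v → S (u + v)

theorem Sub.els {S : V → Prop} (h : Sub x S) {l : List V} (k : ∀ a ∈ l, S a) : ∀ v ∈ els x l, S v := by
  induction l with
  | nil => intro v hv; rcases els_nil.1 hv with rfl | rfl; exacts [h.zero, h.self]
  | cons a l ih =>
    intro v hv
    have := ih fun b hb => k b (List.mem_cons_of_mem _ hb)
    rcases els_cons.1 hv with e | e
    · exact this _ e
    · simpa using h.add _ _ (k a List.mem_cons_self) (this _ e)

theorem sub_els (x : V) (l : List V) : Sub x (· ∈ els x l) := by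
  induction l with
  | nil =>
    refine ⟨els_nil.2 (.inl rfl), els_nil.2 (.inr rfl), fun u v hu hv => els_nil.2 ?_⟩
    rcases els_nil.1 hu with rfl | rfl <;> rcases els_nil.1 hv with rfl | rfl <;> simp
  | cons a l ih =>
    refine ⟨els_cons.2 (.inl ih.zero), els_cons.2 (.inl ih.self), fun u v hu hv => els_cons.2 ?_⟩
    rcases els_cons.1 hu with e | e <;> rcases els_cons.1 hv with e' | e' <;> have := ih.add _ _ e e'
    · exact .inl this
    · exact .inr (by rwa [add_left_comm] at this)
    · exact .inr (by rwa [add_assoc] at this)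
    · exact .inl (by rwa [add_add_add_comm, add_self, zero_add] at this)

theorem mem_els {l : List V} {a : V} (h : a ∈ l) : a ∈ els x l := by
  induction l with
  | nil => simp at h
  | cons b l ih =>
    rcases List.mem_cons.1 h with rfl | h
    · exact els_cons.2 (.inr (by simpa using (sub_els x l).zero))
    · exact els_cons.2 (.inl (ih h))

theorem els_append {l l' : List V} : v ∈ els x (l ++ l') ↔ ∃ u ∈ els x l, u + v ∈ els x l' := by
  constructor
  · intro h
    induction l generalizing v with
    | nil => exact ⟨0, (sub_els _ _).zero, by simpa using h⟩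
    | cons a l ih =>
      rcases els_cons.1 h with e | e <;> obtain ⟨u, h1, h2⟩ := ih e
      · exact ⟨u, els_cons.2 (.inl h1), h2⟩
      · exact ⟨a + u, els_cons.2 (.inr (by simpa using h1)), by rwa [add_comm a, add_assoc]⟩
  · rintro ⟨u, h1, h2⟩
    simpa using (sub_els x (l ++ l')).add _ _ ((sub_els _ _).els (fun a ha => mem_els (List.mem_append_left _ ha)) _ h1)
      ((sub_els _ _).els (fun a ha => mem_els (List.mem_append_right _ ha)) _ h2)

theorem Iso.els (h : Iso τ T) {l : List V} : T v ∈ els (T x) (l.map T) ↔ v ∈ els x l := by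
  induction l generalizing v with
  | nil => rw [List.map_nil, els_nil, els_nil, h.eq_zero, h.inj.eq_iff]
  | cons a l ih => rw [List.map_cons, els_cons, els_cons, ← h.add, ih, ih]

/-- Independence modulo `x`. -/
def Ind (x : V) : List V → Prop
  | [] => x ≠ 0
  | a :: l => a ∉ els x l ∧ Ind x l

theorem Ind.nodup {l : List V} (h : Ind x l) : (els x l).Nodup := by
  induction l with
  | nil => exact List.nodup_cons.2 ⟨by simpa using Ne.symm h, List.nodup_singleton _⟩
  | cons a l ih =>
    refine List.Nodup.append (ih h.2) ((ih h.2).map (add_right_injective a)) fun v h1 h2 => h.1 ?_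
    obtain ⟨u, h3, rfl⟩ := List.mem_map.1 h2
    simpa using (sub_els x l).add _ _ h1 h3

theorem card_perp (hx : x ≠ 0) : (Finset.univ.filter fun v => fb v x = false).card = 128 := by
  obtain ⟨u, hu⟩ := exists_fb x hx
  have h1 := Finset.card_filter_add_card_filter_not (s := Finset.univ) (fun v : V => fb v x = false)
  have h2 : (Finset.univ.filter fun v => fb v x = false).card = (Finset.univ.filter fun v => ¬ fb v x = false).card :=
    Finset.card_bij' (fun v _ => u + v) (fun v _ => u + v) (fun v hv => by simp_all [fb_add_left])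
      (fun v hv => by simp_all [fb_add_left]) (by simp) (by simp)
  rw [Finset.card_univ, ← Nat.card_eq_fintype_card, card_V] at h1
  omega

theorem exists_perp (hx : x ≠ 0) {l : List V} (hl : l.length < 6) : ∃ v, fb v x = false ∧ v ∉ els x l := by
  by_contra! k
  have h1 : (Finset.univ.filter fun v => fb v x = false) ⊆ (els x l).toFinset := fun v hv =>
    List.mem_toFinset.2 (k v (Finset.mem_filter.1 hv).2)
  have h2 := (Finset.card_le_card h1).trans (List.toFinset_card_le _)
  rw [card_perp hx, length_els] at h2
  have := Nat.pow_le_pow_right two_pos (show l.length + 1 ≤ 6 by omega)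
  omega

theorem sub_perp (x : V) : Sub x (fb · x = false) := ⟨zero_fb _, fb_self _, fun u v h k => by simp [fb_add_left, h, k]⟩

theorem Ind.perp {l : List V} (h : Ind x l) (hx : x ≠ 0) (hl : l.length = 6) (k : ∀ a ∈ l, fb a x = false)
    (hv : fb v x = false) : v ∈ els x l := by
  have h1 : (els x l).toFinset ⊆ (Finset.univ.filter fun v => fb v x = false) := fun v hv =>
    Finset.mem_filter.2 ⟨Finset.mem_univ _, (sub_perp x).els k _ (List.mem_toFinset.1 hv)⟩
  rw [← List.mem_toFinset, Finset.eq_of_subset_of_card_le h1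
    (by rw [card_perp hx, List.toFinset_card_of_nodup h.nodup, length_els, hl]; rfl)]
  exact Finset.mem_filter.2 ⟨Finset.mem_univ _, hv⟩

theorem perp_perp (x : V) (hx : x ≠ 0) (n : V) (h : ∀ u, fb u x = false → fb u n = false) : n = 0 ∨ n = x := by
  obtain ⟨u, hu⟩ := exists_fb x hx
  have k : ∀ w, fb w n = (fb u n && fb w x) := fun w => by
    cases e : fb w x
    · simpa using h w e
    · have := h (u + w) (by rw [fb_add_left, hu, e]; rfl)
      rw [fb_add_left] at this
      revert this
      cases fb u n <;> cases fb w n <;> decide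
  cases e : fb u n
  · exact .inl (eq_of_fb fun w => by simp [k w, e])
  · exact .inr (eq_of_fb fun w => by simp [k w, e])

/-! ### Eichler transformations -/

theorem rho_of_perp (h : fb v x = false) : rho τ x w v = v + sm (fb v w) x := by simp [rho, h]

theorem rho_zero (τ : Bool) (x v : V) : rho τ x 0 v = v := by simp [rho]; cases fb v x <;> simp

theorem rho_self (hx : qb τ x = false) (v : V) : rho τ x x v = v := by simp [rho, hx]

theorem rho_rho (hw : fb w x = false) (hw' : fb w' x = false) (v : V) :
    rho τ x w (rho τ x w' v) = rho τ x (w + w') v := by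
  have h1 := (fb_comm x w).trans hw
  simp only [rho, fb_add_left, fb_add_right, fb_sm_left, qb_add, hw', fb_self, h1, fb_comm w' w]
  cases fb v x <;> cases fb v w <;> cases fb v w' <;> cases qb τ w <;> cases qb τ w' <;> cases fb w w' <;>
    simp [add_comm, add_left_comm]

theorem iso_rho (hx : qb τ x = false) (hw : fb w x = false) : Iso τ (rho τ x w) := by
  refine ⟨fun u v => ?_, fun v => ?_⟩
  · simp only [rho, fb_add_left, Bool.and_xor_distrib_left, sm_xor]; abel
  · simp only [rho, qb_add, qb_sm, fb_add_left, fb_sm_left, fb_sm_right, hx, hw]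
    cases fb v x <;> cases fb v w <;> cases qb τ w <;> simp

theorem eq_of_rho (hx : x ≠ 0) (h : ∀ v, rho τ x w v = v) : w = 0 ∨ w = x := by
  obtain ⟨u, hu⟩ := exists_fb x hx
  have := h u
  rw [rho, hu, add_assoc, add_eq_left, add_eq_zero_iff] at this
  revert this
  cases (fb u w ^^ (qb τ w && true)) <;> simp +contextual

/-! ### Canonical bases -/

/-- A greedy basis of `S` modulo `x`. -/
def Can (x : V) (S : V → Prop) : List V → Prop
  | [] => True
  | a :: l => Can x S l ∧ S a ∧ a ∉ els x l ∧ ∀ v, S v → v ∉ els x l → a.n ≤ v.n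

theorem exists_can (x : V) (S : V → Prop) (n : ℕ) :
    ∃ l, Can x S l ∧ (l.length = n ∨ l.length < n ∧ ∀ v, S v → v ∈ els x l) := by
  induction n with
  | zero => exact ⟨[], trivial, .inl rfl⟩
  | succ n ih =>
    obtain ⟨l, h, e | e⟩ := ih
    · by_cases k : ∀ v, S v → v ∈ els x l
      · exact ⟨l, h, .inr ⟨by omega, k⟩⟩
      push Not at k
      obtain ⟨a, ha, h2⟩ := exists_minimalFor_of_wellFoundedLT (fun v => S v ∧ v ∉ els x l) V.n k
      exact ⟨a :: l, ⟨h, ha.1, ha.2, fun v h3 h4 => (le_total a.n v.n).elim id (h2 ⟨h3, h4⟩)⟩, .inl (by simp [e])⟩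
    · exact ⟨l, h, .inr ⟨by omega, e.2⟩⟩

theorem Can.mem {S : V → Prop} {l : List V} (h : Can x S l) : ∀ a ∈ l, S a := by
  induction l with
  | nil => simp
  | cons a l ih => exact List.forall_mem_cons.2 ⟨h.2.1, ih h.1⟩

/-- The test for the next vector of a canonical basis. -/
def nxt (x : V) (l : List V) (a : V) : Bool :=
  !fb a x && Nat.ble a.n (a + x).n && l.all fun b => Nat.ble b.n a.n && Nat.ble a.n (a + b).n

theorem Can.le {S : V → Prop} {l : List V} (h : Can x S l) {a : V} (h1 : S a) (h2 : a ∉ els x l) :
    ∀ b ∈ l, b.n ≤ a.n := by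
  induction l with
  | nil => simp
  | cons b l ih =>
    have k : a ∉ els x l := fun e => h2 (els_cons.2 (.inl e))
    exact List.forall_mem_cons.2 ⟨h.2.2.2 a h1 k, ih h.1 k⟩

theorem Can.nxt {S : V → Prop} (hs : Sub x S) {a : V} {l : List V} (h : Can x S (a :: l)) (k : fb a x = false) :
    nxt x l a = true := by
  have k1 : ∀ b, S b → b ∈ els x l → a.n ≤ (a + b).n := fun b h1 h2 => h.2.2.2 _ (hs.add _ _ h.2.1 h1) fun e =>
    h.2.2.1 (by simpa using (sub_els x l).add _ _ e h2)
  simp only [W4.nxt, k, Bool.and_eq_true, List.all_eq_true, Nat.ble_eq]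
  exact ⟨⟨rfl, k1 x hs.self (sub_els x l).self⟩, fun b hb =>
    ⟨h.1.le h.2.1 h.2.2.1 b hb, k1 b (h.1.mem b hb) (mem_els hb)⟩⟩

end Cfsg.Agent.W4
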