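import Mathlib
import Cfsg.Agent.W3.U1
import Cfsg.Agent.W4.L
import Cfsg.Agent.Spor.ESPair2
import Cfsg.Agent.GT.TransferPNilp
import Cfsg.Agent.S3299

/-! Coordinates on a large extraspecial group `Q` of order `2^9`, and the data attached to a conjugate of the central
involution inside `Q`. -/

set_option autoImplicit false
set_option linter.unusedSectionVars false
set_option linter.unusedVariables false

namespace Cfsg.Agent.W4

open Cfsg.Agent.Spor Cfsg.Agent.Spor.TT Cfsg.Agent.LX Cfsg.Agent.Gr6 Cfsg.Agent.Cl Cfsg.Agent.W3 Subgroup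

variable {G : Type*} [Group G] {z a b e g q s t x y : G} {τ : Bool} {π : G → V} {S S' T σ : V → V} {u v w : V}

/-- Coordinates on `Q / ⟨z⟩`. -/
structure Co (z : G) (τ : Bool) (π : G → V) : Prop where
  bg : WP.Bg z
  card : Nat.card (QQ z) = 512
  mul : ∀ x ∈ QQ z, ∀ y ∈ QQ z, π (x * y) = π x + π y
  surj : ∀ v, ∃ x ∈ QQ z, π x = v
  ker : ∀ x ∈ QQ z, π x = 0 ↔ x = 1 ∨ x = z
  sq : ∀ x ∈ QQ z, x * x = 1 ↔ qb τ (π x) = false
  comm : ∀ x ∈ QQ z, ∀ y ∈ QQ z, Commute x y ↔ fb (π x) (π y) = false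

theorem exists_co [Finite G] (h : WP.Bg z) (hc : Nat.card (QQ z) = 512) : ∃ τ π, Co z τ π := by
  classical
  obtain ⟨τ, ⟨M⟩⟩ : ∃ τ, Nonempty (QuadES (QQ z) (qf τ)) := by
    by_cases k : ∃ A : Subgroup (QQ z), IsElementaryAbelian 2 A ∧ Nat.card A = 2 ^ (4 + 1)
    · obtain ⟨M⟩ := quad_quadES_plus h.es.isExtraspecial (n := 4) hc k
      obtain ⟨e, he⟩ := equiv_plus
      exact ⟨false, ⟨M.congr e.symm fun u => by rw [← he, e.apply_symm_apply]⟩⟩
    · obtain ⟨M⟩ := quad_quadES_minus h.es.isExtraspecial (n := 4) hc k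
      obtain ⟨e, he⟩ := equiv_minus
      exact ⟨true, ⟨M.congr e.symm fun u => by rw [← he, e.apply_symm_apply]⟩⟩
  have hz : (M.z : G) = z := (h.es.center _ M.z.2 fun q hq => congrArg Subtype.val (M.z_comm ⟨q, hq⟩)).resolve_left
    fun e => M.z_ne (Subtype.ext e)
  refine ⟨τ, fun x => if hx : x ∈ QQ z then M.χ ⟨x, hx⟩ else 0, h, hc, fun x hx y hy => ?_, fun v => ?_, fun x hx => ?_,
    fun x hx => ?_, fun x hx y hy => ?_⟩
  · simp only [dif_pos hx, dif_pos hy, dif_pos (mul_mem hx hy)]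
    exact M.χ_mul ⟨x, hx⟩ ⟨y, hy⟩
  · obtain ⟨x, rfl⟩ := M.surj v
    exact ⟨x, x.2, dif_pos x.2⟩
  · simp only [dif_pos hx, M.ker, Subtype.ext_iff, hz, coe_one]
  · simp only [dif_pos hx, ← b2_eq_zero, ← qf_apply, ← M.mul_self_eq_one_iff, Subtype.ext_iff, coe_mul, coe_one]
  · simp only [dif_pos hx, dif_pos hy, ← b2_eq_zero, ← polar_qf τ, ← M.comm_iff, Subtype.ext_iff, coe_mul]
    rfl

/-- `g` centralises `z` and acts as `T`. -/
def Ac (z : G) (π : G → V) (g : G) (T : V → V) : Prop := Commute z g ∧ ∀ x ∈ QQ z, π (cj g x) = T (π x)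

/-- `t` is a conjugate of `z` in `Q`. -/
structure Pt (z t : G) : Prop where
  conj : IsConj z t
  mem : t ∈ QQ z
  ne : t ≠ z

/-- The image of `Q ∩ Q_t`. -/
def Et (z : G) (π : G → V) (t : G) (v : V) : Prop := ∃ e ∈ QQ z, e ∈ QQ t ∧ π e = v

/-- The parameters of the Eichler transformations induced by `Q_t`. -/
def Wt (z : G) (τ : Bool) (π : G → V) (t : G) (w : V) : Prop :=
  fb w (π t) = false ∧ ∃ a ∈ QQ t, Ac z π a (rho τ (π t) w)

theorem commute_cj (hg : Commute z g) (ha : Commute z a) : Commute z (cj g a) :=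
  (hg.mul_right ha).mul_right hg.inv_right

theorem Ac.congr (k : Ac z π g S) (e : ∀ v, S v = T v) : Ac z π g T := ⟨k.1, fun x hx => (k.2 x hx).trans (e _)⟩

namespace Co

variable (h : Co z τ π)
include h

theorem zz : z * z = 1 := h.bg.sq
theorem one : π 1 = 0 := (h.ker 1 (one_mem _)).2 (.inl rfl)
theorem self : π z = 0 := (h.ker z h.bg.z_mem).2 (.inr rfl)
theorem inv (hx : x ∈ QQ z) : π x⁻¹ = π x := by
  rw [← add_eq_zero_iff, ← h.mul _ (inv_mem hx) _ hx, inv_mul_cancel, h.one]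
theorem z_mul (hx : x ∈ QQ z) : π (z * x) = π x := by rw [h.mul _ h.bg.z_mem _ hx, h.self, zero_add]
theorem eq_iff (hx : x ∈ QQ z) (hy : y ∈ QQ z) : π x = π y ↔ x = y ∨ x = z * y := by
  rw [← add_eq_zero_iff, ← h.inv hy, ← h.mul _ hx _ (inv_mem hy), h.ker _ (mul_mem hx (inv_mem hy)), mul_inv_eq_one,
    mul_inv_eq_iff_eq_mul]
theorem sq' (hx : x ∈ QQ z) : x * x = z ↔ qb τ (π x) = true := by
  rw [← Bool.not_eq_false, ← h.sq x hx]
  exact ⟨fun e e' => h.bg.ne_one (e.symm.trans e'), (h.bg.es.sq x hx).resolve_left⟩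
theorem cj_of_fb (hx : x ∈ QQ z) (hy : y ∈ QQ z) (k : fb (π x) (π y) = true) : cj x y = z * y :=
  h.bg.es.aes.conj_of_ne hx hy fun e => by simpa [k] using (h.comm x hx y hy).1 e
theorem cj_mem (k : Ac z π g T) (hx : x ∈ QQ z) : cj g x ∈ QQ z := h.bg.cj_mem k.1 hx

theorem exists_ac (hg : Commute z g) : ∃ T, Ac z π g T := by
  choose l h1 h2 using h.surj
  refine ⟨fun v => π (cj g (l v)), hg, fun x hx => ?_⟩
  rcases (h.eq_iff (h1 _) hx).1 (h2 (π x)) with e | e <;> simp only [e]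
  rw [cj_mul, cj_of_commute hg.symm, h.z_mul (h.bg.cj_mem hg hx)]

theorem iso (k : Ac z π g T) : Iso τ T := by
  refine ⟨fun u v => ?_, fun v => ?_⟩
  · obtain ⟨x, hx, rfl⟩ := h.surj u
    obtain ⟨y, hy, rfl⟩ := h.surj v
    rw [← h.mul x hx y hy, ← k.2 _ (mul_mem hx hy), cj_mul, h.mul _ (h.cj_mem k hx) _ (h.cj_mem k hy), k.2 x hx, k.2 y hy]
  · obtain ⟨x, hx, rfl⟩ := h.surj v
    rw [← k.2 x hx, ← Bool.not_inj_iff, Bool.eq_iff_iff, Bool.not_eq_true', Bool.not_eq_true', ← h.sq _ hx,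
      ← h.sq _ (h.cj_mem k hx), ← cj_mul, cj_eq_iff, cj_one_right]

theorem ac_ext (k : Ac z π g S) (k' : Ac z π g T) (v : V) : S v = T v := by
  obtain ⟨x, hx, rfl⟩ := h.surj v
  rw [← k.2 x hx, k'.2 x hx]

theorem ac_mul (k : Ac z π a S) (k' : Ac z π b T) : Ac z π (a * b) (S ∘ T) :=
  ⟨k.1.mul_right k'.1, fun x hx => by rw [← cj_cj, k.2 _ (h.cj_mem k' hx), k'.2 x hx]; rfl⟩

theorem ac_inv (k : Ac z π g T) (e : ∀ v, T (S v) = v) : Ac z π g⁻¹ S :=
  ⟨k.1.inv_right, fun x hx => (h.iso k).inj (by rw [← k.2 _ (h.bg.cj_mem k.1.inv_right hx), cj_cj_inv, e])⟩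

theorem ac_mem (hg : g ∈ QQ z) : Ac z π g id := ⟨h.bg.comm hg, fun x hx => by
  rw [cj_def, h.mul _ (mul_mem hg hx) _ (inv_mem hg), h.mul _ hg _ hx, h.inv hg, add_comm, add_add_self, id]⟩

theorem mem_of_ac (k : Ac z π g T) (e : ∀ v, T v = v) : g ∈ QQ z :=
  h.bg.lg.triv g k.1.eq fun x hx => (h.eq_iff (h.cj_mem k hx) hx).1 ((k.2 x hx).trans (e _))

theorem mul_inv_mem (k : Ac z π a S) (k' : Ac z π b T) (e : ∀ v, S v = T v) : a * b⁻¹ ∈ QQ z := by
  obtain ⟨T', k2⟩ := h.exists_ac k'.1.inv_right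
  exact h.mem_of_ac (h.ac_mul k k2) fun v => (e _).trans
    (h.ac_ext (T := id) (h.ac_mul k' k2) (by simpa using h.ac_mem (one_mem _)) v)

theorem ac_cj (k : Ac z π g T) (k' : Ac z π a S) (e : ∀ v, T (S v) = S' (T v)) : Ac z π (cj g a) S' :=
  ⟨commute_cj k.1 k'.1, fun x hx => by
    have hy := h.bg.cj_mem k.1.inv_right hx
    rw [← cj_cj_inv g x, ← cj_dist, k.2 _ (h.cj_mem k' hy), k'.2 _ hy, e, k.2 _ hy]⟩

theorem ac_of_cj (k : Ac z π g T) (k' : Ac z π (cj g a) S') (e : ∀ v, T (S v) = S' (T v)) : Ac z π a S := by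
  have ha : Commute z a := by simpa [cj_inv_cj] using commute_cj k.1.inv_right k'.1
  exact ⟨ha, fun x hx => (h.iso k).inj (by
    rw [← k.2 _ (h.bg.cj_mem ha hx), cj_dist, k'.2 _ (h.cj_mem k hx), k.2 x hx, e])⟩

theorem fix_iff (k : Ac z π g T) (hx : x ∈ QQ z) : T (π x) = π x ↔ cj g x = x ∨ cj g x = z * x := by
  rw [← k.2 x hx, h.eq_iff (h.cj_mem k hx) hx]

theorem fix_of_comm (k : Ac z π g T) (hx : x ∈ QQ z) (c : Commute g x) : T (π x) = π x :=
  (h.fix_iff k hx).2 (.inl (cj_of_commute c))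

theorem pi_nm (k : Ac z π g T) (hx : x ∈ QQ z) : π (nm g x) = π x + T (π x) := by
  rw [nm, h.mul _ hx _ (h.cj_mem k (inv_mem hx)), k.2 _ (inv_mem hx), h.inv hx]

theorem comp (k : Iso τ σ) : Co z τ (σ ∘ π) where
  bg := h.bg
  card := h.card
  mul x hx y hy := by simp only [Function.comp, h.mul x hx y hy, k.add]
  surj v := by
    obtain ⟨u, rfl⟩ := k.surj v
    obtain ⟨x, hx, rfl⟩ := h.surj u
    exact ⟨x, hx, rfl⟩
  ker x hx := k.eq_zero.trans (h.ker x hx)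
  sq x hx := by rw [Function.comp, k.q, h.sq x hx]
  comm x hx y hy := by rw [Function.comp, Function.comp, k.f, h.comm x hx y hy]

theorem conj (g : G) : Co (cj g z) τ (fun x => π (cj g⁻¹ x)) where
  bg := h.bg.of_isConj (LX.isConj_cj g z)
  card := (card_QQ (LX.isConj_cj g z)).trans h.card
  mul x hx y hy := by rw [cj_mul, h.mul _ (mem_QQ_cj.1 hx) _ (mem_QQ_cj.1 hy)]
  surj v := by
    obtain ⟨x, hx, rfl⟩ := h.surj v
    exact ⟨_, cj_mem_QQ.2 hx, by rw [cj_inv_cj]⟩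
  ker x hx := by rw [h.ker _ (mem_QQ_cj.1 hx), cj_eq_iff, cj_eq_iff, inv_inv, cj_one_right]
  sq x hx := by rw [← h.sq _ (mem_QQ_cj.1 hx), ← cj_mul, cj_eq_iff, cj_one_right]
  comm x hx y hy := by
    rw [← h.comm _ (mem_QQ_cj.1 hx) _ (mem_QQ_cj.1 hy), commute_iff_eq, commute_iff_eq, ← cj_mul, ← cj_mul, cj_inj]

theorem of_isConj (ha : IsConj z a) : ∃ π', Co a τ π' := let ⟨g, e⟩ := exists_cj ha; e ▸ ⟨_, h.conj g⟩

theorem et_cj (k : Ac z π g T) : Et z π (cj g t) (T v) ↔ Et z π t v := by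
  refine ⟨fun ⟨e, h1, h2, h3⟩ => ⟨_, h.bg.cj_mem k.1.inv_right h1, mem_QQ_cj.1 h2, (h.iso k).inj ?_⟩,
    fun ⟨e, h1, h2, h3⟩ => ⟨_, h.cj_mem k h1, cj_mem_QQ.2 h2, by rw [k.2 e h1, h3]⟩⟩
  rw [← k.2 _ (h.bg.cj_mem k.1.inv_right h1), cj_cj_inv, h3]

theorem wt_cj (k : Ac z π g T) (ht : t ∈ QQ z) : Wt z τ π (cj g t) (T w) ↔ Wt z τ π t w := by
  rw [Wt, Wt, k.2 t ht, (h.iso k).f]
  refine and_congr_right fun _ => ⟨fun ⟨a, h1, h2⟩ => ⟨_, mem_QQ_cj.1 h1, h.ac_of_cj k (by rwa [cj_cj_inv])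
    ((h.iso k).rho _ _)⟩, fun ⟨a, h1, h2⟩ => ⟨_, cj_mem_QQ.2 h1, h.ac_cj k h2 ((h.iso k).rho _ _)⟩⟩

omit h in
theorem et_comp (k : Iso τ σ) : Et z (σ ∘ π) t (σ v) ↔ Et z π t v := by
  simp only [Et, Function.comp, k.inj.eq_iff]

omit h in
theorem wt_comp (k : Iso τ σ) : Wt z τ (σ ∘ π) t (σ w) ↔ Wt z τ π t w := by
  simp only [Wt, Ac, Function.comp, k.f, ← k.rho, k.inj.eq_iff]

/-- The centraliser of `z` fixes no nonzero vector. -/
theorem nofix [Finite G] [IsSimpleGroup G] (hv : v ≠ 0) : ∃ g T, Ac z π g T ∧ T v ≠ v := by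
  by_contra! k
  obtain ⟨x, hx, rfl⟩ := h.surj v
  have k1 : ∀ g, Commute z g → cj g x = x ∨ cj g x = z * x := fun g hg =>
    let ⟨T, c⟩ := h.exists_ac hg; (h.fix_iff c hx).1 (k g T c)
  have hm : ∀ {g}, g ∈ centralizer ({z} : Set G) ↔ Commute z g := Spor.mem_centralizer_singleton
  have hm' : ∀ {g}, g ∈ centralizer ({x} : Set G) ↔ cj g x = x := by
    intro g; rw [cj_eq_self_iff, Spor.mem_centralizer_singleton]; exact eq_comm
  obtain ⟨u, hu⟩ := exists_fb _ hv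
  obtain ⟨y, hy, rfl⟩ := h.surj u
  have k2 : ∀ {g}, cj g x = z * x → cj g x ≠ x := fun e e' => h.bg.ne_one (by simpa [e'] using e)
  have k3 := h.cj_of_fb hy hx hu
  have k4 : ∀ {g}, Commute z g → cj g x = z * x → cj g (z * x) = x := fun hg e => by
    rw [cj_mul, cj_of_commute hg.symm, e, ← mul_assoc, h.zz, one_mul]
  have hP : pResidual 2 G = ⊤ := GT.Tr.pResidual_eq_top_iff.2 fun N hN e => by
    have h1 := card_subgroup_dvd_card (QQ z)
    rcases hN.eq_bot_or_eq_top with rfl | rfl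
    · rw [index_bot] at e
      rw [e, h.card] at h1
      omega
    · simp at e
  refine k2 k3 (hm'.1 (S3299.result hP z h.bg.es.orderOf_z (QQ z) rfl h.bg.es.isExtraspecial h.bg.lg.centralizer_le 4
    (by norm_num) h.card (centralizer {z} ⊓ centralizer {x}) inf_le_left (fun g hg => ?_)
    (relIndex_eq_two_iff.2 ⟨y, hm.2 (h.bg.comm hy), fun b hb => ?_⟩) hy).2)
  · ext a
    have hg := hm.1 hg
    rw [mem_map_conj_iff, mem_inf, mem_inf, hm, hm, hm', hm', ← cj_cj, ← cj_cj, cj_eq_iff, inv_inv]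
    refine (and_congr_left' ⟨fun c => ?_, fun c => (hg.inv_right.mul_right c).mul_right hg⟩).trans
      (and_congr_right fun c => ?_)
    · simpa [cj, mul_assoc] using commute_cj hg c
    rcases k1 g hg with e | e <;> rw [e]
    rw [cj_mul, cj_of_commute c.symm, mul_right_inj]
  · have hb := hm.1 hb
    rw [mem_inf, mem_inf, hm, hm, hm', hm', ← cj_cj, k3]
    rcases k1 b hb with e | e
    · exact .inr ⟨⟨hb, e⟩, fun c => k2 (g := b * y) (by rw [← cj_cj, k3, cj_mul, e, cj_of_commute hb.symm])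
        (by rw [← cj_cj, k3, c.2])⟩
    · exact .inl ⟨⟨hb.mul_right (h.bg.comm hy), k4 hb e⟩, fun c => k2 e c.2⟩

end Co

end Cfsg.Agent.W4
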