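import Mathlib
import Cfsg.Agent.W4.Co

/-! A conjugate `t` of `z` in `Q`: the action of the centraliser of `z` in `Q_t` (port of `W3/FP`). -/

set_option autoImplicit false
set_option linter.unusedSectionVars false
set_option linter.unusedVariables false

namespace Cfsg.Agent.W4

open Cfsg.Agent.Spor Cfsg.Agent.Spor.TT Cfsg.Agent.LX Cfsg.Agent.Gr6 Cfsg.Agent.Cl Cfsg.Agent.W3 Subgroup

variable {G : Type*} [Group G] [Finite G] {z a b e g m q s t x y : G} {τ : Bool} {π : G → V} {S T σ : V → V}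
  {u v w : V}

theorem Pt.cj (h : WP.Bg z) (p : Pt z t) (hg : Commute z g) : Pt z (cj g t) :=
  ⟨p.conj.trans (LX.isConj_cj g t), h.cj_mem hg p.mem, fun e => p.ne (by
    rw [cj_eq_iff, cj_of_commute hg.inv_right.symm] at e; exact e)⟩

theorem Pt.conj_pt (p : Pt z t) (g : G) : Pt (TT.cj g z) (TT.cj g t) :=
  ⟨(LX.isConj_cj g z).symm.trans (p.conj.trans (LX.isConj_cj g t)), cj_mem_QQ.2 p.mem, fun e => p.ne (cj_inj.1 e)⟩

/-- The centraliser of `z` in `Q_t` acts by Eichler transformations. -/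
def Eich (z : G) (τ : Bool) (π : G → V) (t : G) : Prop :=
  ∀ a ∈ QQ t, Commute z a → ∃ w, fb w (π t) = false ∧ Ac z π a (rho τ (π t) w)

/-- The maps induced by the centraliser of `z` in `Q_t`. -/
def At (z : G) (π : G → V) (t : G) (T : V → V) : Prop := ∃ a ∈ QQ t, Ac z π a T

namespace Co

variable (h : Co z τ π)
include h

theorem pair (p : Pt z t) : ESPair (QQ z) (QQ t) z t := by
  obtain ⟨g, rfl⟩ := exists_cj p.conj
  rw [QQ_cj]
  exact ESPair.of_width h.bg.es h.bg.lg (by rw [h.card]; norm_num) p.mem p.ne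

theorem symm (p : Pt z t) : Pt t z := ⟨p.conj.symm, (h.pair p).z_mem, p.ne.symm⟩

theorem bgt (p : Pt z t) : WP.Bg t := h.bg.of_isConj p.conj

theorem pt_ne (p : Pt z t) : π t ≠ 0 := fun e => ((h.ker t p.mem).1 e).elim (h.bgt p).ne_one p.ne

theorem pt_q (p : Pt z t) : qb τ (π t) = false := (h.sq t p.mem).1 (h.bgt p).sq

theorem exists_q (p : Pt z t) : ∃ q ∈ QQ z, fb (π q) (π t) = true := by
  obtain ⟨u, hu⟩ := exists_fb _ (h.pt_ne p)
  obtain ⟨q, hq, rfl⟩ := h.surj u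
  exact ⟨q, hq, hu⟩

theorem pt_z (p : Pt z t) : Pt z (z * t) := by
  obtain ⟨q, hq, k⟩ := h.exists_q p
  exact h.cj_of_fb hq p.mem k ▸ p.cj h.bg (h.bg.comm hq)

/-- Both elements over a point are conjugate under `Q`. -/
theorem pt_eq (p : Pt z t) (hs : s ∈ QQ z) (e : π s = π t) : ∃ q ∈ QQ z, s = cj q t := by
  rcases (h.eq_iff hs p.mem).1 e with rfl | rfl
  · exact ⟨1, one_mem _, (cj_one _).symm⟩
  · obtain ⟨q, hq, k⟩ := h.exists_q p
    exact ⟨q, hq, (h.cj_of_fb hq p.mem k).symm⟩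

theorem pt_of_eq (p : Pt z t) (hs : s ∈ QQ z) (e : π s = π t) : Pt z s :=
  let ⟨q, hq, k⟩ := h.pt_eq p hs e; k ▸ p.cj h.bg (h.bg.comm hq)

theorem et_of_eq (p : Pt z t) (hs : s ∈ QQ z) (e : π s = π t) : Et z π s v ↔ Et z π t v :=
  let ⟨q, hq, k⟩ := h.pt_eq p hs e; k ▸ h.et_cj (h.ac_mem hq)

theorem wt_of_eq (p : Pt z t) (hs : s ∈ QQ z) (e : π s = π t) : Wt z τ π s v ↔ Wt z τ π t v :=
  let ⟨q, hq, k⟩ := h.pt_eq p hs e; k ▸ h.wt_cj (h.ac_mem hq) p.mem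

theorem mem_of_et (p : Pt z t) (hx : x ∈ QQ z) (k : Et z π t (π x)) : x ∈ QQ t := by
  obtain ⟨e, h1, h2, h3⟩ := k
  rcases (h.eq_iff hx h1).1 h3.symm with rfl | rfl
  exacts [h2, mul_mem (h.symm p).mem h2]

theorem E3 (p : Pt z t) (h1 : x ∈ QQ t) (h2 : x ∈ QQ (z * t)) : x ∈ QQ z := by
  obtain ⟨b, hb, -, e⟩ := (h.pair p).symm.exists_q
  have e' : cj b z = z * t := e.trans (h.bg.comm p.mem).symm.eq
  rw [← e'] at h2
  simpa [cj, mul_assoc] using ((h.pair p).conj_mem_E (mem_sup_right hb)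
    ⟨mem_QQ_cj.1 h2, (h.bgt p).cj_mem ((h.bgt p).comm (inv_mem hb)) h1⟩).1

theorem E3' (p : Pt z t) (h1 : x ∈ QQ z) (h2 : x ∈ QQ (z * t)) : x ∈ QQ t := by
  obtain ⟨π', h'⟩ := h.of_isConj p.conj
  exact h'.E3 (h.symm p) h1 (by rwa [← (h.bg.comm p.mem).eq])

theorem sub_et (p : Pt z t) : Sub (π t) (Et z π t) :=
  ⟨⟨1, one_mem _, one_mem _, h.one⟩, ⟨t, p.mem, (h.bgt p).z_mem, rfl⟩,
    fun _ _ ⟨a, h1, h2, h3⟩ ⟨b, k1, k2, k3⟩ => ⟨a * b, mul_mem h1 k1, mul_mem h2 k2, by rw [h.mul a h1 b k1, h3, k3]⟩⟩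

theorem et_q (p : Pt z t) (k : Et z π t v) : qb τ v = false :=
  let ⟨e, h1, h2, h3⟩ := k; h3 ▸ (h.sq e h1).1 ((h.pair p).E_sq ⟨h1, h2⟩)

theorem et_f (p : Pt z t) (k : Et z π t u) (k' : Et z π t v) : fb u v = false := by
  simpa [qb_add, h.et_q p k, h.et_q p k'] using h.et_q p ((h.sub_et p).add _ _ k k')

theorem nm_mem_t (p : Pt z t) (ha : a ∈ QQ t) (hm : Commute t m) : nm a m ∈ QQ t := by
  simpa [nm, cj, mul_assoc] using mul_mem ((h.bgt p).cj_mem hm ha) (inv_mem ha)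

theorem nm_mul_mem (p : Pt z t) (ha : a ∈ QQ t) (hq : q ∈ QQ z) (k : fb (π q) (π t) = true) :
    nm a q * a ∈ QQ (z * t) := by
  rw [← h.cj_of_fb hq p.mem k]
  simpa [nm, cj, mul_assoc] using (cj_mem_QQ (g := q)).2 ha

theorem mem_of_et_nm (p : Pt z t) (ha : a ∈ QQ t) (hz : Commute z a) (hq : q ∈ QQ z) (k : fb (π q) (π t) = true)
    (k' : Et z π t (π (nm a q))) : a ∈ QQ z := by
  have h1 := nm_mem h.bg hz hq
  simpa using mul_mem (inv_mem h1) (h.E3 p (mul_mem (h.mem_of_et p h1 k') ha) (h.nm_mul_mem p ha hq k))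

theorem at_fix (p : Pt z t) (k : At z π t T) : T (π t) = π t :=
  let ⟨a, ha, c⟩ := k; h.fix_of_comm c p.mem ((h.bgt p).comm ha).symm

theorem at_iso (k : At z π t T) : Iso τ T := let ⟨a, ha, c⟩ := k; h.iso c

theorem at_id : At z π t id := ⟨1, one_mem _, h.ac_mem (one_mem _)⟩

theorem at_comp (k : At z π t S) (k' : At z π t T) : At z π t (S ∘ T) :=
  let ⟨a, ha, c⟩ := k; let ⟨b, hb, d⟩ := k'; ⟨a * b, mul_mem ha hb, h.ac_mul c d⟩

theorem at_et (p : Pt z t) (k : At z π t T) (hv : fb v (π t) = false) : Et z π t (v + T v) := by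
  obtain ⟨a, ha, c⟩ := k
  obtain ⟨m, hm, rfl⟩ := h.surj v
  exact ⟨_, nm_mem h.bg c.1 hm, h.nm_mem_t p ha ((h.comm _ hm _ p.mem).2 hv).symm, h.pi_nm c hm⟩

theorem at_w (p : Pt z t) (k : At z π t T) (hv : fb v (π t) = true) :
    T (v + T v) = v + T v ∨ T (v + T v) = v + T v + π t := by
  obtain ⟨a, ha, c⟩ := k
  obtain ⟨q, hq, rfl⟩ := h.surj v
  have h1 := nm_mem h.bg c.1 hq
  have h2 := (h.bgt (h.pt_z p)).es.sq _ (h.nm_mul_mem p ha hq hv)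
  have h3 := (h.bgt p).es.sq _ ha
  rw [← h.pi_nm c hq]
  generalize nm a q = m at h1 h2
  have h4 : m * cj a m = m * a * (m * a) * (a * a)⁻¹ := by simp [cj, mul_assoc]
  have h5 : π m + T (π m) = 0 ∨ π m + T (π m) = π t := by
    rw [← c.2 m h1, ← h.mul _ h1 _ (h.cj_mem c h1), h4]
    rcases h2 with e | e <;> rcases h3 with e' | e' <;> rw [e, e']
    · exact .inl (by simpa using h.one)
    · exact .inr (by rw [one_mul, h.inv p.mem])
    · exact .inr (by rw [inv_one, mul_one, h.z_mul p.mem])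
    · exact .inl (by simpa using h.self)
  exact h5.imp (fun e => (add_eq_zero_iff.1 e).symm) fun e => by rw [← e, add_add_self]

theorem at_eq (p : Pt z t) (k : At z π t T) (hv : fb v (π t) = true) (e : Et z π t (v + T v)) (u : V) : T u = u := by
  obtain ⟨a, ha, c⟩ := k
  obtain ⟨q, hq, rfl⟩ := h.surj v
  exact h.ac_ext c (h.ac_mem (h.mem_of_et_nm p ha c.1 hq hv (h.pi_nm c hq ▸ e))) u

theorem at_cj (k : Ac z π g σ) (k' : At z π t S) (e : ∀ v, σ (S v) = T (σ v)) : At z π (cj g t) T :=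
  let ⟨a, ha, c⟩ := k'; ⟨_, cj_mem_QQ.2 ha, h.ac_cj k c e⟩

theorem at_of_cj (k : Ac z π g σ) (k' : At z π (cj g t) T) (e : ∀ v, σ (S v) = T (σ v)) : At z π t S :=
  let ⟨a, ha, c⟩ := k'; ⟨_, mem_QQ_cj.1 ha, h.ac_of_cj k (by rwa [cj_cj_inv]) e⟩

theorem at_of_eq (p : Pt z t) (hs : s ∈ QQ z) (e : π s = π t) : At z π s T ↔ At z π t T :=
  let ⟨q, hq, k⟩ := h.pt_eq p hs e
  k ▸ ⟨fun c => h.at_of_cj (h.ac_mem hq) c fun _ => rfl, fun c => h.at_cj (h.ac_mem hq) c fun _ => rfl⟩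

omit h in
theorem ac_comp (k : Iso τ σ) (e : ∀ v, σ (S v) = T (σ v)) : Ac z (σ ∘ π) g T ↔ Ac z π g S := by
  simp only [Ac, Function.comp, ← e, k.inj.eq_iff]

omit h in
theorem at_comp_iff (k : Iso τ σ) (e : ∀ v, σ (S v) = T (σ v)) : At z (σ ∘ π) t T ↔ At z π t S := by
  simp only [At, ac_comp k e]

/-- The action of `Q_t ∩ C(z)` in the Eichler case. -/
theorem ac_rho (p : Pt z t) (ei : Eich z τ π t) (ha : a ∈ QQ t) (hz : Commute z a) (hq : q ∈ QQ z)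
    (k : fb (π q) (π t) = true) : Ac z π a (rho τ (π t) (π (nm a q))) := by
  obtain ⟨w, hw, c⟩ := ei a ha hz
  refine c.congr fun v => ?_
  have e : π q + rho τ (π t) w (π q) = w + sm (fb (π q) w ^^ qb τ w) (π t) := by
    rw [rho, k, add_assoc, add_add_self, sm_true, Bool.and_true]
  rw [h.pi_nm c hq, e]
  cases (fb (π q) w ^^ qb τ w)
  · rw [sm_false, add_zero]
  · rw [sm_true, ← rho_rho hw (fb_self _), rho_self (h.pt_q p)]

theorem fb_nm (p : Pt z t) (ha : a ∈ QQ t) (hz : Commute z a) (hq : q ∈ QQ z) : fb (π (nm a q)) (π t) = false := by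
  obtain ⟨T, c⟩ := h.exists_ac hz
  have := (h.iso c).f (π q) (π t)
  rw [h.fix_of_comm c p.mem ((h.bgt p).comm ha).symm] at this
  simp [h.pi_nm c hq, fb_add_left, this]

theorem sub_wt (p : Pt z t) : Sub (π t) (Wt z τ π t) :=
  ⟨⟨zero_fb _, 1, one_mem _, (h.ac_mem (one_mem _)).congr fun v => (rho_zero _ _ v).symm⟩,
    ⟨fb_self _, 1, one_mem _, (h.ac_mem (one_mem _)).congr fun v => (rho_self (h.pt_q p) v).symm⟩,
    fun _ _ ⟨h1, a, h2, h3⟩ ⟨k1, b, k2, k3⟩ => ⟨(sub_perp _).add _ _ h1 k1, a * b, mul_mem h2 k2,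
      (h.ac_mul h3 k3).congr (rho_rho h1 k1)⟩⟩

theorem iso_wt (p : Pt z t) (k : Wt z τ π t w) : Iso τ (rho τ (π t) w) := iso_rho (h.pt_q p) k.1

theorem mem_iff_of_rho (p : Pt z t) (c : Ac z π a (rho τ (π t) w)) : a ∈ QQ z ↔ w = 0 ∨ w = π t := by
  refine ⟨fun k => eq_of_rho (h.pt_ne p) (h.ac_ext c (h.ac_mem k)), fun k => h.mem_of_ac c fun v => ?_⟩
  rcases k with rfl | rfl
  exacts [rho_zero _ _ _, rho_self (h.pt_q p) _]

theorem et_wt (p : Pt z t) (k : Et z π t w) (k' : Wt z τ π t w) : w = 0 ∨ w = π t := by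
  obtain ⟨-, a, ha, c⟩ := k'
  obtain ⟨q, hq, k1⟩ := h.exists_q p
  refine (h.mem_iff_of_rho p c).1 (h.mem_of_et_nm p ha c.1 hq k1 ?_)
  rw [h.pi_nm c hq, rho, k1, add_assoc, add_add_self, sm_true]
  refine (h.sub_et p).add _ _ k ?_
  cases (fb (π q) w ^^ (qb τ w && true))
  exacts [(h.sub_et p).zero, (h.sub_et p).self]

/-- For `m ∈ C_Q(t)` and `b ∈ Q_t` not centralising `z`, the commutator lies in `Q_t ∩ C(z)`. -/
theorem exists_partner (p : Pt z t) (hm : m ∈ QQ z) (hv : fb (π m) (π t) = false) (hb : b ∈ QQ t)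
    (e : cj b z = z * t) (hq : q ∈ QQ z) (k : fb (π q) (π t) = true) :
    m⁻¹ * cj b m ∈ QQ t ∧ Commute z (m⁻¹ * cj b m) ∧ Et z π t (π m + π (nm (m⁻¹ * cj b m) q)) := by
  have c : Commute t m := ((h.comm _ hm _ p.mem).2 hv).symm
  have h1 : m⁻¹ * cj b m ∈ QQ t := by
    simpa [cj, mul_assoc] using mul_mem ((h.bgt p).cj_mem c.inv_right hb) (inv_mem hb)
  have h2 : cj b m ∈ QQ (z * t) := e ▸ cj_mem_QQ.2 hm
  have h3 : Commute z (m⁻¹ * cj b m) := (h.bg.comm (inv_mem hm)).mul_right (by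
    have := ((h.bgt (h.pt_z p)).comm h2).mul_left (commute_cj ((h.bgt p).comm hb) c)
    rwa [mul_assoc, (h.bgt p).sq, mul_one] at this)
  have h4 := nm_mem h.bg h3 hq
  refine ⟨h1, h3, m * (nm (m⁻¹ * cj b m) q)⁻¹, mul_mem hm (inv_mem h4), h.E3' p (mul_mem hm (inv_mem h4)) ?_,
    by rw [h.mul _ hm _ (inv_mem h4), h.inv h4]⟩
  simpa [mul_assoc] using mul_mem h2 (inv_mem (h.nm_mul_mem p h1 hq k))

theorem exists_b (p : Pt z t) : ∃ b ∈ QQ t, cj b z = z * t :=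
  let ⟨b, hb, _, e⟩ := (h.pair p).symm.exists_q; ⟨b, hb, e.trans (h.bg.comm p.mem).symm.eq⟩

theorem exists_at (p : Pt z t) (hv : fb v (π t) = false) (hu : fb u (π t) = true) :
    ∃ T, At z π t T ∧ Et z π t (v + (u + T u)) := by
  obtain ⟨m, hm, rfl⟩ := h.surj v
  obtain ⟨b, hb, e⟩ := h.exists_b p
  obtain ⟨q, hq, rfl⟩ := h.surj u
  obtain ⟨h1, h2, h3⟩ := h.exists_partner p hm hv hb e hq hu
  obtain ⟨T, c⟩ := h.exists_ac h2
  exact ⟨T, ⟨_, h1, c⟩, h.pi_nm c hq ▸ h3⟩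

theorem et_add_wt (p : Pt z t) (ei : Eich z τ π t) (hv : fb v (π t) = false) :
    ∃ w, Wt z τ π t w ∧ Et z π t (v + w) := by
  obtain ⟨m, hm, rfl⟩ := h.surj v
  obtain ⟨b, hb, e⟩ := h.exists_b p
  obtain ⟨q, hq, k⟩ := h.exists_q p
  obtain ⟨h1, h2, h3⟩ := h.exists_partner p hm hv hb e hq k
  exact ⟨_, ⟨h.fb_nm p h1 h2 hq, _, h1, h.ac_rho p ei h1 h2 hq k⟩, h3⟩

end Co

end Cfsg.Agent.W4
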