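import Mathlib
import Cfsg.Agent.W4.L

/-! Matrices on `V` coded by numbers: eight bytes for a matrix, 256 bytes for its table of values. -/

set_option autoImplicit false
set_option maxRecDepth 100000
set_option linter.unusedVariables false

namespace Cfsg.Agent.W4

/-- Evaluate a number first. -/
def frc {β : Type} (n : ℕ) (k : ℕ → β) : β := Nat.rec (k 0) (fun m _ => k (Nat.succ m)) n

@[simp] theorem frc_eq {β : Type} (n : ℕ) (k : ℕ → β) : frc n k = k n := by cases n <;> rfl

/-- All members of a list pass a test. -/
def allL {α : Type} (p : α → Bool) (l : List α) : Bool := List.rec true (fun a _ ih => and (p a) ih) l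

/-- Some member of a list passes a test. -/
def anyL {α : Type} (p : α → Bool) (l : List α) : Bool := List.rec false (fun a _ ih => or (p a) ih) l

theorem allL_iff {α : Type} {p : α → Bool} {l : List α} : allL p l = true ↔ ∀ a ∈ l, p a = true := by
  induction l with
  | nil => simp [allL]
  | cons a l ih => rw [List.forall_mem_cons, ← ih]; exact Bool.and_eq_true_iff

theorem anyL_iff {α : Type} {p : α → Bool} {l : List α} : anyL p l = true ↔ ∃ a ∈ l, p a = true := by
  induction l with
  | nil => simp [anyL]
  | cons a l ih => rw [List.exists_mem_cons_iff, ← ih]; exact Bool.or_eq_true_iff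

/-- All numbers below `n` pass a test. -/
def allN (p : ℕ → Bool) (n : ℕ) : Bool := Nat.rec true (fun m ih => and (p m) ih) n

/-- Some number below `n` passes a test. -/
def anyN (p : ℕ → Bool) (n : ℕ) : Bool := Nat.rec false (fun m ih => or (p m) ih) n

theorem allN_iff {p : ℕ → Bool} {n : ℕ} : allN p n = true ↔ ∀ m < n, p m = true := by
  induction n with
  | zero => simp [allN]
  | succ n ih => rw [Nat.forall_lt_succ_right, ← ih, and_comm]; exact Bool.and_eq_true_iff

theorem anyN_iff {p : ℕ → Bool} {n : ℕ} : anyN p n = true ↔ ∃ m < n, p m = true := by
  induction n with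
  | zero => simp [anyN]
  | succ n ih => rw [Nat.exists_lt_succ_right, ← ih, or_comm]; exact Bool.or_eq_true_iff

/-- Byte `i` of `t`. -/
def ap (t i : ℕ) : ℕ := Nat.mod (Nat.shiftRight t (Nat.mul 8 i)) 256

theorem ap_lt (t i : ℕ) : ap t i < 256 := Nat.mod_lt _ (by decide)

theorem vv_ap (t i : ℕ) : (vv (ap t i)).n = ap t i := Nat.mod_eq_of_lt (ap_lt t i)

theorem vv_of_lt {k : ℕ} (h : k < 256) : (vv k).n = k := Nat.mod_eq_of_lt h

theorem ap_xor (s t i : ℕ) : ap (Nat.xor s t) i = Nat.xor (ap s i) (ap t i) := by
  change ((s ^^^ t) >>> (8 * i)) % 2 ^ 8 = ((s >>> (8 * i)) % 2 ^ 8) ^^^ ((t >>> (8 * i)) % 2 ^ 8)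
  rw [Nat.shiftRight_xor_distrib, Nat.xor_mod_two_pow]

/-- The linear map with a given matrix. -/
def mx (m : ℕ) (v : V) : V :=
  lin (vv (ap m 0)) (vv (ap m 1)) (vv (ap m 2)) (vv (ap m 3)) (vv (ap m 4)) (vv (ap m 5)) (vv (ap m 6)) (vv (ap m 7)) v

/-- The table of the coordinate `i`. -/
def cT (i : ℕ) : ℕ := match i with
  | 0 => 0x1000100010001000100010001000100010001000100010001000100010001000100010001000100010001000100010001000100010001000100010001000100010001000100010001000100010001000100010001000100010001000100010001000100010001000100010001000100010001000100010001000100010001000100010001000100010001000100010001000100010001000100010001000100010001000100010001000100010001000100010001000100010001000100010001000100010001000100010001000100010001000100010001000100010001000100010001000100010001000100010001000100010001000100010001000100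
  | 1 => 0x1010000010100000101000001010000010100000101000001010000010100000101000001010000010100000101000001010000010100000101000001010000010100000101000001010000010100000101000001010000010100000101000001010000010100000101000001010000010100000101000001010000010100000101000001010000010100000101000001010000010100000101000001010000010100000101000001010000010100000101000001010000010100000101000001010000010100000101000001010000010100000101000001010000010100000101000001010000010100000101000001010000010100000101000001010000
  | 2 => 0x1010101000000000101010100000000010101010000000001010101000000000101010100000000010101010000000001010101000000000101010100000000010101010000000001010101000000000101010100000000010101010000000001010101000000000101010100000000010101010000000001010101000000000101010100000000010101010000000001010101000000000101010100000000010101010000000001010101000000000101010100000000010101010000000001010101000000000101010100000000010101010000000001010101000000000101010100000000010101010000000001010101000000000101010100000000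
  | 3 => 0x1010101010101010000000000000000010101010101010100000000000000000101010101010101000000000000000001010101010101010000000000000000010101010101010100000000000000000101010101010101000000000000000001010101010101010000000000000000010101010101010100000000000000000101010101010101000000000000000001010101010101010000000000000000010101010101010100000000000000000101010101010101000000000000000001010101010101010000000000000000010101010101010100000000000000000101010101010101000000000000000001010101010101010000000000000000
  | 4 => 0x1010101010101010101010101010101000000000000000000000000000000000101010101010101010101010101010100000000000000000000000000000000010101010101010101010101010101010000000000000000000000000000000001010101010101010101010101010101000000000000000000000000000000000101010101010101010101010101010100000000000000000000000000000000010101010101010101010101010101010000000000000000000000000000000001010101010101010101010101010101000000000000000000000000000000000101010101010101010101010101010100000000000000000000000000000000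
  | 5 => 0x1010101010101010101010101010101010101010101010101010101010101010000000000000000000000000000000000000000000000000000000000000000010101010101010101010101010101010101010101010101010101010101010100000000000000000000000000000000000000000000000000000000000000000101010101010101010101010101010101010101010101010101010101010101000000000000000000000000000000000000000000000000000000000000000001010101010101010101010101010101010101010101010101010101010101010000000000000000000000000000000000000000000000000000000000000000
  | 6 => 0x1010101010101010101010101010101010101010101010101010101010101010101010101010101010101010101010101010101010101010101010101010101000000000000000000000000000000000000000000000000000000000000000000000000000000000000000000000000000000000000000000000000000000000101010101010101010101010101010101010101010101010101010101010101010101010101010101010101010101010101010101010101010101010101010100000000000000000000000000000000000000000000000000000000000000000000000000000000000000000000000000000000000000000000000000000000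
  | _ => 0x1010101010101010101010101010101010101010101010101010101010101010101010101010101010101010101010101010101010101010101010101010101010101010101010101010101010101010101010101010101010101010101010101010101010101010101010101010101010101010101010101010101010101010000000000000000000000000000000000000000000000000000000000000000000000000000000000000000000000000000000000000000000000000000000000000000000000000000000000000000000000000000000000000000000000000000000000000000000000000000000000000000000000000000000000000000

/-- The table of values of a matrix. -/
def tb (m : ℕ) : ℕ :=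
  Nat.xor (Nat.xor (Nat.xor (Nat.xor (Nat.xor (Nat.xor (Nat.xor (Nat.mul (ap m 0) (cT 0)) (Nat.mul (ap m 1) (cT 1)))
    (Nat.mul (ap m 2) (cT 2))) (Nat.mul (ap m 3) (cT 3))) (Nat.mul (ap m 4) (cT 4))) (Nat.mul (ap m 5) (cT 5)))
    (Nat.mul (ap m 6) (cT 6))) (Nat.mul (ap m 7) (cT 7))

theorem ap_mul {c : ℕ} (h : ∀ v < 256, ap c v ≤ 1) (hc : c < 256 ^ 256) {a : ℕ} (ha : a < 256) {v : ℕ} (hv : v < 256) :
    ap (Nat.mul a c) v = a * ap c v := by
  have k : ∀ n, n ≤ 256 → ∀ c, c < 256 ^ n → (∀ v < n, ap c v ≤ 1) → ∀ v < n, ap (a * c) v = a * ap c v := by
    have e0 : ∀ t, ap t 0 = t % 256 := fun t => rfl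
    have e1 : ∀ t v, ap t (v + 1) = ap (t / 256) v := fun t v => by
      change (t >>> (8 * (v + 1))) % 256 = ((t / 2 ^ 8) >>> (8 * v)) % 256
      rw [← Nat.shiftRight_eq_div_pow, ← Nat.shiftRight_add, mul_add, add_comm]
    intro n
    induction n with
    | zero => intro _ _ _ _ v hv; omega
    | succ n ih =>
      intro hn c hc h v hv
      have h0 := h 0 (by omega)
      rw [e0] at h0
      have h1 : a * c = a * (c % 256) + 256 * (a * (c / 256)) := by
        conv_lhs => rw [← Nat.mod_add_div c 256]
        ring
      have h2 : a * (c % 256) < 256 := lt_of_le_of_lt (Nat.mul_le_mul_left a h0) (by omega)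
      rcases v with _ | v
      · rw [e0, e0]; omega
      · rw [e1, e1, show a * c / 256 = a * (c / 256) by omega]
        exact ih (by omega) _ (Nat.div_lt_of_lt_mul (by rwa [pow_succ'] at hc))
          (fun v hv => e1 c v ▸ h (v + 1) (by omega)) v (by omega)
  exact k 256 le_rfl c hc h v hv

theorem ap_cT : ∀ i < 8, cT i < 256 ^ 256 ∧ ∀ v < 256, ap (cT i) v = cond (bt v i) 1 0 := by decide +kernel

theorem ap_tb (m : ℕ) (v : V) : ap (tb m) v.n = (mx m v).n := by
  have k : ∀ i < 8, ap (Nat.mul (ap m i) (cT i)) v.n = (sm (bt v.n i) (vv (ap m i))).n := fun i hi => by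
    rw [ap_mul (fun v hv => by rw [(ap_cT i hi).2 v hv]; cases bt v i <;> decide) (ap_cT i hi).1 (ap_lt m i) v.lt,
      (ap_cT i hi).2 _ v.lt]
    cases bt v.n i
    · rfl
    · exact (mul_one _).trans (vv_ap m i).symm
  simp only [tb, ap_xor, k _ (by decide : 0 < 8), k _ (by decide : 1 < 8), k _ (by decide : 2 < 8),
    k _ (by decide : 3 < 8), k _ (by decide : 4 < 8), k _ (by decide : 5 < 8), k _ (by decide : 6 < 8),
    k _ (by decide : 7 < 8)]
  rfl

theorem vv_ap_tb (m : ℕ) (v : V) : vv (ap (tb m) v.n) = mx m v := by rw [ap_tb, vv_n]

theorem ap_tb' (m : ℕ) {k : ℕ} (h : k < 256) : ap (tb m) k = (mx m (vv k)).n := by rw [← ap_tb, vv_of_lt h]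

theorem lin_add (a b c d e f g h u v : V) : lin a b c d e f g h (u + v) = lin a b c d e f g h u + lin a b c d e f g h v := by
  simp only [lin, bt_add, sm_xor]; abel

theorem mx_add (m : ℕ) (u v : V) : mx m (u + v) = mx m u + mx m v := lin_add ..

theorem mx_zero (m : ℕ) : mx m 0 = 0 := by simpa using mx_add m 0 0

theorem mx_sm (m : ℕ) (b : Bool) (v : V) : mx m (sm b v) = sm b (mx m v) := by cases b <;> simp [mx_zero]

/-- Eight bytes. -/
def pk (a b c d e f g h : ℕ) : ℕ :=
  Nat.add a (Nat.mul 256 (Nat.add b (Nat.mul 256 (Nat.add c (Nat.mul 256 (Nat.add d (Nat.mul 256 (Nat.add e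
    (Nat.mul 256 (Nat.add f (Nat.mul 256 (Nat.add g (Nat.mul 256 h)))))))))))))

theorem mx_pk (a b c d e f g h v : V) : mx (pk a.n b.n c.n d.n e.n f.n g.n h.n) v = lin a b c d e f g h v := by
  have k : ∀ (t i : ℕ) (u : V), t / 2 ^ (8 * i) % 256 = u.n → vv (ap t i) = u := fun t i u e =>
    V.ext ((vv_ap t i).trans (e ▸ congrArg (· % 256) (Nat.shiftRight_eq_div_pow t (8 * i))))
  have := a.lt; have := b.lt; have := c.lt; have := d.lt; have := e.lt; have := f.lt; have := g.lt; have := h.lt
  have e' : pk a.n b.n c.n d.n e.n f.n g.n h.n =
    a.n + 256 * (b.n + 256 * (c.n + 256 * (d.n + 256 * (e.n + 256 * (f.n + 256 * (g.n + 256 * h.n)))))) := rfl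
  rw [mx, k _ 0 a (by omega), k _ 1 b (by omega), k _ 2 c (by omega), k _ 3 d (by omega), k _ 4 e (by omega),
    k _ 5 f (by omega), k _ 6 g (by omega), k _ 7 h (by omega)]

/-- The matrix of a map. -/
def mat (T : V → V) : ℕ :=
  pk (T (vv 1)).n (T (vv 2)).n (T (vv 4)).n (T (vv 8)).n (T (vv 16)).n (T (vv 32)).n (T (vv 64)).n (T (vv 128)).n

theorem eq_lin {T : V → V} (h : ∀ u v, T (u + v) = T u + T v) (v : V) :
    T v = lin (T (vv 1)) (T (vv 2)) (T (vv 4)) (T (vv 8)) (T (vv 16)) (T (vv 32)) (T (vv 64)) (T (vv 128)) v := by
  have h0 : T 0 = 0 := by simpa using h 0 0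
  have h1 : ∀ b v, T (sm b v) = sm b (T v) := fun b v => by cases b <;> simp [h0]
  conv_lhs => rw [show v = _ from (Iso.id (τ := false)).eq_lin v]
  simp only [lin, h, h1, id]

theorem mx_mat {T : V → V} (h : ∀ u v, T (u + v) = T u + T v) (v : V) : mx (mat T) v = T v := by
  rw [mat, mx_pk, ← eq_lin h]

theorem Iso.mx_mat {τ : Bool} {T : V → V} (h : Iso τ T) (v : V) : mx (mat T) v = T v := W4.mx_mat h.add v

/-- The product of a matrix given by its table `t` and a matrix `m`. -/
def mm (t m : ℕ) : ℕ :=
  pk (ap t (ap m 0)) (ap t (ap m 1)) (ap t (ap m 2)) (ap t (ap m 3)) (ap t (ap m 4)) (ap t (ap m 5)) (ap t (ap m 6))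
    (ap t (ap m 7))

theorem mx_mm (m m' : ℕ) (v : V) : mx (mm (tb m) m') v = mx m (mx m' v) := by
  simp only [mm, ap_tb' m (ap_lt m' _), mx_pk]
  simp only [mx.eq_1 m', lin, mx_add, mx_sm]

/-- The product of two matrices. -/
def mul (m m' : ℕ) : ℕ := frc (tb m) fun t => frc m' fun n => mm t n

theorem mx_mul (m m' : ℕ) (v : V) : mx (mul m m') v = mx m (mx m' v) := by rw [mul, frc_eq, frc_eq, mx_mm]

/-- The identity matrix. -/
def one : ℕ := 0x8040201008040201

theorem mx_one : ∀ v, mx one v = v := by decide +kernel

/-- The test for isometries. -/
def isoB (τ : Bool) (m : ℕ) : Bool := frc (tb m) fun t => allN (fun v => bt (qT τ) (ap t v) == bt (qT τ) v) 256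

theorem iso_mx {τ : Bool} {m : ℕ} (h : isoB τ m = true) : Iso τ (mx m) := by
  rw [isoB, frc_eq, allN_iff] at h
  exact ⟨mx_add m, fun v => by simpa only [ap_tb, beq_iff_eq, qb] using h _ v.lt⟩

/-- A product of matrices `g i`. -/
def wm (g : ℕ → ℕ) (w : List ℕ) : ℕ := List.rec one (fun i _ ih => mul (g i) ih) w

end Cfsg.Agent.W4
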