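import Mathlib
import Cfsg.Agent.W4.P
import Cfsg.Agent.W3.FT
import Cfsg.Agent.GT.TransferCocycle
import Cfsg.Agent.Spor.ESFstar
import Cfsg.Agent.S0481

/-! Transfer arguments for an element outside a subgroup of index two in the centraliser of `z`. -/

set_option autoImplicit false
set_option linter.unusedSectionVars false
set_option linter.unusedVariables false

namespace Cfsg.Agent.W4

open Cfsg.Agent.Spor Cfsg.Agent.Spor.TT Cfsg.Agent.LX Cfsg.Agent.Gr6 Cfsg.Agent.GT.Tr Cfsg.Agent.W3 Subgroup MulAction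

variable {G : Type*} [Group G] [Finite G] {z a b d e g m q s t u x y : G} {τ : Bool} {π : G → V} {S T : V → V}

theorem two_fixed (h : Iso τ T) (k : ∀ v, T (T v) = v) : ∃ u v, u ≠ 0 ∧ v ≠ 0 ∧ u ≠ v ∧ T u = u ∧ T v = v := by
  by_contra! c
  let N : V →+ V := AddMonoidHom.mk' (fun v => v + T v) fun u v => by rw [h.add, add_add_add_comm]
  have h1 : N.range ≤ N.ker := by
    rintro _ ⟨v, rfl⟩
    change v + T v + T (v + T v) = 0
    rw [h.add, k, add_comm (T v), add_self]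
  have h2 := N.ker.card_mul_index
  rw [AddSubgroup.index_ker, card_V] at h2
  have h3 := AddSubgroup.card_le_of_le h1
  have h4 : 2 < (N.ker : Set V).ncard := by
    change 2 < Nat.card N.ker
    by_contra! h4
    have := Nat.mul_le_mul h4 (h3.trans h4)
    omega
  obtain ⟨a, b, d, ha, hb, hd, e1, e2, e3⟩ := (Set.two_lt_ncard_iff (Set.toFinite _)).1 h4
  have h5 : ∀ v ∈ (N.ker : Set V), T v = v := fun v hv => (add_eq_zero_iff.1 hv).symm
  exact c (a + b) (a + d) (mt add_eq_zero_iff.1 e1) (mt add_eq_zero_iff.1 e2) (fun e => e3 (add_left_cancel e))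
    (h5 _ (add_mem ha hb)) (h5 _ (add_mem ha hd))

namespace Co

variable (h : Co z τ π)
include h

theorem ac_ac (c : Ac z π a T) (k : a * a ∈ QQ z) (v : V) : T (T v) = v := h.ac_ext (h.ac_mul c c) (h.ac_mem k) v

theorem ac_comm (c : Ac z π a S) (c' : Ac z π b T) (k : Commute a b) (v : V) : S (T v) = T (S v) :=
  h.ac_ext (T := T ∘ S) (h.ac_mul c c') (k.eq ▸ h.ac_mul c' c) v

theorem ac_of_mul (c : Ac z π a S) (c' : Ac z π b T) (k : a * b⁻¹ ∈ QQ z) (v : V) : S v = T v :=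
  h.ac_ext (T := id ∘ T) c (by simpa using h.ac_mul (h.ac_mem k) c') v

theorem cj_mul_of_ne (c : Ac z π a T) (hx : x ∈ QQ z) (hy : y ∈ QQ z) (h1 : T (π x) = π x) (h2 : T (π y) = π y) :
    Commute a x ∨ Commute a y ∨ Commute a (x * y) := by
  simp only [← cj_eq_self_iff]
  refine ((h.fix_iff c hx).1 h1).imp_right fun e => ((h.fix_iff c hy).1 h2).imp_right fun e' => ?_
  rw [cj_mul, e, e', mul_assoc, ← mul_assoc x, ← (h.bg.comm hx).eq, mul_assoc, ← mul_assoc z, h.zz, one_mul]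

/-- An involution centralises a noncentral element of `Q`. -/
theorem exists_comm (ha : Commute z a) (k : a * a = 1) : ∃ x ∈ QQ z, Commute a x ∧ π x ≠ 0 := by
  obtain ⟨T, c⟩ := h.exists_ac ha
  obtain ⟨u, v, h1, h2, h3, h4, h5⟩ := two_fixed (h.iso c) (h.ac_ac c (k ▸ one_mem _))
  obtain ⟨x, hx, rfl⟩ := h.surj u
  obtain ⟨y, hy, rfl⟩ := h.surj v
  rcases h.cj_mul_of_ne c hx hy h4 h5 with e | e | e
  exacts [⟨x, hx, e, h1⟩, ⟨y, hy, e, h2⟩, ⟨_, mul_mem hx hy, e, h.mul x hx y hy ▸ mt add_eq_zero_iff.1 h3⟩]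

/-- If the square of `u` is central in `Q`, then `u` inverts its commutators with `Q`. -/
theorem cj_of_range (c : Ac z π u T) (k : u * u = 1 ∨ u * u = z) (hx : x ∈ QQ z) {v : V} (e : π x = v + T v) :
    cj u x = x⁻¹ := by
  obtain ⟨q, hq, rfl⟩ := h.surj v
  have h1 : cj u (nm u q) = (nm u q)⁻¹ := by
    have : Commute (u * u) q := by
      rcases k with e | e <;> rw [e]
      exacts [Commute.one_left _, h.bg.comm hq]
    rw [nm, cj_mul, cj_cj, cj_of_commute this.inv_right, mul_inv_rev, ← cj_inv, inv_inv]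
  rcases (h.eq_iff hx (nm_mem h.bg c.1 hq)).1 (e.trans (h.pi_nm c hq).symm) with rfl | rfl
  · exact h1
  · rw [cj_mul, h1, cj_of_commute c.1.symm, mul_inv_rev, h.bg.es.z_inv, (h.bg.comm (nm_mem h.bg c.1 hq)).inv_right.eq]

theorem exists_sq (c : Ac z π a T) (k : a * a ∈ QQ z) {v : V} (e : π (a * a) = v + T v) :
    ∃ u, Ac z π u T ∧ (u * u = 1 ∨ u * u = z) := by
  obtain ⟨q, hq, rfl⟩ := h.surj v
  have h1 : q * a * (q * a) = q * cj a q * (a * a) := by simp [cj, mul_assoc]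
  have h2 := mul_mem hq (h.cj_mem c hq)
  refine ⟨q * a, (h.ac_mul (h.ac_mem hq) c :), (h.ker _ (h1 ▸ mul_mem h2 k)).1 ?_⟩
  rw [h1, h.mul _ h2 _ k, h.mul _ hq _ (h.cj_mem c hq), c.2 q hq, e, add_self]

/-- The transfer argument. -/
theorem tt [IsSimpleGroup G] {A : Type*} [CommGroup A] (hA : ∀ a b : A, a ^ 2 = 1 → b ^ 2 = 1 → a ≠ 1 → b ≠ 1 → a = b)
    (φ : centralizer ({z} : Set G) →* A) (c : Ac z π u T) (h1 : φ ⟨u, Spor.mem_centralizer_singleton.2 c.1⟩ ≠ 1)
    (h2 : u * u = 1 ∨ u * u = z ∧ ∀ s : centralizer ({z} : Set G), (s : G) * s = 1 → φ s = 1)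
    (c1 : ∀ g S, Ac z π g S → (∀ v, S (T v) = T (S v)) → (∀ y ∈ QQ z, Commute u y → S (π y) = π y) →
      (∀ v, S v = v) ∨ ∀ v, S v = T v)
    (c2 : ∀ d ∈ QQ z, d * d = 1 → T (π d) = π d → (∀ y ∈ QQ z, Commute u y → fb (π d) (π y) = false) → π d = 0 ∨
      ¬ Pt z d ∧ (∃ v, π d = v + T v) ∧ ∃ v, qb τ (v + T v) = true ∧ fb (v + T v) (π d) = false) : False := by
  have h3 : ∀ s, IsConj z s → Commute z s → Commute u s → (∀ y ∈ QQ z, Commute u y → Commute s y) → s = z := by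
    intro s k1 k2 k3 k4
    by_contra k5
    obtain ⟨S, cs⟩ := h.exists_ac k2
    obtain ⟨π', h'⟩ := h.of_isConj k1
    by_cases hs : s ∈ QQ z
    · exact (c2 s hs h'.zz (h.fix_of_comm c hs k3) fun y hy k => (h.comm _ hs _ hy).1 (k4 y hy k)).elim
        (h.pt_ne ⟨k1, hs, k5⟩) fun k => k.1 ⟨k1, hs, k5⟩
    replace cs := cs.congr ((c1 s S cs (h.ac_comm cs c k3.symm)
      fun y hy k => h.fix_of_comm cs hy (k4 y hy k)).resolve_left fun e => hs (h.mem_of_ac cs e))
    have hz : z ∉ QQ s := fun k => hs (h'.symm ⟨k1.symm, k, Ne.symm k5⟩).mem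
    have hD : ∀ d ∈ QQ z, d ∈ QQ s → d = 1 := fun d d1 d2 => by
      by_contra d3
      have d4 : d ≠ z := fun e => hz (e ▸ d2)
      have d5 := h'.bg.comm d2
      rcases c2 d d1 ((h.bg.es.sq d d1).resolve_right fun e => hz (e ▸ mul_mem d2 d2)) (h.fix_of_comm cs d1 d5)
        (fun y hy k => by
          by_contra e
          have := h'.bg.cj_mem (k4 y hy k) d2
          rw [h.cj_of_fb hy d1 (by simpa [fb_comm] using e)] at this
          exact hz (by simpa using mul_mem this (inv_mem d2))) with e | ⟨e1, ⟨v, e2⟩, w, e3, e4⟩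
      · exact ((h.ker d d1).1 e).elim d3 d4
      obtain ⟨q, hq, rfl⟩ := h.surj v
      obtain ⟨m, hm, e5⟩ := h.surj (w + T w)
      have e6 : cj m s = z * s := by
        rw [← (h.sq' hm).2 (e5 ▸ e3), show cj m s = m * (cj s m)⁻¹ * s by simp [cj, mul_assoc],
          h.cj_of_range cs (.inl h'.zz) hm e5, inv_inv]
      have e7 : cj q s = nm s q * s := by simp [cj, nm, mul_assoc]
      have e8 : IsConj s (d * s) := by
        rcases (h.eq_iff (nm_mem h.bg k2 hq) d1).1 ((h.pi_nm cs hq).trans e2.symm) with e | e <;> rw [e] at e7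
        · exact e7 ▸ LX.isConj_cj q s
        · have := LX.isConj_cj (m * q) s
          rwa [← cj_cj, e7, cj_mul, cj_mul, e6, cj_of_commute (h.bg.comm hm).symm,
            cj_of_commute ((h.comm m hm d d1).2 (e5 ▸ e4)), mul_assoc, ← mul_assoc d, ← (h.bg.comm d1).eq, mul_assoc,
            ← mul_assoc z, h.zz, one_mul] at this
      have := (h'.pt_z ⟨e8, mul_mem d2 h'.bg.z_mem, by simpa using d3⟩).conj
      rw [← mul_assoc, d5.eq, mul_assoc, h'.zz, mul_one] at this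
      exact e1 ⟨k1.trans this, d1, d4⟩
    obtain ⟨b, b1, b2, b3⟩ := h'.exists_comm k2.symm h.zz
    obtain ⟨B, cb⟩ := h.exists_ac b2
    refine b3 ((h'.ker b b1).2 ((c1 b B cb (h.ac_comm cb cs (h'.bg.comm b1).symm) fun y hy k =>
      h.fix_of_comm cb hy (nm_eq_one_iff.1 (hD _ (nm_mem h.bg b2 hy) ?_))).imp (fun e => hD b (h.mem_of_ac cb e) b1)
        fun e => mul_inv_eq_one.1 (hD _ (h.mul_inv_mem cb cs e) (mul_mem b1 (inv_mem h'.bg.z_mem)))))
    simpa [nm, cj, mul_assoc] using mul_mem (h'.bg.cj_mem (k4 y hy k) b1) (inv_mem b1)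
  obtain ⟨P, hP⟩ := W3.F.exists_syl h.bg
  have hm : ∀ {x g : G}, g ∈ centralizer ({x} : Set G) ↔ Commute x g := Spor.mem_centralizer_singleton
  obtain ⟨t, k1, k2, k3⟩ := W3.F.tt4 φ (fun e => P.not_dvd_index (e.trans (index_dvd_of_le hP))) hA (y := u)
    (by rw [show 4 = 2 + 2 from rfl, pow_add, pow_two]; rcases h2 with e | e <;> simp [e, h.zz])
    (fun t k => by
      rcases h2 with e | e
      · exact (congrArg φ (Subtype.ext (by simp [pow_two, e]))).trans φ.map_one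
      · exact e.2 _ (by simp [pow_two, e.1, mul_assoc, h.bg.es.z_mul_z_mul]))
    (transfer_eq_one_of_mem_commutator φ (by
      obtain ⟨a, -, b, -, c⟩ := h.bg.es.nonab
      rcases IsSimpleGroup.eq_bot_or_eq_top_of_normal (commutator G) inferInstance with e | e <;> rw [e]
      · exact absurd (commutatorElement_eq_one_iff_mul_comm.1 (mem_bot.1
          (e ▸ commutator_mem_commutator (mem_top a) (mem_top b)))) c
      · trivial))
    (C := QQ z ⊓ centralizer {u}) (h.bg.es.isPGroup.to_le inf_le_left) fun x hx => (hm.1 hx.2).symm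
  have k4 : ∀ {x}, t⁻¹ * x * t ∈ centralizer ({z} : Set G) → Commute (cj t z) x := fun {x} k => by
    simpa [cj, mul_assoc] using (hm.1 k).conj t
  have k5 := cj_eq_self_iff.1 (h3 _ (LX.isConj_cj t z) (k4 (k3 z ⟨h.bg.z_mem, hm.2 c.1.symm⟩)).symm (k4 k1).symm
    fun y hy k => k4 (k3 y ⟨hy, hm.2 k⟩))
  refine h1 ?_
  rw [← k2, show (⟨_, k1⟩ : centralizer ({z} : Set G)) = ⟨t, hm.2 k5.symm⟩⁻¹ * ⟨u, hm.2 c.1⟩ * ⟨t, hm.2 k5.symm⟩ from rfl,
    map_mul, map_mul, map_inv, mul_comm (φ _)⁻¹, inv_mul_cancel_right]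

end Co

end Cfsg.Agent.W4
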