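import Mathlib
import Cfsg.Agent.W4.T
import Cfsg.Agent.W4.M

/-! Points of `Q` with explicit data, and configurations (see `stubs/Cfsg/Agent/W4/PLAN.md`). -/

set_option autoImplicit false
set_option maxRecDepth 100000
set_option linter.unusedSectionVars false
set_option linter.unusedVariables false

namespace Cfsg.Agent.W4

open Cfsg.Agent.Spor Cfsg.Agent.Spor.TT Cfsg.Agent.LX Cfsg.Agent.Gr6 Cfsg.Agent.W3 Subgroup

/-- The data of a point `t`: its image `x`, the characteristic function `E` of the image of `Q ∩ Q_t`, and three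
matrices generating the group induced by `Q_t ∩ C(z)`. -/
structure PD where
  (x E a b c : ℕ)

/-- The eight matrices. -/
def PD.els (d : PD) : List ℕ :=
  frc d.a fun a => frc d.b fun b => frc d.c fun c => frc (mul a b) fun e => [one, a, b, e, c, mul a c, mul b c, mul e c]

theorem PD.els_eq (d : PD) : d.els = [one, d.a, d.b, mul d.a d.b, d.c, mul d.a d.c, mul d.b d.c, mul (mul d.a d.b) d.c] := by
  simp only [PD.els, frc_eq]

/-- Evaluate a list of numbers first. -/
def frcL {β : Type} (l : List ℕ) (k : List ℕ → β) : β :=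
  List.rec (motive := fun _ => (List ℕ → β) → β) (fun k => k []) (fun a _ ih k => frc a fun a => ih fun l => k (a :: l)) l k

@[simp] theorem frcL_eq {β : Type} (l : List ℕ) (k : List ℕ → β) : frcL l k = k l := by
  induction l generalizing k with
  | nil => rfl
  | cons a l ih => exact (frc_eq a fun a => frcL l fun l => k (a :: l)).trans (ih _)

/-- The matrix `m` carries the data `d` to the data `d'`. -/
def trB (m : ℕ) (d d' : PD) : Bool := frc m fun m => frc (tb m) fun t =>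
  (vv (ap t (vv d.x).n) == vv d'.x) && (frc d.E fun E => frc d'.E fun E' => allN (fun v => bt E' (ap t v) == bt E v) 256) &&
    frcL (d.els.map (mm t)) fun l => frcL (d'.els.map (mul · m)) fun l' =>
      allL (fun a => anyL (Nat.beq a) l') l && allL (fun a => anyL (Nat.beq a) l) l'

theorem trB_spec {m : ℕ} {d d' : PD} (h : trB m d d' = true) : mx m (vv d.x) = vv d'.x ∧
    (∀ v, bt d'.E (mx m v).n = bt d.E v.n) ∧ (∀ a ∈ d.els, ∃ b ∈ d'.els, ∀ v, mx m (mx a v) = mx b (mx m v)) ∧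
    ∀ b ∈ d'.els, ∃ a ∈ d.els, ∀ v, mx m (mx a v) = mx b (mx m v) := by
  simp only [trB, frc_eq, frcL_eq, Bool.and_eq_true, allN_iff, allL_iff, anyL_iff, beq_iff_eq, Nat.beq_eq, vv_ap_tb,
    List.mem_map, exists_exists_and_eq_and] at h
  obtain ⟨⟨h1, h2⟩, h3, h4⟩ := h
  refine ⟨h1, fun v => by rw [← ap_tb]; exact h2 _ v.lt, fun a ha => ?_, fun b hb => ?_⟩
  · obtain ⟨b, hb, e⟩ := h3 _ ⟨a, ha, rfl⟩
    exact ⟨b, hb, fun v => by rw [← mx_mm, e, mx_mul]⟩
  · obtain ⟨a, ha, e⟩ := h4 _ ⟨b, hb, rfl⟩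
    exact ⟨a, ha, fun v => by rw [← mx_mm, ← e, mx_mul]⟩

variable {G : Type*} [Group G] [Finite G] {z a g s t : G} {τ : Bool} {π : G → V} {T : V → V} {d d' : PD} {m O : ℕ}
  {L : List PD}

/-- The point `t` has the data `d`. -/
structure Pd (z : G) (π : G → V) (t : G) (d : PD) : Prop where
  pt : Pt z t
  eq : π t = vv d.x
  et : ∀ v, Et z π t v ↔ bt d.E v.n = true
  at' : ∀ T, At z π t T ↔ ∃ m ∈ d.els, T = mx m

/-- The orbit of the point `t` under the centraliser of `z`. -/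
def Orb (z : G) (π : G → V) (t : G) (v : V) : Prop := ∃ g, Commute z g ∧ π (cj g t) = v

/-- Points of one orbit with the data in the list `L`. -/
structure Sy (z : G) (π : G → V) (t : G) (L : List PD) : Prop where
  co : Co z false π
  base : ∀ d ∈ L, ∃ g, Commute z g ∧ Pd z π (cj g t) d

/-- A configuration: all points lie over the set with characteristic function `O`, and there are points with the
data in the list `L`. -/
structure Lf (z : G) (π : G → V) (O : ℕ) (L : List PD) : Prop where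
  co : Co z false π
  pts : ∀ t, Pt z t → bt O (π t).n = true
  base : ∀ d ∈ L, ∃ t, Pd z π t d

/-- The centraliser of `z` acts irreducibly. -/
def Irr (z : G) (π : G → V) : Prop := ∀ S : V → Prop, S 0 → (∀ u v, S u → S v → S (u + v)) →
  (∀ g T, Ac z π g T → ∀ v, S v → S (T v)) → (∀ v, S v → v = 0) ∨ ∀ v, S v

theorem Irr.comp {σ : V → V} (h : Irr z π) (c : Co z τ π) (k : Iso τ σ) : Irr z (σ ∘ π) := fun S h0 h1 h2 => by
  refine (h (fun v => S (σ v)) (by rwa [k.zero]) (fun u v a b => k.add u v ▸ h1 _ _ a b) fun g T e v a => ?_).imp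
    (fun e v a => ?_) fun e v => ?_
  · obtain ⟨T', e'⟩ := (c.comp k).exists_ac e.1
    obtain ⟨x, hx, rfl⟩ := c.surj v
    have := h2 g T' e' _ a
    rwa [← e.2 x hx, show σ (π (cj g x)) = T' (σ (π x)) from e'.2 x hx]
  · obtain ⟨v, rfl⟩ := k.surj v
    rw [e v a, k.zero]
  · obtain ⟨v, rfl⟩ := k.surj v
    exact e v

theorem Pd.ac (p : Pd z π t d) (hm : m ∈ d.els) : ∃ a ∈ QQ t, Ac z π a (mx m) := (p.at' _).2 ⟨m, hm, rfl⟩

theorem Pd.exists_ac (p : Pd z π t d) (h : Co z τ π) (ha : a ∈ QQ t) (hz : Commute z a) : ∃ m ∈ d.els, Ac z π a (mx m) :=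
  let ⟨T, c⟩ := h.exists_ac hz; let ⟨m, h1, h2⟩ := (p.at' T).1 ⟨a, ha, c⟩; ⟨m, h1, h2 ▸ c⟩

/-- Conjugation of a point. -/
theorem Pd.cj (p : Pd z π t d) (h : Co z τ π) (k : Ac z π g (mx m)) (e : trB m d d' = true) : Pd z π (cj g t) d' := by
  obtain ⟨h1, h2, h3, h4⟩ := trB_spec e
  have i := h.iso k
  refine ⟨p.pt.cj h.bg k.1, by rw [k.2 t p.pt.mem, p.eq, h1], fun v => ?_, fun T => ⟨fun c => ?_, ?_⟩⟩
  · obtain ⟨v, rfl⟩ := i.surj v
    rw [h.et_cj k, p.et, h2]
  · choose s hs using i.surj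
    obtain ⟨a, ha, e⟩ := (p.at' fun v => s (T (mx m v))).1 (h.at_of_cj k c fun v => hs _)
    obtain ⟨b, hb, e'⟩ := h3 a ha
    exact ⟨b, hb, funext fun v => by rw [← hs v, ← e', ← e]; exact (hs _).symm⟩
  · rintro ⟨b, hb, rfl⟩
    obtain ⟨a, ha, e⟩ := h4 b hb
    exact h.at_cj k ((p.at' _).2 ⟨a, ha, rfl⟩) e

/-- Change of coordinates. -/
theorem Pd.comp (p : Pd z π t d) (i : Iso τ (mx m)) (e : trB m d d' = true) : Pd z (mx m ∘ π) t d' := by
  obtain ⟨h1, h2, h3, h4⟩ := trB_spec e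
  refine ⟨p.pt, by rw [Function.comp, p.eq, h1], fun v => ?_, fun T => ⟨fun c => ?_, ?_⟩⟩
  · obtain ⟨v, rfl⟩ := i.surj v
    rw [Co.et_comp i, p.et, h2]
  · choose s hs using i.surj
    obtain ⟨a, ha, e⟩ := (p.at' fun v => s (T (mx m v))).1 ((Co.at_comp_iff i fun v => hs _).1 c)
    obtain ⟨b, hb, e'⟩ := h3 a ha
    exact ⟨b, hb, funext fun v => by rw [← hs v, ← e', ← e]; exact (hs _).symm⟩
  · rintro ⟨b, hb, rfl⟩
    obtain ⟨a, ha, e⟩ := h4 b hb
    exact (Co.at_comp_iff i e).2 ((p.at' _).2 ⟨a, ha, rfl⟩)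

/-- Points over the same vector have the same data. -/
theorem Pd.of_eq (p : Pd z π t d) (h : Co z τ π) (hs : s ∈ QQ z) (e : π s = π t) : Pd z π s d :=
  ⟨h.pt_of_eq p.pt hs e, e.trans p.eq, fun v => (h.et_of_eq p.pt hs e).trans (p.et v),
    fun T => (h.at_of_eq p.pt hs e).trans (p.at' T)⟩

/-- The matrix `m` is induced by an element of the centraliser of `z`. -/
def Rl (z : G) (π : G → V) (m : ℕ) : Prop := ∃ g, Ac z π g (mx m)

theorem Rl.one (h : Co z τ π) : Rl z π one := ⟨1, (h.ac_mem (one_mem _)).congr fun v => (mx_one v).symm⟩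

theorem Rl.mul (h : Co z τ π) {m' : ℕ} (k : Rl z π m) (k' : Rl z π m') : Rl z π (mul m m') :=
  let ⟨_, c⟩ := k; let ⟨_, c'⟩ := k'; ⟨_, (h.ac_mul c c').congr fun v => (mx_mul m m' v).symm⟩

theorem Rl.wm (h : Co z τ π) {g : ℕ → ℕ} (k : ∀ i, Rl z π (g i)) (w : List ℕ) : Rl z π (wm g w) := by
  induction w with
  | nil => exact Rl.one h
  | cons i w ih => exact (k i).mul h ih

/-- The generators of a list of data: three for each point. -/
def gn (L : List PD) (i : ℕ) : ℕ := (L.flatMap fun d => [d.a, d.b, d.c]).getD i one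

theorem rl_gn (h : Co z τ π) (k : ∀ d ∈ L, ∃ t, Pd z π t d) (i : ℕ) : Rl z π (gn L i) := by
  rw [gn, List.getD_eq_getElem?_getD]
  cases e : (L.flatMap fun d => [d.a, d.b, d.c])[i]? with
  | none => exact Rl.one h
  | some m =>
    obtain ⟨d, h1, h2⟩ := List.mem_flatMap.1 (List.mem_of_getElem? e)
    obtain ⟨t, p⟩ := k d h1
    obtain ⟨a, -, c⟩ := p.ac (m := m) (by
      rw [PD.els_eq]
      simp only [List.mem_cons, List.not_mem_nil, or_false] at h2 ⊢
      tauto)
    exact ⟨a, c⟩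

theorem Lf.rl (h : Lf z π O L) (w : List ℕ) : Rl z π (wm (gn L) w) := Rl.wm h.co (rl_gn h.co h.base) w

theorem Sy.rl (h : Sy z π t L) (w : List ℕ) : Rl z π (wm (gn L) w) :=
  Rl.wm h.co (rl_gn h.co fun d hd => let ⟨_, _, p⟩ := h.base d hd; ⟨_, p⟩) w

/-- The action of the centraliser of `z` on `V`. -/
theorem Co.exists_act (h : Co z τ π) : ∃ φ : centralizer ({z} : Set G) →* Equiv.Perm V,
    (∀ g : centralizer ({z} : Set G), Ac z π g (φ g)) ∧ ∀ g : centralizer ({z} : Set G), φ g = 1 ↔ (g : G) ∈ QQ z := by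
  choose T hT using fun g : centralizer ({z} : Set G) => h.exists_ac (Spor.mem_centralizer_singleton.1 g.2)
  refine ⟨MonoidHom.mk' (fun g => Equiv.ofBijective (T g) ⟨(h.iso (hT g)).inj, (h.iso (hT g)).surj⟩) fun a b =>
    Equiv.ext fun v => h.ac_ext (hT (a * b)) (h.ac_mul (hT a) (hT b)) v, hT, fun g => ⟨fun e => h.mem_of_ac (hT g)
      fun v => congrArg (fun f : Equiv.Perm V => f v) e, fun e => Equiv.ext fun v => h.ac_ext (hT g) (h.ac_mem e) v⟩⟩

/-! ### The standard non-Eichler point -/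

/-- The characteristic function of `⟨e0, e1, e2, e3⟩`. -/
def E0 : ℕ := 65535

/-- The cross product of the `f1, f2, f3`-parts, written in `e1, e2, e3`. -/
def cr (u v : V) : V :=
  sm ((bt u.n 6 && bt v.n 7) ^^ (bt u.n 7 && bt v.n 6)) (vv 2) + sm ((bt u.n 7 && bt v.n 5) ^^ (bt u.n 5 && bt v.n 7)) (vv 4) +
    sm ((bt u.n 5 && bt v.n 6) ^^ (bt u.n 6 && bt v.n 5)) (vv 8)

/-- The involutions centralising the group induced by a standard point. -/
def ga (w v : V) : V := rho false (vv 1) w (v + cr w v)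

/-- The standard point with parameter `c < 512`. -/
def std (c : ℕ) : PD :=
  ⟨1, E0, mat (ga (vv (32 + 2 * (c % 8)))), mat (ga (vv (64 + 2 * (c / 8 % 8)))), mat (ga (vv (128 + 2 * (c / 64 % 8))))⟩

end Cfsg.Agent.W4
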