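import Mathlib
import Cfsg.Agent.W4.Defs

/-! Two more notions for the configurations (see `stubs/Cfsg/Agent/W4/PLAN.md`). -/

set_option autoImplicit false

namespace Cfsg.Agent.W4

open Cfsg.Agent.LX

variable {G : Type*} [Group G]

/-- Every element of `C(z)` acts as a word from `W` times a matrix from `N`. -/
def Bd (z : G) (π : G → V) (L : List PD) (W : List (ℕ × List ℕ)) (N : List ℕ) : Prop :=
  ∀ g T, Ac z π g T → ∃ p ∈ W, ∃ n ∈ N, T = mx (mul (wm (gn L) p.2) n)

/-- Every conjugate of `z` in `C(z)` lies in `Q` or in `Q_t` for a point `t`. -/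
def Fus (z : G) : Prop := ∀ s, IsConj z s → Commute z s → s ∈ QQ z ∨ ∃ t, Pt z t ∧ s ∈ QQ t

/-- The points of the system `A8`. -/
def O30 : ℕ := 0x100010001000100010001000100010001000100010001000100010001fffe

/-- The base points of the system `A8`: Eichler transformations `rho e0 f_i` and `rho f0 e_i`. -/
def L30 : List PD := [
  ⟨1, 0xffff, mat (rho false (vv 1) (vv 32)), mat (rho false (vv 1) (vv 64)), mat (rho false (vv 1) (vv 128))⟩,
  ⟨16, 0x1000100010001000100010001000100010001000100010001000100010001, mat (rho false (vv 16) (vv 2)),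
    mat (rho false (vv 16) (vv 4)), mat (rho false (vv 16) (vv 8))⟩]

end Cfsg.Agent.W4
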