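import Mathlib
import Cfsg.Agent.W4.Data
import Cfsg.Agent.W4.Defs2

/-! The system `3^4 : 2^3`: the four planes, the fundamental subgroups, letters and triangles
(see `stubs/Cfsg/Agent/W4/P3.md`). -/

set_option autoImplicit false
set_option maxRecDepth 100000

namespace Cfsg.Agent.W4.P3

open Cfsg.Agent.Spor.TT Cfsg.Agent.LX Subgroup

/-- The element of order three moving only the plane `i`. -/
def th : Fin 4 → ℕ
  | 0 => 0x7ebedefff6fafc10 | 1 => 0x8040f321dbd7e030 | 2 => 0x80a420a5ec55e6b4 | 3 => 0xf9402081e07d7b90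

/-- A word for `th i`. -/
def thw : Fin 4 → List ℕ
  | 0 => [1, 5, 2, 4, 0, 3] | 1 => [1, 5, 2, 4, 3, 0] | 2 => [1, 5, 4, 3, 2, 0] | 3 => [1, 5, 4, 0, 3, 2]

/-- The characteristic function of the plane `i`. -/
def vm : Fin 4 → ℕ
  | 0 => 0x4000800000000000000000000000000000000000000000000000000000020001
  | 1 => 0x400080000000000000000000000000000000000000002000000000001
  | 2 => 0x1000000000002000000000000000000000000200000000000000000001
  | 3 => 0x10000000000000000000002000002000000000000000000000000000001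

/-- The characteristic function of the orthogonal complement of the plane `i`. -/
def pm : Fin 4 → ℕ
  | 0 => 0x2882411482281441822814412882411482281441288241142882411482281441
  | 1 => 0x4224811824421881422481182442188142248118244218814224811824421881
  | 2 => 0x4218812442188124184224811842248142188124421881241842248118422481
  | 3 => 0x4128821441288214412882144128821414822841148228411482284114822841

/-- The component of `e0` in the plane `i`. -/
def nv : Fin 4 → V
  | 0 => vv 239 | 1 => vv 226 | 2 => vv 228 | 3 => vv 232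

/-- The point over `e0`. -/
def d81 : PD := ⟨1, 0xffff, 0x8448203008040301, 0x8240285008050201, 0x8042249009040201⟩

/-- The element of `d81.els` inverting all `th i`. -/
def t81 : ℕ := mul (mul d81.a d81.b) d81.c

/-- A power of a matrix of order three. -/
def pw3 (m : ℕ) : ℕ → ℕ
  | 0 => one | 1 => m | _ => mul m m

/-- The elements of `3^4`, for `e < 81`. -/
def bm (e : ℕ) : ℕ :=
  mul (pw3 (th 0) (e % 3)) (mul (pw3 (th 1) (e / 3 % 3)) (mul (pw3 (th 2) (e / 9 % 3)) (pw3 (th 3) (e / 27 % 3))))

theorem d81_mem : d81 ∈ L81 := List.mem_cons_self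

theorem th_eq : ∀ i, wm (gn L81) (thw i) = th i := by decide +kernel

variable {G : Type*} [Group G]

/-- The fundamental subgroup `SL₂(3)` of the plane `i`. -/
def Kf (z : G) (π : G → V) (i : Fin 4) : Subgroup G := centralizer {r | r ∈ QQ z ∧ bt (pm i) (π r).n = true}

/-- Letters: `K = ⟨a, b⟩` is `SL₂(3)` with centre `z`, and `⟨a⟩`, `⟨b⟩` are the subgroups of order three inverted
by `s`. -/
structure Lt (z s : G) (K : Subgroup G) (a b : G) : Prop where
  a3 : a ^ 3 = 1
  b3 : b ^ 3 = 1
  br : a * b * a = b * a * b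
  sq : a * b * a * (a * b * a) = z
  sa : cj s a = a⁻¹
  sb : cj s b = b⁻¹
  eq : K = closure {a, b}
  uq : ∀ x ∈ K, x ^ 3 = 1 → cj s x = x⁻¹ → x = 1 ∨ x = a ∨ x = a⁻¹ ∨ x = b ∨ x = b⁻¹

/-- A triangle `z`, `s`, `z s` of points of `Q_p`, rotated by `ρ`. -/
structure Tr (z : G) (π : G → V) (p s ρ : G) : Prop where
  pd : Pd z π p d81
  cp : Commute ρ p
  c1 : cj ρ z = s
  c2 : cj ρ s = z * s
  ac : Ac z π s (mx t81)
  inter : ∀ d ∈ QQ z, d ∈ QQ s → d ∈ QQ p → d = 1 ∨ d = p

end Cfsg.Agent.W4.P3
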