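import Mathlib
import Cfsg.Agent.W4.P3D
import Cfsg.Agent.W4.P3LD
import Cfsg.Agent.Cl.Intertwine

/-! Recognition of `SL₂(3)` and `SL₃(3)` from letters (coset enumerations in `W4/P3LD`). -/

set_option autoImplicit false
set_option linter.unusedVariables false
set_option maxRecDepth 100000

namespace Cfsg.Agent.W4.P3L

open Cfsg.Agent.Spor Cfsg.Agent.Rec Matrix Matrix.SpecialLinearGroup

universe u

/-- The homomorphism from an explicit group given by a presentation. -/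
theorem hom_top {G : Type u} [Group G] {G₀ : Type} [Group G₀] {ws : List (List ℕ)} {m N : ℕ} (h : Pres.{u} ws m N)
    {e₀ : List G₀} {e : List G} (h₀ : Sat ws e₀) (hs : Sat ws e) (hl₀ : e₀.length = m) (hl : e.length = m)
    (ht : clos e₀ = ⊤) (hN : Nat.card G₀ = N) :
    ∃ ψ : G₀ →* G, (∀ i, ψ (nth 1 e₀ i) = nth 1 e i) ∧ ψ.range = clos e := by
  obtain ⟨ψ, h1, h2⟩ := Pres.hom.{u, 0} h h₀ hs hl₀ hl (by rw [ht, Subgroup.card_top, hN])
  let ι : G₀ →* clos e₀ := (MonoidHom.id G₀).codRestrict _ fun x => ht ▸ Subgroup.mem_top x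
  refine ⟨ψ.comp ι, fun i => h1 i, ?_⟩
  rw [MonoidHom.range_comp, MonoidHom.range_eq_top.2 fun x => ⟨x.1, rfl⟩, ← MonoidHom.range_eq_map, h2]

/-- The generators of `SL₂(3)`. -/
def g2 : List (SpecialLinearGroup (Fin 2) (ZMod 3)) :=
  [⟨!![1, 1; 0, 1], by decide +kernel⟩, ⟨!![1, 2; 0, 1], by decide +kernel⟩,
   ⟨!![1, 0; 2, 1], by decide +kernel⟩, ⟨!![1, 0; 1, 1], by decide +kernel⟩]

theorem g2_sat : Sat rel2 g2 := fun w hw => Subtype.ext
  ((by decide +kernel : ∀ w ∈ rel2, (evalW (nth 1 g2) w).1 = 1) w hw)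

theorem g2_top : clos g2 = ⊤ := by
  refine Cl.sl_eq_top_of_prime (by rw [Nat.card_zmod]; norm_num) _ fun i j hij => ?_
  have h : ∀ (i j : Fin 2) (hij : i ≠ j), ∃ k < 4, (transvection hij (1 : ZMod 3)).1 = (nth 1 g2 k).1 := by
    decide +kernel
  obtain ⟨k, -, hk⟩ := h i j hij
  exact Subtype.ext hk ▸ nth_mem_clos g2 k

theorem g2_ker : ∀ g : SpecialLinearGroup (Fin 2) (ZMod 3), g = 1 ∨ g = evalW (nth 1 g2) [0, 2, 0, 0, 2, 0] ∨
    g * g = evalW (nth 1 g2) [0, 2, 0, 0, 2, 0] ∨ g * g * g = evalW (nth 1 g2) [0, 2, 0, 0, 2, 0] ∨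
    (g * (evalW (nth 1 g2) [0, 2, 0] * g⁻¹ * (evalW (nth 1 g2) [0, 2, 0])⁻¹)) *
      (g * (evalW (nth 1 g2) [0, 2, 0] * g⁻¹ * (evalW (nth 1 g2) [0, 2, 0])⁻¹)) =
      evalW (nth 1 g2) [0, 2, 0, 0, 2, 0] := by
  decide +kernel

/-- The generators of `SL₃(3)`. -/
def g3 : List (SpecialLinearGroup (Fin 3) (ZMod 3)) :=
  [⟨!![1, 1, 0; 0, 1, 0; 0, 0, 1], by decide +kernel⟩, ⟨!![1, 2, 0; 0, 1, 0; 0, 0, 1], by decide +kernel⟩,
   ⟨!![1, 0, 0; 2, 1, 0; 0, 0, 1], by decide +kernel⟩, ⟨!![1, 0, 0; 1, 1, 0; 0, 0, 1], by decide +kernel⟩,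
   ⟨!![1, 0, 0; 0, 1, 1; 0, 0, 1], by decide +kernel⟩, ⟨!![1, 0, 0; 0, 1, 2; 0, 0, 1], by decide +kernel⟩,
   ⟨!![1, 0, 0; 0, 1, 0; 0, 2, 1], by decide +kernel⟩, ⟨!![1, 0, 0; 0, 1, 0; 0, 1, 1], by decide +kernel⟩]

theorem g3_sat : Sat (rl 4 6) g3 := fun w hw => Subtype.ext
  ((by decide +kernel : ∀ w ∈ rl 4 6, (evalW (nth 1 g3) w).1 = 1) w hw)

theorem g3_top : clos g3 = ⊤ := by
  refine Cl.sl_eq_top_of_prime (by rw [Nat.card_zmod]; norm_num) _ fun i j hij => ?_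
  have h : ∀ (i j : Fin 3) (hij : i ≠ j), ∃ w ∈ [[0], [3], [4], [7], [0, 4, 1, 5], [7, 3, 6, 2]],
      (transvection hij (1 : ZMod 3)).1 = (evalW (nth 1 g3) w).1 := by
    decide +kernel
  obtain ⟨w, -, hw⟩ := h i j hij
  exact Subtype.ext hw ▸ evalW_mem fun x _ => nth_mem_clos g3 x

theorem inj3 {G : Type u} [Group G] (ψ : SpecialLinearGroup (Fin 3) (ZMod 3) →* G) {x : SpecialLinearGroup (Fin 3) (ZMod 3)}
    (hx : ψ x ≠ 1) : Function.Injective ψ := by
  rw [← MonoidHom.ker_eq_bot_iff]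
  rcases Cl.sl_normal_le_center_or_eq_top (Or.inl (by simp)) ψ.ker with h | h
  · refine (Subgroup.eq_bot_iff_forall _).2 fun g hg => ?_
    obtain ⟨r, h1, h2⟩ := Matrix.SpecialLinearGroup.mem_center_iff.1 (h hg)
    obtain rfl : r = 1 := (by decide : ∀ r : ZMod 3, r ^ 3 = 1 → r = 1) r (by simpa using h1)
    exact Subtype.ext (by rw [← h2]; simp)
  · exact absurd (show x ∈ ψ.ker from h ▸ Subgroup.mem_top x) hx

end Cfsg.Agent.W4.P3L

namespace Cfsg.Agent.W4.P3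

open Cfsg.Agent.Spor Cfsg.Agent.Spor.TT Cfsg.Agent.LX Cfsg.Agent.Gr6 Cfsg.Agent.W3 Subgroup
open Cfsg.Agent.Rec Cfsg.Agent.W4.P3L

variable {G : Type*} [Group G] [Finite G] {z a b c d f g p q s x y ρ : G} {τ : Bool} {π : G → V} {S : V → V} {i j : Fin 4}

omit [Finite G] in
private theorem za {K : Subgroup G} (l : Lt z s K a b) : Commute z a ∧ Commute z b := by
  have h1 : a * b * a * a = b * (a * b * a) := by
    rw [show b * (a * b * a) = b * a * b * a by group, ← l.br]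
  have h2 : a * b * a * b = a * (a * b * a) := by
    rw [show a * b * a * b = a * (b * a * b) by group, ← l.br]
  rw [← l.sq]
  constructor
  · show _ * _ * a = a * _
    rw [mul_assoc, h1, ← mul_assoc, h2, mul_assoc]
  · show _ * _ * b = b * _
    rw [mul_assoc, h2, ← mul_assoc, h1, mul_assoc]

omit [Finite G] in
private theorem ne1 {K : Subgroup G} (l : Lt z s K a b) (z1 : z ≠ 1) : a ≠ 1 ∧ b ≠ 1 := by
  have h := l.br
  have h' := l.sq
  constructor
  · rintro rfl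
    have : b = 1 := by simpa using h
    exact z1 (by rw [← h', this]; simp)
  · rintro rfl
    have : a = 1 := by simpa using h
    exact z1 (by rw [← h', this]; simp)

omit [Finite G] in
private theorem eq1 (h3 : x ^ 3 = 1) (h : x = x⁻¹) : x = 1 := by
  have h2 : x * x = 1 := eq_inv_iff_mul_eq_one.1 h
  rwa [pow_succ, pow_two, h2, one_mul] at h3

theorem Lt.sl2 {K : Subgroup G} (l : Lt z s K a b) (z1 : z ≠ 1) :
    Nonempty (Matrix.SpecialLinearGroup (Fin 2) (ZMod 3) ≃* K) := by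
  have a3 : a * (a * a) = 1 := by rw [← l.a3, pow_three]
  have b3 : b * (b * b) = 1 := by rw [← l.b3, pow_three]
  have br : a * (b * (a * (b⁻¹ * (a⁻¹ * b⁻¹)))) = 1 := by
    rw [show a * (b * (a * (b⁻¹ * (a⁻¹ * b⁻¹)))) = a * b * a * (b * a * b)⁻¹ by group, l.br, mul_inv_cancel]
  have hs : Sat rel2 [a, a⁻¹, b, b⁻¹] := by
    simp only [rel2, sat_cons, sat_nil, evalW_cons, evalW_nil, nth_zero, nth_succ, mul_one, mul_inv_cancel,
      inv_mul_cancel, a3, b3, br, and_self]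
  obtain ⟨ψ, h1, h2⟩ := hom_top pres2 g2_sat hs rfl rfl g2_top (by rw [Cl.card_sl_two, Nat.card_zmod]; norm_num)
  have hz : ψ (evalW (nth 1 g2) [0, 2, 0, 0, 2, 0]) = z := by
    rw [map_evalW, funext h1, ← l.sq]
    simp only [evalW_cons, evalW_nil, nth_zero, nth_succ, mul_one, mul_assoc]
  have hi : Function.Injective ψ := by
    refine (injective_iff_map_eq_one ψ).2 fun g hg => ?_
    rcases g2_ker g with h | h | h | h | h
    · exact h
    all_goals
      refine (z1 ?_).elim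
      rw [← hz, ← h]
      simp only [map_mul, map_inv, hg, inv_one, mul_one, mul_inv_cancel]
  have hK : ψ.range = K := by
    rw [h2, l.eq]
    refine le_antisymm (clos_le.2 ?_) ((closure_le _).2 ?_)
    · have ha : a ∈ closure {a, b} := subset_closure (by simp)
      have hb : b ∈ closure {a, b} := subset_closure (by simp)
      simp [ha, hb]
    · rintro _ (rfl | rfl) <;> exact mem_clos (by simp)
  exact ⟨(MonoidHom.ofInjective hi).trans (MulEquiv.subgroupCongr hK)⟩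

omit [Finite G] in
private theorem letter {K' : Subgroup G} {n : G} (l' : Lt s z K' c d) (hn : n * n = z) (x3 : x ^ 3 = 1) (x1 : x ≠ 1)
    (sx : cj s x = x⁻¹) (zx : Commute z x) (h : cj n⁻¹ (cj (c * d * c) x) ∈ K') :
    ∃ k, (k = 4 ∨ k = 5 ∨ k = 6 ∨ k = 7) ∧
      cj n⁻¹ (cj (c * d * c) x) * nth 1 [a, a⁻¹, b, b⁻¹, c, c⁻¹, d, d⁻¹] k = 1 := by
  have h1 : cj z (c * d * c) = c * d * c * s⁻¹ := by
    rw [cj_mul, cj_mul, l'.sa, l'.sb, ← l'.sq]; group
  have h2 : cj s⁻¹ x = x⁻¹ := by rw [cj_eq_iff, inv_inv, cj_inv, sx, inv_inv]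
  have h3 : cj z (cj n⁻¹ (cj (c * d * c) x)) = (cj n⁻¹ (cj (c * d * c) x))⁻¹ := by
    rw [cj_cj z, show z * n⁻¹ = n⁻¹ * z by rw [← hn]; group, ← cj_cj, cj_dist z, h1, cj_of_commute zx, ← cj_cj, h2,
      cj_inv, cj_inv]
  rcases l'.uq _ h (by rw [← cj_pow, ← cj_pow, x3, cj_one_right, cj_one_right]) h3 with e | e | e | e | e
  · exact (x1 (cj_injective _ (cj_injective _ (e.trans (by rw [cj_one_right, cj_one_right]))))).elim
  · exact ⟨5, by simp, by rw [e]; exact mul_inv_cancel c⟩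
  · exact ⟨4, by simp, by rw [e]; exact inv_mul_cancel c⟩
  · exact ⟨7, by simp, by rw [e]; exact mul_inv_cancel d⟩
  · exact ⟨6, by simp, by rw [e]; exact inv_mul_cancel d⟩

theorem Lt.sl3 {K K' : Subgroup G} (l : Lt z s K a b) (l' : Lt s z K' c d) (z1 : z ≠ 1) (ad : Commute a d)
    (bc : Commute b c) (h : ∀ x ∈ K, cj (a * b * a)⁻¹ (cj (c * d * c) x) ∈ K') :
    Nonempty (↥(K ⊔ K') ≃* Matrix.SpecialLinearGroup (Fin 3) (ZMod 3)) := by
  obtain ⟨a1, b1⟩ := ne1 l z1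
  obtain ⟨za', zb⟩ := za l
  have s1 : s ≠ 1 := by
    rintro rfl
    exact a1 (eq1 l.a3 ((cj_one a).symm.trans l.sa))
  have ha : a ∈ K := l.eq ▸ subset_closure (by simp)
  have hb : b ∈ K := l.eq ▸ subset_closure (by simp)
  have hc : c ∈ K' := l'.eq ▸ subset_closure (by simp)
  have hd : d ∈ K' := l'.eq ▸ subset_closure (by simp)
  obtain ⟨k, hk, ek⟩ := letter (a := a) (b := b) l' l.sq l.a3 a1 l.sa za' (h a ha)
  obtain ⟨m, hm, em⟩ := letter (a := a) (b := b) l' l.sq l.b3 b1 l.sb zb (h b hb)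
  have cube : ∀ {x : G}, x ^ 3 = 1 → x * (x * x) = 1 := fun {x} hx => by rw [← hx, pow_three]
  have br : ∀ {a b : G}, a * b * a = b * a * b → a * (b * (a * (b⁻¹ * (a⁻¹ * b⁻¹)))) = 1 := fun {a b} hx => by
    rw [show a * (b * (a * (b⁻¹ * (a⁻¹ * b⁻¹)))) = a * b * a * (b * a * b)⁻¹ by group, hx, mul_inv_cancel]
  have iv : ∀ {c d x s : G}, c * d * c * (c * d * c) = s → cj s x = x⁻¹ →
      c * (d * (c * (c * (d * (c * (x * (c⁻¹ * (d⁻¹ * (c⁻¹ * (c⁻¹ * (d⁻¹ * (c⁻¹ * x)))))))))))) = 1 :=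
    fun {c d x s} h1 h2 => by
      rw [← inv_mul_cancel x, ← h2, ← h1, cj_def]; group
  have cm : ∀ {x y : G}, Commute x y → x * (y * (x⁻¹ * y⁻¹)) = 1 := fun {x y} hx => by
    rw [← mul_assoc, hx.eq]; group
  have hs : Sat (rl k m) [a, a⁻¹, b, b⁻¹, c, c⁻¹, d, d⁻¹] := by
    refine sat_cons.2 ⟨?_, sat_cons.2 ⟨?_, ?_⟩⟩
    · refine Eq.trans ?_ ek
      simp only [evalW_cons, evalW_nil, nth_zero, nth_succ, mul_one, cj_def, mul_inv_rev, inv_inv, mul_assoc]
    · refine Eq.trans ?_ em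
      simp only [evalW_cons, evalW_nil, nth_zero, nth_succ, mul_one, cj_def, mul_inv_rev, inv_inv, mul_assoc]
    · simp only [relB, sat_cons, sat_nil, evalW_cons, evalW_nil, nth_zero, nth_succ, mul_one, mul_inv_cancel,
        inv_mul_cancel, cube l.a3, cube l.b3, cube l'.a3, cube l'.b3, br l.br, br l'.br, iv l'.sq l.sa, iv l'.sq l.sb,
        iv l.sq l'.sa, iv l.sq l'.sb, cm ad, cm bc, and_self]
  by_cases hkm : k = 4 ∧ m = 6
  swap
  · have h1 : c ∈ centralizer {z} := (bad hk hm hkm).mem hs (H := centralizer {z}) (fun x hx => by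
      have h2 : a ∈ centralizer {z} := mem_centralizer_singleton_iff.2 za'.symm
      have h3 : b ∈ centralizer {z} := mem_centralizer_singleton_iff.2 zb.symm
      interval_cases x
      exacts [h2, inv_mem h2, h3, inv_mem h3]) 4 (by norm_num)
    have h2 : Commute c z := mem_centralizer_singleton_iff.1 h1
    exact ((ne1 l' s1).1 (eq1 l'.a3 ((cj_of_commute h2.symm).symm.trans l'.sa))).elim
  obtain ⟨rfl, rfl⟩ := hkm
  obtain ⟨ψ, h1, h2⟩ := hom_top pres3 g3_sat hs rfl rfl g3_top (by rw [Cl.card_sl_three, Nat.card_zmod]; norm_num)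
  have hi : Function.Injective ψ := inj3 ψ (x := nth 1 g3 0) (by rw [h1]; exact a1)
  have hK : ψ.range = K ⊔ K' := by
    rw [h2]
    refine le_antisymm (clos_le.2 ?_) (sup_le ?_ ?_)
    · simp [mem_sup_left ha, mem_sup_left hb, mem_sup_right hc, mem_sup_right hd]
    · rw [l.eq]
      refine (closure_le _).2 ?_
      rintro _ (rfl | rfl) <;> exact mem_clos (by simp)
    · rw [l'.eq]
      refine (closure_le _).2 ?_
      rintro _ (rfl | rfl) <;> exact mem_clos (by simp)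
  exact ⟨((MonoidHom.ofInjective hi).trans (MulEquiv.subgroupCongr hK)).symm⟩

end Cfsg.Agent.W4.P3
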