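import Mathlib
import Cfsg.Agent.W4.Defs2

/-! The group induced on `V` by `Q_t ∩ C(z)`: normal forms. -/

set_option autoImplicit false
set_option maxRecDepth 100000
set_option linter.unusedSectionVars false
set_option linter.unusedVariables false

namespace Cfsg.Agent.W4

open Cfsg.Agent.Spor Cfsg.Agent.Spor.TT Cfsg.Agent.LX Cfsg.Agent.Gr6 Cfsg.Agent.W3 Subgroup

section lin

variable {τ : Bool} {T σ : V → V} {x a b c u v w : V} {l : List V}

theorem mem_els_of_perp (hx : x ≠ 0) (h : ∀ y, fb y x = false → (∀ b ∈ l, fb y b = false) → fb y a = false) :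
    a ∈ els x l := by
  induction l generalizing a with
  | nil => exact els_nil.2 (perp_perp x hx a fun u hu => h u hu (by simp))
  | cons b l ih =>
    by_cases k : ∃ u, fb u x = false ∧ (∀ b ∈ l, fb u b = false) ∧ fb u b = true
    · obtain ⟨u, h1, h2, h3⟩ := k
      have := ih (a := sm (fb u a) b + a) fun y y1 y2 => by
        have := h (y + sm (fb y b) u) (by rw [fb_add_left, fb_sm_left, y1, h1, Bool.and_false]; rfl)
          (List.forall_mem_cons.2 ⟨by rw [fb_add_left, fb_sm_left, h3, Bool.and_true, Bool.xor_self],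
            fun d hd => by rw [fb_add_left, fb_sm_left, y2 d hd, h2 d hd, Bool.and_false]; rfl⟩)
        rw [fb_add_left, fb_sm_left] at this
        rw [fb_add_right, fb_sm_right, Bool.and_comm, Bool.xor_comm, this]
      refine els_cons.2 ?_
      revert this
      cases fb u a
      · rw [sm_false, zero_add]; exact .inl
      · exact .inr
    · exact els_cons.2 (.inl (ih fun y y1 y2 => h y y1 (List.forall_mem_cons.2
        ⟨by_contra fun e => k ⟨y, y1, y2, Bool.eq_true_of_not_eq_false e⟩, y2⟩)))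

theorem exists_dual (hx : x ≠ 0) (h : a ∉ els x l) : ∃ y, fb y x = false ∧ (∀ b ∈ l, fb y b = false) ∧ fb y a = true := by
  by_contra k
  exact h (mem_els_of_perp hx fun y y1 y2 => by_contra fun e => k ⟨y, y1, y2, Bool.eq_true_of_not_eq_false e⟩)

theorem qb_fix (hb : qb τ b = false) (h : fb v b = true) : qb τ (v + sm (qb τ v) b) = false := by
  rw [qb_add, qb_sm, fb_sm_right, hb, h]
  cases qb τ v <;> rfl

/-- A totally singular 4-space is the first half of a hyperbolic basis. -/
theorem exists_hyp (i : Ind x [a, b, c]) (k : ∀ v ∈ els x [a, b, c], qb τ v = false) :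
    ∃ f0 f1 f2 f3, ∀ v, qb τ (lin x a b c f0 f1 f2 f3 v) = qb false v := by
  obtain ⟨i1, i2, i3, hx⟩ := i
  have s := sub_els x [a, b, c]
  have ma : a ∈ els x [a, b, c] := mem_els (by simp)
  have mb : b ∈ els x [a, b, c] := mem_els (by simp)
  have mc : c ∈ els x [a, b, c] := mem_els (by simp)
  have o : ∀ {u v}, u ∈ els x [a, b, c] → v ∈ els x [a, b, c] → fb u v = false := fun hu hv => by
    have := k _ (s.add _ _ hu hv)
    rwa [qb_add, k _ hu, k _ hv, Bool.false_xor, Bool.false_xor] at this
  have e1 := o s.self ma; have e2 := o s.self mb; have e3 := o s.self mc; have e4 := o ma mb; have e5 := o ma mc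
  have e6 := o mb mc; have e7 := o ma s.self; have e8 := o mb s.self; have e9 := o mc s.self; have e10 := o mb ma
  have e11 := o mc ma; have e12 := o mc mb
  obtain ⟨f1, a0, a1, a2, a3, a4⟩ : ∃ y, fb y x = false ∧ fb y a = true ∧ fb y b = false ∧ fb y c = false ∧
      qb τ y = false := by
    obtain ⟨y, h1, h2, h3⟩ := exists_dual hx i1
    refine ⟨_, ?_, ?_, ?_, ?_, qb_fix (k a ma) h3⟩ <;>
      simp only [fb_add_left, fb_sm_left, h1, h3, h2 b (by simp), h2 c (by simp), e7, e4, e5, fb_self, Bool.and_false,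
        Bool.xor_false]
  obtain ⟨f2, b0, b1, b2, b3, b4, b5⟩ : ∃ y, fb y x = false ∧ fb y a = false ∧ fb y b = true ∧ fb y c = false ∧
      qb τ y = false ∧ fb y f1 = false := by
    obtain ⟨y, h1, h2, h3⟩ := exists_dual hx i2
    refine ⟨_, ?_, ?_, ?_, ?_, qb_fix (v := y + sm (fb y a) f1 + sm (fb y f1) a) (k b mb) ?_, ?_⟩ <;>
      simp only [fb_add_left, fb_sm_left, h1, h3, h2 c (by simp), a0, a1, a2, a3, fb_comm a f1, fb_comm b f1, e7, e8, e4, e5,
        e6, e10, fb_self, Bool.and_false, Bool.and_true, Bool.xor_false, Bool.xor_self]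
  obtain ⟨f3, c0, c1, c2, c3, c4, c5, c6⟩ : ∃ y, fb y x = false ∧ fb y a = false ∧ fb y b = false ∧ fb y c = true ∧
      qb τ y = false ∧ fb y f1 = false ∧ fb y f2 = false := by
    obtain ⟨y, h1, -, h3⟩ := exists_dual hx i3
    refine ⟨_, ?_, ?_, ?_, ?_, qb_fix (v := y + sm (fb y a) f1 + sm (fb y f1) a + sm (fb y b) f2 + sm (fb y f2) b)
      (k c mc) ?_, ?_, ?_⟩ <;>
      simp only [fb_add_left, fb_sm_left, h1, h3, a0, a1, a2, a3, b0, b1, b2, b3, b5, fb_comm a f1, fb_comm b f1,
        fb_comm c f1, fb_comm a f2, fb_comm b f2, fb_comm c f2, fb_comm f1 f2, e7, e8, e9, e4, e5, e6, e10, e11, e12, fb_self,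
        Bool.and_false, Bool.and_true, Bool.xor_false, Bool.xor_self]
  obtain ⟨f0, d0, d1, d2, d3, d4, d5, d6, d7⟩ : ∃ y, fb y x = true ∧ fb y a = false ∧ fb y b = false ∧ fb y c = false ∧
      qb τ y = false ∧ fb y f1 = false ∧ fb y f2 = false ∧ fb y f3 = false := by
    obtain ⟨y, h1⟩ := exists_fb x hx
    refine ⟨_, ?_, ?_, ?_, ?_, qb_fix (v := y + sm (fb y a) f1 + sm (fb y f1) a + sm (fb y b) f2 + sm (fb y f2) b +
      sm (fb y c) f3 + sm (fb y f3) c) (k x s.self) ?_, ?_, ?_, ?_⟩ <;>
      simp only [fb_add_left, fb_sm_left, h1, a0, a1, a2, a3, b0, b1, b2, b3, b5, c0, c1, c2, c3, c5, c6, fb_comm a f1,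
        fb_comm b f1, fb_comm c f1, fb_comm x f1, fb_comm a f2, fb_comm b f2, fb_comm c f2, fb_comm x f2, fb_comm a f3,
        fb_comm b f3, fb_comm c f3, fb_comm x f3, fb_comm f1 f2, fb_comm f1 f3, fb_comm f2 f3, e1, e2, e3, e7, e8, e9, e4, e5,
        e6, e10, e11, e12, fb_self, Bool.and_false, Bool.and_true, Bool.xor_false, Bool.xor_self]
  refine ⟨f0, f1, f2, f3, fun v => ?_⟩
  rw [qb_bits false v]
  simp only [lin, qb_add, qb_sm, fb_add_left, fb_sm_left, fb_sm_right, k x s.self, k a ma, k b mb, k c mc, a4, b4, c4, d4,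
    e1, e2, e3, e4, e5, e6, fb_comm x f0, fb_comm a f0, fb_comm b f0, fb_comm c f0, fb_comm x f1, fb_comm a f1, fb_comm b f1,
    fb_comm c f1, fb_comm x f2, fb_comm a f2, fb_comm b f2, fb_comm c f2, fb_comm x f3, fb_comm a f3, fb_comm b f3,
    fb_comm c f3, fb_comm f1 f2, fb_comm f1 f3, fb_comm f2 f3, a0, a1, a2, a3, b0, b1, b2, b3, b5, c0, c1, c2, c3, c5, c6, d0,
    d1, d2, d3, d5, d6, d7, Bool.and_false, Bool.and_true, Bool.xor_false, Bool.false_xor, Bool.false_and]
  simp only [Bool.and_comm]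

/-- No totally singular 4-space in the minus type. -/
theorem no_ts4 (i : Ind x [a, b, c]) (k : ∀ v ∈ els x [a, b, c], qb true v = false) : False := by
  obtain ⟨f0, f1, f2, f3, h⟩ := exists_hyp i k
  have h1 : Function.Injective (lin x a b c f0 f1 f2 f3) := fun u v e => eq_of_fb fun w => by
    have k : ∀ u, fb (lin x a b c f0 f1 f2 f3 w) (lin x a b c f0 f1 f2 f3 u) = fb w u := fun u => by
      have := h (w + u)
      rwa [lin_add, qb_add, qb_add, h, h, Bool.xor_right_inj] at this
    rw [← k, e, k]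
  have h2 := Finset.card_le_card_of_injOn (s := Finset.univ.filter fun v => qb false v = false)
    (t := Finset.univ.filter fun v => qb true v = false) _ (fun v hv => Finset.mem_coe.2 (Finset.mem_filter.2
      ⟨Finset.mem_univ _, (h v).trans (Finset.mem_filter.1 (Finset.mem_coe.1 hv)).2⟩)) h1.injOn
  revert h2
  decide +kernel

theorem Iso.exists_inv (h : Iso τ σ) : ∃ s, Iso τ s ∧ (∀ v, σ (s v) = v) ∧ ∀ v, s (σ v) = v := by
  choose s hs using h.surj
  exact ⟨s, ⟨fun u v => h.inj (by rw [h.add, hs, hs, hs]), fun v => by rw [← h.q, hs]⟩, hs, fun v => h.inj (hs _)⟩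

theorem lin_basis (a b c d e f g h : V) : lin a b c d e f g h (vv 1) = a ∧ lin a b c d e f g h (vv 2) = b ∧
    lin a b c d e f g h (vv 4) = c ∧ lin a b c d e f g h (vv 8) = d := by
  refine ⟨?_, ?_, ?_, ?_⟩
  · change a + 0 + 0 + 0 + 0 + 0 + 0 + 0 = a; simp only [add_zero]
  · change 0 + b + 0 + 0 + 0 + 0 + 0 + 0 = b; simp only [add_zero, zero_add]
  · change 0 + 0 + c + 0 + 0 + 0 + 0 + 0 = c; simp only [add_zero, zero_add]
  · change 0 + 0 + 0 + d + 0 + 0 + 0 + 0 = d; simp only [add_zero, zero_add]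

variable {E : V → Prop}

theorem alt1 (h : Iso τ T) (Eq : ∀ e, E e → qb τ e = false) (hv : E (v + T v)) : fb v (v + T v) = false := by
  have := h.q v
  rw [← add_add_self v (T v), qb_add, Eq _ hv] at this
  revert this; cases qb τ v <;> cases fb v (v + T v) <;> decide

theorem alt2 (h : Iso τ T) (Eq : ∀ e, E e → qb τ e = false) (hE : ∀ v, fb v x = false → E (v + T v))
    (hu : fb u x = false) (hv : fb v x = false) : fb u (v + T v) = fb v (u + T u) := by
  have := alt1 h Eq (hE (u + v) ((sub_perp x).add _ _ hu hv))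
  rw [h.add, add_add_add_comm, fb_add_left, fb_add_right (u + T u), fb_add_right (u + T u), alt1 h Eq (hE u hu),
    alt1 h Eq (hE v hv)] at this
  revert this; cases fb u (v + T v) <;> cases fb v (u + T u) <;> decide

/-- An isometry that is trivial on `x ^ ⊥ / x` is an Eichler transformation. -/
theorem eq_rho (h : Iso τ T) {v0 : V} (hx : T x = x) (h0 : fb v0 x = true)
    (a3 : ∀ v, fb v x = false → v + T v = 0 ∨ v + T v = x) (v : V) : T v = rho τ x (v0 + T v0) v := by
  generalize hw : v0 + T v0 = w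
  have wx : fb w x = false := by
    have := h.f v0 x
    rw [hx] at this
    rw [← hw, fb_add_left, this, Bool.xor_self]
  have a5 : ∀ v, fb v x = false → T v = v + sm (fb v w) x := fun v hv => by
    have k := h.f v v0
    have x1 := (fb_comm x v0).trans h0
    have x2 := (fb_comm x w).trans wx
    rw [← add_add_self v (T v), ← add_add_self v0 (T v0), hw] at k
    rw [← add_add_self v (T v)]
    rcases a3 v hv with e | e <;> rw [e] at k ⊢ <;> simp only [fb_add_left, fb_add_right, x1, x2, add_zero] at k <;>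
      revert k <;> cases fb v v0 <;> cases fb v w <;> simp
  cases hv : fb v x
  · rw [rho_of_perp hv, a5 v hv]
  · have k := h.q v0
    rw [← add_add_self v0 (T v0), hw, qb_add] at k
    have k1 : fb v0 w = qb τ w := by revert k; cases qb τ v0 <;> cases qb τ w <;> cases fb v0 w <;> decide
    have k2 := a5 (v0 + v) (by rw [fb_add_left, hv, h0]; rfl)
    rw [h.add, add_comm, add_eq_iff, ← add_add_self v0 (T v0), hw, fb_add_left, k1] at k2
    rw [k2, rho, hv, Bool.and_true, Bool.xor_comm, sm_true]
    rw [show ∀ s, v0 + v + s + (v0 + w) = (v0 + v0) + (v + w + s) from fun s => by abel, add_self, zero_add]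

end lin

variable {G : Type*} [Group G] [Finite G] {z a g s t : G} {τ : Bool} {π : G → V} {S T : V → V} {u v w : V}

namespace Co

variable (h : Co z τ π)
include h

theorem w_perp (p : Pt z t) (k : At z π t T) (u : V) : fb (u + T u) (π t) = false := by
  have := (h.at_iso k).f u (π t)
  rw [h.at_fix p k] at this
  rw [fb_add_left, this, Bool.xor_self]

theorem w_comp (p : Pt z t) (k : At z π t S) (k' : At z π t T) (u : V) :
    Et z π t (u + S (T u) + (u + S u + (u + T u))) := by
  have := h.at_et p k (h.w_perp p k' u)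
  rw [(h.at_iso k).add] at this
  rwa [show u + S (T u) + (u + S u + (u + T u)) = u + u + (u + T u + (S u + S (T u))) by abel, add_self, zero_add]

theorem at_alt (p : Pt z t) (k : At z π t T) (hu : fb u (π t) = false) (hv : fb v (π t) = false) :
    fb u (v + T v) = fb v (u + T u) := alt2 (h.at_iso k) (fun _ => h.et_q p) (fun _ => h.at_et p k) hu hv

theorem at_w' (p : Pt z t) (k : At z π t T) (hu : fb u (π t) = true) (hv : fb v (π t) = false) :
    fb (u + T u) (v + T v) = false := by
  rw [h.at_alt p k (h.w_perp p k u) hv]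
  rcases h.at_w p k hu with e | e <;> rw [e]
  · rw [add_self, fb_zero]
  · rw [add_add_self, hv]

/-- The trilinear form `f(u, v + T v)` is alternating. -/
theorem exists_three (p : Pt z t) (k : At z π t T) (hu : fb u (π t) = false) (hv : fb v (π t) = false)
    (e : fb u (v + T v) = true) : ∃ a b c, Ind (π t) [a, b, c] ∧ Et z π t a ∧ Et z π t b ∧ Et z π t c := by
  obtain ⟨q, hq, k0⟩ := h.exists_q p
  obtain ⟨S, k1, k2⟩ := h.exists_at p hv k0
  have s := h.sub_et p
  have wT := h.w_perp p k (π q)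
  have wS := h.w_perp p k1 (π q)
  have o : ∀ {R y}, At z π t R → fb y (π t) = false → fb (π q + S (π q)) (y + R y) = fb v (y + R y) := fun kR hy => by
    have := h.et_f p k2 (h.at_et p kR hy)
    rw [fb_add_left] at this
    revert this; cases fb v _ <;> cases fb (π q + S (π q)) _ <;> decide
  have c1 : fb v (u + S u) = false := by rw [← o k1 hu, h.at_w' p k1 k0 hu]
  have c2 : fb (π q + T (π q)) (u + S u) = true := by
    have d1 := h.at_w' p (h.at_comp k1 k) k0 hu
    have d2 := h.w_comp p k1 k (π q)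
    have d3 := h.et_f p d2 (h.at_et p (h.at_comp k1 k) hu)
    have d4 := h.w_comp p k1 k u
    have d5 : S (u + T u) = u + T u ∨ S (u + T u) = u + T u + π t := by
      refine (perp_perp _ (h.pt_ne p) (u + T u + S (u + T u)) fun y hy => ?_).imp (fun e => (add_eq_zero_iff.1 e).symm)
        fun e => by rw [← e, add_add_self]
      rw [h.at_alt p k1 hy (h.w_perp p k u)]
      exact h.et_f p (h.at_et p k hu) (h.at_et p k1 hy)
    have d6 : ∀ y, fb y (π t) = false → fb y (u + S (T u)) = (fb y (u + S u) ^^ fb y (u + T u)) := fun y hy => by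
      have : u + S (T u) = u + S u + S (u + T u) := by rw [(h.at_iso k1).add, add_assoc, add_add_self]
      rcases d5 with e | e <;> rw [this, e]
      · rw [fb_add_right]
      · rw [fb_add_right, fb_add_right (u + T u), hy, Bool.xor_false]
    simp only [Function.comp] at d1 d3
    rw [fb_add_left, d1, Bool.false_xor, d6 _ ((sub_perp _).add _ _ wS wT), fb_add_left (π q + S (π q)),
      fb_add_left (π q + S (π q)), h.at_w' p k1 k0 hu, h.at_w' p k k0 hu, o k hu, h.at_alt p k hv hu, e] at d3
    revert d3; cases fb (π q + T (π q)) (u + S u) <;> decide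
  have n : ∀ {y l e}, fb y (π t) = false → (∀ b ∈ l, fb y b = false) → fb y e = true → e ∉ els (π t) l := fun hy hl he c => by
    have k2 : Sub (π t) (fb _ · = false) := ⟨fb_zero _, hy, fun a b c d => by rw [fb_add_right, c, d]; rfl⟩
    rw [k2.els hl _ c] at he
    exact Bool.false_ne_true he
  refine ⟨u + S u, u + T u, v + T v, ⟨n wT (by simp only [List.forall_mem_cons, h.at_w' p k k0 hu, h.at_w' p k k0 hv]; simp) c2,
    n hv (by simpa using alt1 (h.at_iso k) (fun _ => h.et_q p) (h.at_et p k hv)) ((h.at_alt p k hv hu).trans e),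
    n hu (by simp) e, h.pt_ne p⟩, h.at_et p k1 hu, h.at_et p k hu, h.at_et p k hv⟩

/-- If `Q ∩ Q_t` has order at most 16, the action is by Eichler transformations. -/
theorem eich_of (p : Pt z t) {e e' : V} (k : ∀ v, Et z π t v → v ∈ els (π t) [e', e]) : Eich z τ π t := fun a ha hz => by
  obtain ⟨T, c⟩ := h.exists_ac hz
  obtain ⟨q, hq, k0⟩ := h.exists_q p
  have k1 : At z π t T := ⟨a, ha, c⟩
  refine ⟨_, h.w_perp p k1 (π q), c.congr (eq_rho (h.iso c) (h.at_fix p k1) k0 fun v hv =>
    perp_perp _ (h.pt_ne p) _ fun u hu => by_contra fun e => ?_)⟩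
  obtain ⟨a, b, d, i, h1, h2, h3⟩ := h.exists_three p k1 hu hv (Bool.eq_true_of_not_eq_false e)
  have := (List.subperm_of_subset i.nodup fun v hv => k v ((h.sub_et p).els (by simp [h1, h2, h3]) v hv)).length_le
  simp [length_els] at this

/-- There is a conjugate point that is not orthogonal to a given point. -/
theorem exists_opp (ir : Irr z π) (p : Pt z t) : ∃ g, Commute z g ∧ fb (π (cj g t)) (π t) = true := by
  by_contra k
  have k1 : ∀ g, Commute z g → fb (π (cj g t)) (π t) = false := fun g hg => by_contra fun e =>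
    k ⟨g, hg, Bool.eq_true_of_not_eq_false e⟩
  rcases ir (fun v => ∀ g, Commute z g → fb (π (cj g t)) v = false) (fun _ _ => fb_zero _)
    (fun u v a b g hg => by rw [fb_add_right, a g hg, b g hg]; rfl) (fun g T c v a r hr => by
      rw [← cj_cj_inv g (cj r t), c.2 _ (h.bg.cj_mem c.1.inv_right (h.bg.cj_mem hr p.mem)), (h.iso c).f, cj_cj]
      exact a _ (c.1.inv_right.mul_right hr)) with e | e
  · exact h.pt_ne p (e _ k1)
  · obtain ⟨u, hu⟩ := exists_fb _ (h.pt_ne p)
    have := e u 1 (Commute.one_right _)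
    rw [cj_one, fb_comm, hu] at this
    exact Bool.noConfusion this

end Co

end Cfsg.Agent.W4
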