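import Mathlib
import Cfsg.Agent.W4.Loc

/-! The image of `Q ∩ Q_t` has not dimension two or three (PLAN section E12). -/

set_option autoImplicit false
set_option linter.unusedVariables false

namespace Cfsg.Agent.W4

open Cfsg.Agent.Spor Cfsg.Agent.Spor.TT Cfsg.Agent.LX Cfsg.Agent.Gr6 Cfsg.Agent.W3 Subgroup

namespace E12

open Module

/-- Subspaces. -/
abbrev SS := Submodule (ZMod 2) V

/-- The dimension. -/
noncomputable abbrev dm (S : SS) : ℕ := finrank (ZMod 2) S

/-- A closed predicate as a subspace. -/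
def toS {x : V} {S : V → Prop} (h : Sub x S) : SS where
  carrier := {v | S v}
  add_mem' := fun a b => h.add _ _ a b
  zero_mem' := h.zero
  smul_mem' c v hv := by
    rcases Cl.quad_zmod2_cases c with rfl | rfl
    · simpa using h.zero
    · simpa using hv

theorem rk_V : finrank (ZMod 2) V = 8 := by
  have := Module.card_eq_pow_finrank (K := ZMod 2) (V := V)
  rw [ZMod.card, ← Nat.card_eq_fintype_card, card_V] at this
  exact Nat.pow_right_injective le_rfl (this.symm.trans (by norm_num))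

theorem dm_le (S : SS) : dm S ≤ 8 := rk_V ▸ S.finrank_le

theorem exists_notMem (S : SS) (l : List V) (h : l.length < 2 ^ dm S) : ∃ v ∈ S, v ∉ l := by
  classical
  by_contra! k
  have h1 := Module.card_eq_pow_finrank (K := ZMod 2) (V := S)
  have h2 : Fintype.card S ≤ l.toFinset.card := by
    rw [← Fintype.card_coe]
    exact Fintype.card_le_of_injective (fun v => ⟨v.1, List.mem_toFinset.2 (k _ v.2)⟩)
      fun a b e => Subtype.ext (congrArg Subtype.val e :)
  have := List.toFinset_card_le l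
  rw [ZMod.card] at h1
  change _ < 2 ^ finrank (ZMod 2) S at h
  omega

theorem dm_le_of {S : SS} {l : List V} {n : ℕ} (h : ∀ v ∈ S, v ∈ l) (hl : l.length < 2 ^ (n + 1)) : dm S ≤ n := by
  by_contra k
  obtain ⟨v, a, b⟩ := exists_notMem S l (hl.trans_le (Nat.pow_le_pow_right two_pos (by omega)))
  exact b (h v a)

theorem dm_lt {S T : SS} {v : V} (h : S ≤ T) (h1 : v ∈ T) (h2 : v ∉ S) : dm S < dm T :=
  Submodule.finrank_lt_finrank_of_lt (h.lt_of_ne fun e => h2 (e ▸ h1))

/-- The orthogonal complement. -/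
def og (S : SS) : SS := LinearMap.BilinForm.orthogonal (QuadraticMap.polarBilin (qf false)) S

theorem mem_og {S : SS} {v : V} : v ∈ og S ↔ ∀ u ∈ S, fb u v = false := by
  simp only [og, LinearMap.BilinForm.mem_orthogonal_iff, QuadraticMap.polarBilin_apply_apply, polar_qf, b2_eq_zero]

theorem dm_og (S : SS) : dm (og S) + dm S = 8 := by
  have h1 : dm (og S) = finrank (ZMod 2) V - dm S := LinearMap.BilinForm.finrank_orthogonal (qf_nondeg false) S
  have := dm_le S
  rw [rk_V] at h1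
  omega

/-- The line spanned by a vector. -/
def ln (n : V) : SS := toS (sub_els n [])

theorem mem_ln {n v : V} : v ∈ ln n ↔ v = 0 ∨ v = n := els_nil

theorem dm_ln (n : V) : dm (ln n) ≤ 1 := dm_le_of (l := els n []) (fun _ h => h) (by simp [length_els])

theorem mem_og_ln {n v : V} : v ∈ og (ln n) ↔ fb v n = false := by
  simp [mem_og, mem_ln, fb_comm n]

theorem dm_sup (S T : SS) : dm (S ⊔ T) + dm (S ⊓ T) = dm S + dm T := Submodule.finrank_sup_add_finrank_inf_eq S T

theorem dm_inf (S : SS) (n : V) : dm S ≤ dm (S ⊓ og (ln n)) + 1 := by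
  have := dm_sup S (og (ln n))
  have := dm_og (ln n)
  have := dm_ln n
  have := dm_le (S ⊔ og (ln n))
  omega

theorem exists_sing (τ : Bool) {S : SS} (h : 3 ≤ dm S) : ∃ v ∈ S, v ≠ 0 ∧ qb τ v = false := by
  have h8 : 8 ≤ 2 ^ dm S := Nat.pow_le_pow_right two_pos h
  obtain ⟨a, ha, a1⟩ := exists_notMem S [0] (h8.trans_lt' (by simp))
  obtain ⟨b, hb, b1⟩ := exists_notMem S [0, a] (h8.trans_lt' (by simp))
  obtain ⟨c, hc, c1⟩ := exists_notMem S [0, a, b, a + b] (h8.trans_lt' (by simp))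
  simp only [List.mem_cons, List.not_mem_nil, or_false, not_or] at a1 b1 c1
  by_contra! k
  have k1 := k a ha a1
  have k2 := k b hb b1.1
  have k3 := k c hc c1.1
  have k4 := k _ (add_mem ha hb) fun e => b1.2 (add_eq_zero_iff.1 e).symm
  have k5 := k _ (add_mem ha hc) fun e => c1.2.1 (add_eq_zero_iff.1 e).symm
  have k6 := k _ (add_mem hb hc) fun e => c1.2.2.1 (add_eq_zero_iff.1 e).symm
  have k7 := k _ (add_mem (add_mem ha hb) hc) fun e => c1.2.2.2 (add_eq_zero_iff.1 e).symm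
  simp only [qb_add, fb_add_left] at k4 k5 k6 k7
  revert k1 k2 k3 k4 k5 k6 k7
  cases qb τ a <;> cases qb τ b <;> cases qb τ c <;> cases fb a b <;> cases fb a c <;> cases fb b c <;> simp

/-- The linear algebra of the section. -/
theorem la {τ : Bool} {E W : SS} {x y e : V} (xE : x ∈ E) (xW : x ∈ W) (x0 : x ≠ 0) (he : e ∈ E) (e1 : e ∉ W)
    (EW : ∀ v ∈ E, v ∈ W → v = 0 ∨ v = x) (d1 : 8 ≤ dm E + dm W) (d2 : 5 ≤ dm W) (Wx : ∀ v ∈ W, fb v x = false)
    (EE : ∀ u ∈ E, ∀ v ∈ E, fb u v = false) (y0 : y ≠ 0) (yx : y ≠ x)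
    (iW : ∀ u ∈ W, fb u y = false → ∀ v ∈ W, sm (fb v u ^^ (qb τ u && fb v y)) y ∈ W)
    (iE : ∀ u ∈ W, fb u y = false → ∀ v ∈ E, ∃ c, sm (fb v y) u + sm (fb v u ^^ (qb τ u && fb v y)) y + sm c x ∈ E) :
    False := by
  have d3 := dm_inf W y
  set Y := W ⊓ og (ln y) with hY
  have mY : ∀ u ∈ Y, u ∈ W ∧ fb u y = false := fun u hu => ⟨hu.1, mem_og_ln.1 hu.2⟩
  have sm_mem : ∀ (S : SS) b v, v ∈ S → sm b v ∈ S := fun S b v h => by cases b <;> simp [h]
  by_cases yW : y ∈ W
  · have yE : y ∉ E := fun h => (EW y h yW).elim y0 yx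
    have k : ∀ u ∈ Y, ∀ v ∈ E, sm (fb v y) u + sm (fb v u ^^ (qb τ u && fb v y)) y ∈ ln x := fun u hu v hv => by
      obtain ⟨c, hc⟩ := iE u (mY u hu).1 (mY u hu).2 v hv
      have := add_mem hc (sm_mem E c x xE)
      rw [add_add_self'] at this
      exact mem_ln.2 (EW _ this (add_mem (sm_mem _ _ _ hu.1) (sm_mem _ _ _ yW)))
    have Ey : ∀ v ∈ E, fb v y = false := fun v hv => by
      obtain ⟨u, hu, u1⟩ := exists_notMem Y (els x [y])
        ((Nat.pow_le_pow_right two_pos (show 3 ≤ dm Y by omega)).trans_lt' (by simp [length_els]))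
      have := k u hu v hv
      by_contra f
      rw [Bool.not_eq_false] at f
      rw [f, sm_true] at this
      refine u1 (els_cons.2 ?_)
      revert this
      cases (fb v u ^^ (qb τ u && true))
      · exact fun h => .inl (by rwa [sm_false, add_zero] at h)
      · exact fun h => .inr (by rwa [sm_true, add_comm] at h)
    have EY : ∀ u ∈ Y, ∀ v ∈ E, fb v u = false := fun u hu v hv => by
      have := k u hu v hv
      by_contra f
      rw [Bool.not_eq_false] at f
      simp [Ey v hv, f, mem_ln, y0, yx] at this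
    have o : ∀ v, (∀ u ∈ E, fb u v = false) → (∀ u ∈ Y, fb u v = false) → v ∈ og (E ⊔ Y) := fun v h1 h2 =>
      mem_og.2 fun u hu => by
        obtain ⟨a, ha, b, hb, rfl⟩ := Submodule.mem_sup.1 hu
        rw [fb_add_left, h1 a ha, h2 b hb]
        rfl
    have ox := o x (fun u hu => EE u hu x xE) fun u hu => Wx u hu.1
    have oy := o y Ey fun u hu => (mY u hu).2
    have oe := o e (fun u hu => EE u hu e he) fun u hu => (fb_comm _ _).trans (EY u hu e he)
    have l1 := dm_lt (S := og (E ⊔ Y) ⊓ W) inf_le_left oe fun h => e1 h.2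
    have l2 := dm_lt (S := og (E ⊔ Y) ⊓ W ⊓ E) (T := og (E ⊔ Y) ⊓ W) inf_le_left ⟨oy, yW⟩ fun h => yE h.2
    have l3 := dm_lt (S := ⊥) (T := og (E ⊔ Y) ⊓ W ⊓ E) bot_le ⟨⟨ox, xW⟩, xE⟩ x0
    have l4 := dm_og (E ⊔ Y)
    have l5 := dm_sup E Y
    have l6 : dm (E ⊓ Y) ≤ 1 := dm_le_of (l := els x []) (fun v hv => els_nil.2 (EW v hv.1 hv.2.1)) (by simp [length_els])
    omega
  · have k : Y ≤ og W ⊔ ln y := fun u hu => by
      refine Submodule.mem_sup.2 ⟨u + sm (qb τ u) y, mem_og.2 fun v hv => ?_, sm (qb τ u) y,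
        sm_mem _ _ _ (mem_ln.2 (.inr rfl)), add_add_self' _ _⟩
      have := iW u (mY u hu).1 (mY u hu).2 v hv
      rw [fb_add_right, fb_sm_right]
      by_contra f
      rw [Bool.not_eq_false] at f
      exact yW (by simpa [f] using this)
    have l1 := dm_lt k (Submodule.mem_sup_right (mem_ln.2 (.inr rfl))) fun h => yW h.1
    have l2 := dm_sup (og W) (ln y)
    have l3 := dm_ln y
    have l4 := dm_og W
    omega

end E12

variable {G : Type*} [Group G] [Finite G] {z a g s t t0 t1 u : G} {τ : Bool} {π : G → V} {T : V → V} {O : ℕ} {L : List PD}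

open E12 in
/-- PLAN section E12. -/
theorem Co.e12 (h : Co z τ π) (ir : Irr z π) (p : Pt z t) {e e' : V} (h1 : Et z π t e) (h2 : e ∉ els (π t) [])
    (h3 : ∀ v, Et z π t v → v ∈ els (π t) [e', e]) : False := by
  have ei := h.eich_of p h3
  obtain ⟨g, hg, hf⟩ := h.exists_opp ir p
  obtain ⟨T, c⟩ := h.exists_ac hg
  have i := h.iso c
  obtain ⟨n, hn⟩ := i.surj (π t)
  let E := toS (h.sub_et p)
  let W := toS (h.sub_wt p)
  have xE : π t ∈ E := (h.sub_et p).self
  have xW : π t ∈ W := (h.sub_wt p).self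
  have d0 : dm E ≤ 3 := dm_le_of h3 (by simp [length_els])
  have d1 : 8 ≤ dm E + dm W := by
    have l1 := dm_sup E W
    have l2 := dm_lt (S := ⊥) (T := E ⊓ W) bot_le ⟨xE, xW⟩ (h.pt_ne p)
    have l3 : dm (og (ln (π t))) ≤ dm (E ⊔ W) := Submodule.finrank_mono fun v hv => by
      obtain ⟨w, w1, w2⟩ := h.et_add_wt p ei (mem_og_ln.1 hv)
      exact Submodule.mem_sup.2 ⟨v + w, w2, w, w1, add_add_self' _ _⟩
    have l4 := dm_og (ln (π t))
    have l5 := dm_ln (π t)
    omega
  obtain ⟨w, ⟨w1, w2⟩, w3, w4⟩ := exists_sing τ (S := W ⊓ og (ln n)) (by have := dm_inf W n; omega)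
  obtain ⟨f1, r, -, cr⟩ := (h.wt_cj c p.mem).2 w1
  have f2 : fb (T w) (π t) = false := by rw [← hn, i.f]; exact mem_og_ln.1 w2
  have q1 : qb τ (T w) = false := (i.q w).trans w4
  set x := π t with hx
  set y := π (cj g t)
  set y' := T w
  have qx : qb τ x = false := h.pt_q p
  have key : ∀ u ∈ W, fb u y' = false → ∃ σ : V → V, (∀ v ∈ W, σ v ∈ W) ∧ (∀ v ∈ E, σ v ∈ E) ∧ ∀ v, fb v x = false →
      ∃ c, σ v = v + (sm (fb v y') u + sm (fb v u ^^ (qb τ u && fb v y')) y' + sm c x) := fun u hu uy => by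
    obtain ⟨u1, a, -, ca⟩ : Wt z τ π t (u + sm (fb u y) x) :=
      W.add_mem hu (by cases fb u y; exacts [zero_mem _, xW])
    have e1 : rho τ y y' x = x + y' := by simp [rho, fb_comm x, hf, f2, q1]
    have e2 : rho τ y y' (u + sm (fb u y) x) = u + sm (fb u y) x := by
      rw [rho_of_perp (by cases k : fb u y <;> simp [fb_add_left, k, fb_comm x, hf])]
      cases fb u y <;> simp [fb_add_left, uy, fb_comm x, f2]
    have c2 := h.ac_cj cr ca fun v => (h.iso cr).rho x _ v
    rw [e1, e2] at c2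
    have e3 : π (cj (cj r a) t) = π t := by
      rw [c2.2 t p.mem, rho_of_perp (by rw [fb_add_right, fb_self, fb_comm, f2]; rfl), fb_comm, u1]
      simp
    refine ⟨_, fun v hv => (h.wt_of_eq p (h.cj_mem c2 p.mem) e3).1 ((h.wt_cj c2 p.mem).2 hv),
      fun v hv => (h.et_of_eq p (h.cj_mem c2 p.mem) e3).1 ((h.et_cj c2).2 hv), fun v hv =>
        ⟨(fb v u ^^ (qb τ u && fb v y')) ^^ (fb v y' && fb u y), ?_⟩⟩
    have u2 : fb u x = false := hu.1
    simp only [rho, fb_add_right, hv, fb_sm_right, qb_add, qb_sm, qx, u2, Bool.and_false, Bool.xor_false,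
      Bool.false_xor]
    cases fb v y' <;> cases fb v u <;> cases qb τ u <;> cases fb u y <;> simp [add_comm, add_left_comm]
  refine la (τ := τ) (y := y') xE xW (h.pt_ne p) h1 (fun k => h2 (els_nil.2 (h.et_wt p h1 k)))
    (fun v a b => h.et_wt p a b) d1 (by omega) (fun v hv => hv.1) (fun u a v b => h.et_f p a b)
    (mt i.eq_zero.1 w3) (fun k => by rw [k, fb_comm, hf] at f1; cases f1) (fun u hu uy v hv => ?_) fun u hu uy v hv => ?_
  · obtain ⟨σ, s1, -, s3⟩ := key u hu uy
    obtain ⟨c, hc⟩ := s3 v hv.1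
    have := add_mem hv (hc ▸ s1 v hv)
    rw [add_add_self] at this
    have := add_mem (show sm (fb v y') u ∈ W by cases fb v y'; exacts [zero_mem _, hu])
      (add_mem this (show sm c x ∈ W by cases c; exacts [zero_mem _, xW]))
    rwa [add_add_self', add_add_self] at this
  · obtain ⟨σ, -, s2, s3⟩ := key u hu uy
    obtain ⟨c, hc⟩ := s3 v (h.et_f p hv xE)
    have := add_mem hv (hc ▸ s2 v hv)
    exact ⟨c, by rwa [add_add_self] at this⟩

end Cfsg.Agent.W4
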