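import Mathlib
import Cfsg.Agent.W4.Data
import Cfsg.Agent.W4.Defs2

/-! The bound on the action of the centraliser of `z` (see `stubs/Cfsg/Agent/W4/PLAN.md`, section Bd). -/

set_option autoImplicit false
set_option maxRecDepth 100000
set_option linter.unusedVariables false
set_option linter.unusedSectionVars false

namespace Cfsg.Agent.W4

open Cfsg.Agent.Spor Cfsg.Agent.Spor.TT Cfsg.Agent.LX Cfsg.Agent.Gr6 Cfsg.Agent.W3 Subgroup

namespace BdK

/-- The vectors of `E0` that are not orthogonal to `w`. -/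
def sg (w : ℕ) : ℕ := Nat.mod (Nat.shiftRight (qT false) (Nat.mul 16 (Nat.shiftRight w 4))) 65536

theorem bt_sg : ∀ w : V, ∀ e < 16, bt (sg w.n) e = fb (vv e) w ∧ bt (Nat.xor (sg w.n) 65535) e = !fb (vv e) w := by
  decide +kernel

theorem bt_land (a b e : ℕ) : bt (Nat.land a b) e = (bt a e && bt b e) := by
  simp only [bt_eq]; exact Nat.testBit_and _ _ _

theorem lt_of_bt : ∀ v : V, bt 65535 v.n = true → v.n < 16 := by decide +kernel

/-- The set `S` has a single member, which passes a test. -/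
def allS (S : ℕ) (p : ℕ → Bool) : Bool := frc (Nat.log2 S) fun e => Nat.beq S (Nat.shiftLeft 1 e) && p e

/-- The characteristic function of a list. -/
def msk (l : List ℕ) : ℕ := List.rec 0 (fun a _ ih => Nat.lor (Nat.shiftLeft 1 a) ih) l

/-- The tests for one candidate. -/
def leaf (O Pi : ℕ) (B : List ℕ) (My : ℕ) (N : List ℕ) (m : ℕ) : Bool := frc (mul m Pi) fun n => frc (tb n) fun t =>
  !allL (fun v => bt My (ap t v)) B || (anyL (Nat.beq n) N || !allN (fun v => !bt O v || bt O (ap t v)) 256)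

/-- All candidates with given images of four vectors. -/
def quad (p : ℕ → Bool) (y w1 w2 w3 n0 m1 m2 m3 : ℕ) : Bool :=
  frc (Nat.land (Nat.land n0 m1) (Nat.land (Nat.xor m2 65535) (Nat.xor m3 65535))) fun S1 => Nat.beq S1 0 ||
    frc (Nat.land (Nat.land n0 m2) (Nat.land (Nat.xor m1 65535) (Nat.xor m3 65535))) fun S2 => Nat.beq S2 0 ||
    frc (Nat.land (Nat.land n0 m3) (Nat.land (Nat.xor m1 65535) (Nat.xor m2 65535))) fun S3 => Nat.beq S3 0 ||
      allS S1 fun e1 => allS S2 fun e2 => allS S3 fun e3 => p (pk 1 e1 e2 e3 y w1 w2 w3)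

/-- All candidates with a given image of `f0`. -/
def body (O Pi : ℕ) (B A N : List ℕ) (R : ℕ) : Bool := frc (ap R 0) fun y => frc (tb R) fun t =>
  !bt y 4 || frc (msk ((List.range 16).map (ap t))) fun My => frcL (A.map (ap · y)) fun ws =>
    frcL (N.filter fun n => Nat.beq (ap n 4) y) fun Ny => frc (Nat.xor (sg y) 65535) fun n0 =>
    allL (fun w1 => frc (sg w1) fun m1 => allL (fun w2 => frc (sg w2) fun m2 => allL (fun w3 => frc (sg w3) fun m3 =>
      quad (leaf O Pi B My Ny) y w1 w2 w3 n0 m1 m2 m3) ws) ws) ws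

/-- The matrix with columns `e0, .., e3, f0, a f0, b f0, c f0`. -/
def pm (d : PD) : ℕ := pk 1 2 4 8 16 (ap d.a 4) (ap d.b 4) (ap d.c 4)

/-- The whole test. -/
def chk (O : ℕ) (d : PD) (E Pi : ℕ) (B RW N : List ℕ) : Bool := frcL RW fun RW =>
  allN (fun v => !bt O v || anyL (fun R => Nat.beq (ap R 0) v) RW) 256 &&
  allL (fun v => bt E v && Nat.blt v 256) B && Nat.beq (mul (pm d) Pi) one &&
  allL (fun e => !fb (vv e.1) (vv 16) && fb (vv e.1) (vv (ap d.a 4)) == e.2.1 && fb (vv e.1) (vv (ap d.b 4)) == e.2.2.1 &&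
    fb (vv e.1) (vv (ap d.c 4)) == e.2.2.2) [(2, true, false, false), (4, false, true, false), (8, false, false, true)] &&
  frcL (d.els.map tb) fun A => allL (body O Pi B A N) RW

theorem mx_e0 (m : ℕ) : mx m (vv 1) = vv (ap m 0) := by
  simp only [mx, lin, show bt (vv 1).n 0 = true from rfl, show bt (vv 1).n 1 = false from rfl,
    show bt (vv 1).n 2 = false from rfl, show bt (vv 1).n 3 = false from rfl, show bt (vv 1).n 4 = false from rfl,
    show bt (vv 1).n 5 = false from rfl, show bt (vv 1).n 6 = false from rfl, show bt (vv 1).n 7 = false from rfl,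
    sm_true, sm_false, add_zero]

theorem mx_f0 (m : ℕ) : mx m (vv 16) = vv (ap m 4) := by
  simp only [mx, lin, show bt (vv 16).n 0 = false from rfl, show bt (vv 16).n 1 = false from rfl,
    show bt (vv 16).n 2 = false from rfl, show bt (vv 16).n 3 = false from rfl, show bt (vv 16).n 4 = true from rfl,
    show bt (vv 16).n 5 = false from rfl, show bt (vv 16).n 6 = false from rfl, show bt (vv 16).n 7 = false from rfl,
    sm_true, sm_false, add_zero, zero_add]

theorem bt_shift (a e : ℕ) : bt (Nat.shiftLeft 1 a) e = decide (a = e) := by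
  rw [bt_eq]
  change (1 <<< a).testBit e = _
  rw [Nat.one_shiftLeft, Nat.testBit_two_pow]

theorem allS_spec {S e : ℕ} {p : ℕ → Bool} (h : allS S p = true) (k : bt S e = true) : p e = true := by
  rw [allS, frc_eq, Bool.and_eq_true, Nat.beq_eq] at h
  rw [h.1, bt_shift, decide_eq_true_eq] at k
  exact k ▸ h.2

theorem bt_msk {l : List ℕ} {a : ℕ} (h : a ∈ l) : bt (msk l) a = true := by
  induction l with
  | nil => simp at h
  | cons b l ih =>
    have e : bt (msk (b :: l)) a = (bt (Nat.shiftLeft 1 b) a || bt (msk l) a) := by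
      simp only [bt_eq]; exact Nat.testBit_or _ _ _
    rw [e, bt_shift]
    rcases List.mem_cons.1 h with rfl | h
    · simp
    · rw [ih h, Bool.or_true]

theorem quad_spec {p : ℕ → Bool} {y w1 w2 w3 e1 e2 e3 : V} 
    (h : quad p y.n w1.n w2.n w3.n (Nat.xor (sg y.n) 65535) (sg w1.n) (sg w2.n) (sg w3.n) = true)
    (l1 : e1.n < 16) (l2 : e2.n < 16) (l3 : e3.n < 16)
    (h1 : fb e1 y = false ∧ fb e1 w1 = true ∧ fb e1 w2 = false ∧ fb e1 w3 = false)
    (h2 : fb e2 y = false ∧ fb e2 w1 = false ∧ fb e2 w2 = true ∧ fb e2 w3 = false)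
    (h3 : fb e3 y = false ∧ fb e3 w1 = false ∧ fb e3 w2 = false ∧ fb e3 w3 = true) :
    p (pk 1 e1.n e2.n e3.n y.n w1.n w2.n w3.n) = true := by
  have k : ∀ {a b c d e : V}, e.n < 16 → fb e a = false → fb e b = true → fb e c = false → fb e d = false →
      bt (Nat.land (Nat.land (Nat.xor (sg a.n) 65535) (sg b.n))
        (Nat.land (Nat.xor (sg c.n) 65535) (Nat.xor (sg d.n) 65535))) e.n = true := fun {a b c d e} l x1 x2 x3 x4 => by
    rw [bt_land, bt_land, bt_land, (bt_sg a _ l).2, (bt_sg b _ l).1, (bt_sg c _ l).2, (bt_sg d _ l).2, vv_n, x1, x2, x3, x4]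
    rfl
  have k0 : ∀ {S e : ℕ}, bt S e = true → Nat.beq S 0 = false := fun {S e} h => by
    rw [← Bool.not_eq_true, Nat.beq_eq]
    rintro rfl
    simp [bt_eq] at h
  have s1 := k l1 h1.1 h1.2.1 h1.2.2.1 h1.2.2.2
  have s2 := k l2 h2.1 h2.2.2.1 h2.2.1 h2.2.2.2
  have s3 := k l3 h3.1 h3.2.2.2 h3.2.1 h3.2.2.1
  rw [quad, frc_eq, k0 s1, Bool.false_or, frc_eq, k0 s2, Bool.false_or, frc_eq, k0 s3, Bool.false_or] at h
  have t1 := allS_spec h s1
  have t2 := allS_spec t1 s2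
  have t3 := allS_spec t2 s3
  exact t3

theorem leaf_spec {O Pi m : ℕ} {B Ly N : List ℕ} (h : leaf O Pi B (msk Ly) N m = true) {T : V → V}
    (e : T = mx (mul m Pi)) (h1 : ∀ v ∈ B, v < 256 ∧ (T (vv v)).n ∈ Ly)
    (h2 : ∀ v : V, bt O v.n = true → bt O (T v).n = true) : ∃ n ∈ N, T = mx n := by
  have k1 : allL (fun v => bt (msk Ly) (ap (tb (mul m Pi)) v)) B = true := allL_iff.2 fun v hv => by
    rw [ap_tb' _ (h1 v hv).1, ← e, bt_msk (h1 v hv).2]
  have k2 : allN (fun v => !bt O v || bt O (ap (tb (mul m Pi)) v)) 256 = true := allN_iff.2 fun v hv => by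
    have := h2 (vv v)
    rw [vv_of_lt hv, e, ← ap_tb' _ hv] at this
    cases k : bt O v
    · rw [Bool.not_false, Bool.true_or]
    · rw [this k, Bool.or_true]
  rw [leaf, frc_eq, frc_eq, k1, k2, Bool.not_true, Bool.false_or, Bool.or_false, anyL_iff] at h
  obtain ⟨n, hn, k⟩ := h
  exact ⟨n, hn, Nat.eq_of_beq_eq_true k ▸ e⟩

variable {G : Type*} [Group G] [Finite G] {z g : G} {π : G → V} {T : V → V} {O : ℕ} {L : List PD}

theorem bound (h : Lf z π O L) {d d' : PD} (h0 : d ∈ L) (h1 : d' ∈ L) (x0 : d.x = 1) (e0 : d.E = 65535)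
    (x1 : d'.x = 16) {W : List (ℕ × List ℕ)} {N B : List ℕ} {Pi : ℕ}
    (k : chk O d d'.E Pi B (W.map fun p => wm (gn L) p.2) N = true) : Bd z π L W N := by
  simp only [chk, frcL_eq, Bool.and_eq_true] at k
  obtain ⟨⟨⟨⟨k1, k2⟩, k3⟩, k4⟩, k5⟩ := k
  have c := h.co
  obtain ⟨t0, p0⟩ := h.base d h0
  obtain ⟨t1, p1⟩ := h.base d' h1
  have q0 : π t0 = vv 1 := x0 ▸ p0.eq
  have q1 : π t1 = vv 16 := x1 ▸ p1.eq
  have orb : ∀ v : V, bt O v.n = true → ∃ p ∈ W, ∃ r, Ac z π r (mx (wm (gn L) p.2)) ∧ ap (wm (gn L) p.2) 0 = v.n :=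
    fun v hv => by
      have := allN_iff.1 k1 _ v.lt
      rw [hv, Bool.not_true, Bool.false_or, anyL_iff] at this
      obtain ⟨_, hR, e⟩ := this
      obtain ⟨p, hp, rfl⟩ := List.mem_map.1 hR
      obtain ⟨r, hr⟩ := h.rl p.2
      exact ⟨p, hp, r, hr, Nat.eq_of_beq_eq_true e⟩
  have ptr : ∀ {r m} {v : V}, Ac z π r (mx m) → ap m 0 = v.n → π (cj r t0) = v := fun {r m v} hr e => by
    rw [hr.2 _ p0.pt.mem, q0, mx_e0, e, vv_n]
  have stab : ∀ g T, Ac z π g T → T (vv 1) = vv 1 → ∃ n ∈ N, T = mx n := fun g T a e => by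
    have i := c.iso a
    have pg := p0.of_eq c (c.cj_mem a p0.pt.mem) (by rw [a.2 _ p0.pt.mem, q0, e])
    have tE : ∀ v : V, v.n < 16 → (T v).n < 16 := fun v hv => lt_of_bt _ (by
      rw [← e0, ← pg.et, c.et_cj a, p0.et, e0]
      exact (by decide : ∀ n < 16, bt 65535 n = true) _ hv)
    have tA : ∀ x ∈ d.els, (T (vv (ap x 4))).n ∈ (d.els.map tb).map (ap · (T (vv 16)).n) := fun x hx => by
      choose s hs using i.surj
      obtain ⟨y, hy, e'⟩ := (pg.at' fun v => T (mx x (s v))).1 (c.at_cj a ((p0.at' _).2 ⟨x, hx, rfl⟩)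
        fun v => by rw [i.inj (hs (T v))])
      refine List.mem_map.2 ⟨_, List.mem_map.2 ⟨y, hy, rfl⟩, ?_⟩
      rw [ap_tb, ← e']
      beta_reduce
      rw [i.inj (hs (T _)), mx_f0]
    have pt := p1.pt.cj c.bg a.1
    have ey : π (cj g t1) = T (vv 16) := by rw [a.2 _ p1.pt.mem, q1]
    obtain ⟨p, hp, r, hr, er⟩ := orb _ (ey ▸ h.pts _ pt)
    have k6 := allL_iff.1 k5 _ (List.mem_map.2 ⟨p, hp, rfl⟩)
    have y4 : bt (T (vv 16)).n 4 = true :=
      (by decide +kernel : ∀ y : V, fb y (vv 1) = true → bt y.n 4 = true) _ (by rw [← e, i.f]; rfl)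
    simp only [body, frc_eq, frcL_eq] at k6
    rw [er, y4, Bool.not_true, Bool.false_or] at k6
    have ha : d.a ∈ d.els := by simp [PD.els_eq]
    have hb : d.b ∈ d.els := by simp [PD.els_eq]
    have hc : d.c ∈ d.els := by simp [PD.els_eq]
    have k7 := allL_iff.1 (allL_iff.1 (allL_iff.1 k6 _ (tA _ ha)) _ (tA _ hb)) _ (tA _ hc)
    simp only [allL_iff, List.forall_mem_cons, Bool.and_eq_true, beq_iff_eq, Bool.not_eq_true', and_assoc] at k4
    obtain ⟨a1, a2, a3, a4, b1, b2, b3, b4, c1, c2, c3, c4, -⟩ := k4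
    refine Exists.imp (fun n hn => ⟨List.mem_of_mem_filter hn.1, hn.2⟩) <| leaf_spec (quad_spec k7 (tE (vv 2) (by decide)) (tE (vv 4) (by decide)) (tE (vv 8) (by decide))
      (by simp only [i.f]; exact ⟨a1, a2, a3, a4⟩) (by simp only [i.f]; exact ⟨b1, b2, b3, b4⟩)
      (by simp only [i.f]; exact ⟨c1, c2, c3, c4⟩)) (funext fun v => ?_) (fun v hv => ?_) fun v hv => ?_
    · have e1 := mx_pk (vv 1) (vv 2) (vv 4) (vv 8) (vv 16) (vv (ap d.a 4)) (vv (ap d.b 4)) (vv (ap d.c 4)) (mx Pi v)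
      rw [vv_ap, vv_ap, vv_ap] at e1
      change mx (pm d) _ = _ at e1
      rw [← mx_mul, Nat.eq_of_beq_eq_true k3, mx_one] at e1
      rw [mx_mul, show (1 : ℕ) = (T (vv 1)).n by rw [e]; rfl, mx_pk]
      conv_lhs => rw [e1]
      simp only [lin, i.add, i.sm]
    · have := allL_iff.1 k2 v hv
      rw [Bool.and_eq_true, Nat.blt_eq] at this
      refine ⟨this.2, ?_⟩
      have e1 : Et z π (cj g t1) (T (vv v)) := (c.et_cj a).2 ((p1.et _).2 (by rw [vv_of_lt this.2]; exact this.1))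
      obtain ⟨u, hu⟩ := (c.iso hr).surj (T (vv v))
      rw [← c.et_of_eq pt (c.cj_mem hr p0.pt.mem) ((ptr hr er).trans ey.symm), ← hu, c.et_cj hr, p0.et, e0] at e1
      exact List.mem_map.2 ⟨u.n, List.mem_range.2 (lt_of_bt u e1), by rw [ap_tb, hu]⟩
    · obtain ⟨p, -, r, hr, er⟩ := orb v hv
      have := h.pts _ ((p0.pt.cj c.bg hr.1).cj c.bg a.1)
      rwa [a.2 _ (c.cj_mem hr p0.pt.mem), ptr hr er] at this
  intro g T a
  have ey : π (cj g t0) = T (vv 1) := by rw [a.2 _ p0.pt.mem, q0]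
  obtain ⟨p, hp, r, hr, er⟩ := orb _ (ey ▸ h.pts _ (p0.pt.cj c.bg a.1))
  obtain ⟨S, hS⟩ := c.exists_ac (hr.1.inv_right.mul_right a.1)
  have e1 : ∀ v, mx (wm (gn L) p.2) (S v) = T v := c.ac_ext (c.ac_mul hr hS) (by rwa [mul_inv_cancel_left])
  obtain ⟨n, hn, rfl⟩ := stab _ S hS ((c.iso hr).inj (by rw [e1, mx_e0, er, vv_n]))
  exact ⟨p, hp, n, hn, funext fun v => by rw [mx_mul, e1]⟩

end BdK

open BdK

variable {G : Type*} [Group G] [Finite G] {z a g s t t0 t1 u : G} {τ : Bool} {π : G → V} {T : V → V} {O : ℕ} {L : List PD}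

theorem Lf.bound9 (h : Lf z π O9 L9) : Bd z π L9 W9 N9 :=
  bound h List.mem_cons_self (List.mem_cons_of_mem _ List.mem_cons_self) rfl rfl rfl (Pi := 0x9f57331008040201)
    (B := [32, 64, 128]) (by decide +kernel)
theorem Lf.bound135 (h : Lf z π O135 L135) : Bd z π L135 W135 N135 :=
  bound h List.mem_cons_self (List.mem_cons_of_mem _ List.mem_cons_self) rfl rfl rfl (Pi := 0x9f57331008040201)
    (B := [32, 64, 128]) (by decide +kernel)
theorem Lf.bound75 (h : Lf z π O75 L75) : Bd z π L75 W75 N75 :=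
  bound h List.mem_cons_self (List.mem_cons_of_mem _ List.mem_cons_self) rfl rfl rfl (Pi := 0x9652301008040201)
    (B := [4, 8, 32]) (by decide +kernel)
theorem Lf.bound15 (h : Lf z π O15 L15) : Bd z π L15 W15 N15 :=
  bound h List.mem_cons_self (List.mem_cons_of_mem _ List.mem_cons_self) rfl rfl rfl (Pi := 0x9650301008040201)
    (B := [40, 72, 134]) (by decide +kernel)
theorem Lf.bound27 (h : Lf z π O27 L27) : Bd z π L27 W27 N27 :=
  bound h List.mem_cons_self (List.mem_cons_of_mem _ List.mem_cons_self) rfl rfl rfl (Pi := 0x9050301008040201)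
    (B := [32, 64, 128]) (by decide +kernel)
theorem Lf.bound81 (h : Lf z π O81 L81) : Bd z π L81 W81 N81 :=
  bound h List.mem_cons_self (List.mem_cons_of_mem _ List.mem_cons_self) rfl rfl rfl (Pi := 0x9050301008040201)
    (B := [6, 10, 224]) (by decide +kernel)

end Cfsg.Agent.W4
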