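import Mathlib
import Cfsg.Agent.W4.Data

/-! The finite check behind the control of fusion (see `stubs/Cfsg/Agent/W4/PLAN.md`, section Fus). -/

set_option autoImplicit false
set_option maxRecDepth 100000
set_option linter.unusedVariables false

namespace Cfsg.Agent.W4.FusA

/-- The members of a list that pass a test. -/
def flt (p : ℕ → Bool) (l : List ℕ) : List ℕ := List.rec [] (fun a _ ih => cond (p a) (a :: ih) ih) l

theorem mem_flt {p : ℕ → Bool} {l : List ℕ} {a : ℕ} : a ∈ flt p l ↔ a ∈ l ∧ p a = true := by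
  induction l with
  | nil => simp [flt]
  | cons b l ih =>
    change a ∈ cond (p b) (b :: flt p l) (flt p l) ↔ _
    cases e : p b
    · rw [cond_false, ih, List.mem_cons]
      exact ⟨fun h => ⟨.inr h.1, h.2⟩, fun h => ⟨h.1.resolve_left fun k => by simp [k, e] at h, h.2⟩⟩
    · rw [cond_true, List.mem_cons, ih, List.mem_cons]
      exact ⟨fun h => h.elim (fun k => ⟨.inl k, k ▸ e⟩) fun k => ⟨.inr k.1, k.2⟩, fun h => h.1.imp_right (⟨·, h.2⟩)⟩

/-- Membership. -/
def mem (l : List ℕ) (a : ℕ) : Bool := anyL (Nat.beq a) l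

theorem mem_iff {l : List ℕ} {a : ℕ} : mem l a = true ↔ a ∈ l := by
  simp only [mem, anyL_iff, Nat.beq_eq, exists_eq_right']

/-- The polar form on codes. -/
def fn (u v : ℕ) : Bool := bt pT (Nat.land u (sw v))

/-- The codes of the basis. -/
def bs : List ℕ := [1, 2, 4, 8, 16, 32, 64, 128]

/-- The tables in `S` that fix `Y` and move the vectors of `K` by vectors of `Y`. -/
def mv (K S Y : List ℕ) : List ℕ :=
  flt (fun s => and (allL (fun y => Nat.beq (ap s y) y) Y) (allL (fun v => mem Y (Nat.xor v (ap s v))) K)) S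

/-- The test for all subspaces containing `Y` whose nonzero vectors lie in `Z`. -/
def go (K S Z : List ℕ) (k : ℕ) : List ℕ → Bool := Nat.rec (fun _ => false) (fun _ ih Y =>
  and (Nat.blt (Nat.mul (mv K S Y).length Y.length) 32)
    (allL (fun d => or (not (allL (fun y => mem Z (Nat.xor d y)) Y)) (frcL (Y ++ Y.map (Nat.xor d)) ih)) Z)) k

theorem go_spec {K S Z : List ℕ} {F : V → Prop} (f1 : ∀ u v, F u → F v → F (u + v)) (f2 : ∀ d, F d → d ≠ 0 → d.n ∈ Z)
    (k : ℕ) (Y : List ℕ) (h0 : 0 ∈ Y) (hY : ∀ y ∈ Y, ∃ v, F v ∧ v.n = y) (h : go K S Z k Y = true) :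
    ∃ Y', (∀ d, F d → d.n ∈ Y') ∧ (∀ y ∈ Y', ∃ v, F v ∧ v.n = y) ∧ (mv K S Y').length * Y'.length < 32 := by
  induction k generalizing Y with
  | zero => cases h
  | succ k ih =>
    replace h : (and (Nat.blt (Nat.mul (mv K S Y).length Y.length) 32) (allL (fun d => or (not (allL
      (fun y => mem Z (Nat.xor d y)) Y)) (frcL (Y ++ Y.map (Nat.xor d)) (go K S Z k))) Z)) = true := h
    rw [Bool.and_eq_true, Nat.blt_eq, allL_iff] at h
    by_cases c : ∀ d, F d → d.n ∈ Y
    · exact ⟨Y, c, hY, h.1⟩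
    push Not at c
    obtain ⟨d, d1, d2⟩ := c
    have h1 := h.2 _ (f2 d d1 fun e => d2 (e ▸ h0))
    have h2 : allL (fun y => mem Z (Nat.xor d.n y)) Y = true := allL_iff.2 fun y hy => by
      obtain ⟨v, v1, rfl⟩ := hY y hy
      exact mem_iff.2 (f2 (d + v) (f1 _ _ d1 v1) fun e => d2 (add_eq_zero_iff.1 e ▸ hy))
    rw [h2, frcL_eq] at h1
    refine ih _ (List.mem_append_left _ h0) (fun y hy => ?_) h1
    rcases List.mem_append.1 hy with e | e
    · exact hY y e
    · obtain ⟨x, e', rfl⟩ := List.mem_map.1 e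
      obtain ⟨v, v1, rfl⟩ := hY x e'
      exact ⟨d + v, f1 _ _ d1 v1, rfl⟩

/-- The test for the table `t` of an involution and a linear form `l`. -/
def ck1 (O t : ℕ) (C S : List ℕ) (l : ℕ) : Bool :=
  frcL (flt (fun v => not (fn v l)) C) fun K =>
  frcL (flt (fun d => and (not (Nat.beq d 0)) (and (not (bt (qT false) d)) (and (not (bt O d))
    (and (allL (fun v => not (fn d v)) K) (or (allL (fun v => not (fn v l)) C)
      (allN (fun w => not (Nat.beq d (Nat.xor w (ap t w)))) 256)))))) K) fun Z =>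
  and (Nat.blt (mv K S [0]).length 16) (go K S Z 3 [0])

/-- The test for a set of points and a list of matrices. -/
def chk (O : ℕ) (N : List ℕ) : Bool := frcL (N.map tb) fun S => frcL (List.range 256) fun A => allL (fun t =>
  or (not (allL (fun i => Nat.beq (ap t (ap t i)) i) bs)) (or (allL (fun i => Nat.beq (ap t i) i) bs)
    (frcL (flt (fun v => Nat.beq (ap t v) v) A) fun C =>
      frcL (flt (fun s => allL (fun i => Nat.beq (ap t (ap s i)) (ap s (ap t i))) bs) S) fun M =>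
        frcL (bs.map fun i => Nat.xor i (ap t i)) fun R =>
          allL (fun l => or (not (allL (fun r => and (Nat.ble l (Nat.xor l r)) (fn r l == bt (qT false) r)) R))
            (ck1 O t C M l)) A))) S

theorem mem_bs {i : ℕ} (h : i ∈ bs) : (vv i).n = i := by
  revert i; decide

theorem ap_bs (n : ℕ) {i : ℕ} (h : i ∈ bs) : ap (tb n) i = (mx n (vv i)).n := by rw [← ap_tb, mem_bs h]

/-- The list `S` contains the tables of all matrices in `N` that can be induced. -/
def Cov (N : List ℕ) (n : ℕ) (l : V) (F : V → Prop) (S : List ℕ) : Prop :=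
  ∀ m ∈ N, (∀ v, mx n (mx m v) = mx m (mx n v)) → (∀ v, F v → mx m v = v) →
    (∀ v, mx n v = v → fb v l = false → F (v + mx m v)) → tb m ∈ S

theorem chk_spec {O n : ℕ} {N : List ℕ} (h : chk O N = true) (hn : n ∈ N) (h1 : ∀ v, mx n (mx n v) = v)
    (h2 : ¬ ∀ v, mx n v = v) {l : V} (h3 : ∀ v, fb (v + mx n v) l = qb false (v + mx n v))
    (h4 : ∀ v, l.n ≤ (l + (v + mx n v)).n) {F : V → Prop} (f0 : F 0) (f1 : ∀ u v, F u → F v → F (u + v))
    (f2 : ∀ d, F d → d ≠ 0 → (mx n d = d ∧ fb d l = false) ∧ qb false d = false ∧ bt O d.n = false ∧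
      (∀ v, mx n v = v → fb v l = false → fb d v = false) ∧
        ∀ w, d = w + mx n w → ∀ v, mx n v = v → fb v l = false) :
    ((∀ d, F d → d = 0) → ∃ S, Cov N n l F S ∧ S.length < 16) ∧
      ∃ S Y : List ℕ, Cov N n l F S ∧ (∀ d, F d → d.n ∈ Y) ∧ S.length * Y.length < 32 := by
  simp only [chk, frcL_eq, allL_iff] at h
  replace h := h _ (List.mem_map_of_mem hn)
  have e1 : allL (fun i => Nat.beq (ap (tb n) (ap (tb n) i)) i) bs = true := allL_iff.2 fun i hi => by
    rw [ap_bs n hi, ap_tb, h1, mem_bs hi, Nat.beq_eq]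
  have e2 : allL (fun i => Nat.beq (ap (tb n) i) i) bs = false := by
    refine Bool.eq_false_iff.2 fun e => h2 fun v => ?_
    have k : ∀ i ∈ bs, mx n (vv i) = vv i := fun i hi => V.ext (by
      rw [← ap_bs n hi, mem_bs hi, ← Nat.beq_eq]; exact allL_iff.1 e i hi)
    rw [eq_lin (mx_add n), k 1 (by decide), k 2 (by decide), k 4 (by decide), k 8 (by decide), k 16 (by decide),
      k 32 (by decide), k 64 (by decide), k 128 (by decide)]
    exact ((Iso.id (τ := false)).eq_lin v).symm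
  rw [e1, e2, Bool.not_true, Bool.false_or, Bool.false_or, allL_iff] at h
  replace h := h l.n (List.mem_range.2 l.lt)
  have e3 : allL (fun r => and (Nat.ble l.n (Nat.xor l.n r)) (fn r l.n == bt (qT false) r))
      (bs.map fun i => Nat.xor i (ap (tb n) i)) = true := allL_iff.2 fun r hr => by
    obtain ⟨i, hi, rfl⟩ := List.mem_map.1 hr
    have : Nat.xor i (ap (tb n) i) = (vv i + mx n (vv i)).n := by rw [add_n, ap_bs n hi, mem_bs hi]; rfl
    rw [this, Bool.and_eq_true, Nat.ble_eq, beq_iff_eq]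
    exact ⟨h4 _, h3 _⟩
  rw [e3, Bool.not_true, Bool.false_or] at h
  simp only [ck1, frcL_eq, Bool.and_eq_true, Nat.blt_eq] at h
  generalize eC : flt (fun v => Nat.beq (ap (tb n) v) v) (List.range 256) = C at h
  have hC : ∀ c ∈ C, ∃ v : V, v.n = c ∧ mx n v = v := fun c hc => by
    rw [← eC, mem_flt, List.mem_range, Nat.beq_eq] at hc
    exact ⟨⟨c, hc.1⟩, rfl, V.ext ((ap_tb n ⟨c, hc.1⟩).symm.trans hc.2)⟩
  have hC' : ∀ v : V, mx n v = v → v.n ∈ C := fun v e => by
    rw [← eC, mem_flt, List.mem_range, Nat.beq_eq, ap_tb, e]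
    exact ⟨v.lt, rfl⟩
  generalize eK : flt (fun v => not (fn v l.n)) C = K at h
  have hK : ∀ c ∈ K, ∃ v : V, v.n = c ∧ mx n v = v ∧ fb v l = false := fun c hc => by
    rw [← eK, mem_flt, Bool.not_eq_true'] at hc
    obtain ⟨v, rfl, e⟩ := hC c hc.1
    exact ⟨v, rfl, e, hc.2⟩
  have cov : ∀ Y : List ℕ, (∀ d, F d → d.n ∈ Y) → (∀ y ∈ Y, ∃ v, F v ∧ v.n = y) → Cov N n l F (mv K (flt (fun s =>
      allL (fun i => Nat.beq (ap (tb n) (ap s i)) (ap s (ap (tb n) i))) bs) (N.map tb)) Y) := by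
    intro Y k1 k2 m m1 m2 m3 m4
    rw [mv, mem_flt, mem_flt, Bool.and_eq_true, allL_iff, allL_iff, allL_iff]
    refine ⟨⟨List.mem_map_of_mem m1, fun i hi => ?_⟩, fun y hy => ?_, fun c hc => ?_⟩
    · rw [ap_bs n hi, ap_bs m hi, ap_tb, ap_tb, m2, Nat.beq_eq]
    · obtain ⟨v, e, rfl⟩ := k2 y hy
      rw [ap_tb, m3 v e, Nat.beq_eq]
    · obtain ⟨v, rfl, e, e'⟩ := hK c hc
      rw [ap_tb, mem_iff]
      exact k1 _ (m4 v e e')
  have z0 : ∀ y ∈ [0], ∃ v, F v ∧ v.n = y := fun y hy => ⟨0, f0, (List.mem_singleton.1 hy).symm⟩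
  refine ⟨fun k => ⟨_, cov [0] (fun d e => k d e ▸ List.mem_singleton.2 rfl) z0, h.1⟩, ?_⟩
  refine (go_spec f1 (fun d d1 d2 => ?_) 3 [0] (List.mem_singleton.2 rfl) z0 h.2).elim fun Y y =>
    ⟨_, Y, cov Y y.1 y.2.1, y.1, y.2.2⟩
  obtain ⟨a1, a2, a3, a4, a5⟩ := f2 d d1 d2
  simp only [mem_flt, Bool.and_eq_true, Bool.or_eq_true, allL_iff, allN_iff, Bool.not_eq_true']
  refine ⟨?_, Bool.eq_false_iff.2 fun e => d2 (V.ext (Nat.eq_of_beq_eq_true e)), a2, a3, fun c hc => ?_, ?_⟩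
  · rw [← eK, mem_flt, Bool.not_eq_true']
    exact ⟨hC' d a1.1, a1.2⟩
  · obtain ⟨v, rfl, e, e'⟩ := hK c hc
    exact a4 v e e'
  · refine or_iff_not_imp_right.2 fun k c hc => ?_
    push Not at k
    obtain ⟨w, w1, w2⟩ := k
    obtain ⟨v, rfl, e⟩ := hC c hc
    refine a5 ⟨w, w1⟩ (V.ext ?_) v e
    rw [add_n, ← ap_tb]
    exact Nat.eq_of_beq_eq_true (by simpa using w2)

theorem chk9 : chk O9 N9 = true := by decide +kernel
theorem chk15 : chk O15 N15 = true := by decide +kernel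
theorem chk27 : chk O27 N27 = true := by decide +kernel
theorem chk75 : chk O75 N75 = true := by decide +kernel
theorem chk81 : chk O81 N81 = true := by decide +kernel

end Cfsg.Agent.W4.FusA
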