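import Mathlib
import Cfsg.Agent.W4.Defs2

/-! Conjugates of `z` in `C(z)` outside `Q` (see `stubs/Cfsg/Agent/W4/PLAN.md`, section NZ). -/

set_option autoImplicit false
set_option linter.unusedVariables false
set_option linter.unusedSectionVars false

namespace Cfsg.Agent.W4

open Cfsg.Agent.Spor Cfsg.Agent.Spor.TT Cfsg.Agent.LX Cfsg.Agent.Gr6 Cfsg.Agent.W3 Subgroup

variable {G : Type*} [Group G] [Finite G] {z a g s t t0 t1 u : G} {τ : Bool} {π : G → V} {T : V → V} {O : ℕ} {L : List PD}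

/-- `s` is a conjugate of `z` in `C(z)` outside `Q`, and `Q ∩ Q_s` contains no point. -/
structure Far (z s : G) : Prop where
  conj : IsConj z s
  comm : Commute z s
  out : s ∉ QQ z
  nopt : ∀ t, Pt z t → t ∉ QQ s

theorem Far.z_out (h : Co z τ π) (k : Far z s) : z ∉ QQ s := fun hz => by
  obtain ⟨π', h'⟩ := h.of_isConj k.conj
  exact k.out (h'.symm ⟨k.conj.symm, hz, fun e => k.out (e ▸ h.bg.z_mem)⟩).mem

theorem Far.symm (h : Co z τ π) (k : Far z s) : Far s z :=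
  ⟨k.conj.symm, k.comm.symm, k.z_out h, fun t p ht =>
    k.nopt t ⟨k.conj.trans p.conj, ht, fun e => k.z_out h (e ▸ p.mem)⟩ p.mem⟩

theorem Far.sq (h : Co z τ π) (k : Far z s) {d : G} (d1 : d ∈ QQ z) (d2 : d ∈ QQ s) : d * d = 1 :=
  (h.bg.es.sq d d1).resolve_right fun e => k.z_out h (e ▸ mul_mem d2 d2)

/-- (R0) -/
theorem Far.perp (h : Co z τ π) (k : Far z s) {d y : G} (d1 : d ∈ QQ z) (d2 : d ∈ QQ s) (hy : y ∈ QQ z) (c : Commute s y) :
    qb τ (π d) = false ∧ fb (π d) (π y) = false ∧ (π d = 0 → d = 1) := by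
  refine ⟨(h.sq d d1).1 (k.sq h d1 d2), ?_, fun e => ((h.ker d d1).1 e).resolve_right fun e => k.z_out h (e ▸ d2)⟩
  by_contra e
  have := (h.bg.of_isConj k.conj).cj_mem c d2
  rw [h.cj_of_fb hy d1 (by rw [fb_comm]; exact (Bool.not_eq_false _).mp e)] at this
  exact k.z_out h (by simpa using mul_mem this (inv_mem d2))

/-- For `1 ≠ d ∈ Q ∩ Q_s` the product `d s` is not conjugate to `s`. -/
theorem Far.not_conj (h : Co z τ π) (k : Far z s) {d : G} (d1 : d ∈ QQ z) (d2 : d ∈ QQ s) (d3 : d ≠ 1) :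
    ¬ IsConj s (d * s) := fun e => by
  obtain ⟨π', h'⟩ := h.of_isConj k.conj
  have := (h'.pt_z ⟨e, mul_mem d2 h'.bg.z_mem, by simpa using d3⟩).conj
  rw [← mul_assoc, (h'.bg.comm d2).eq, mul_assoc, h'.zz, mul_one] at this
  exact k.nopt d ⟨k.conj.trans this, d1, fun e => k.z_out h (e ▸ d2)⟩ d2

/-- (R1) -/
theorem Far.cj_eq (h : Co z τ π) (k : Far z s) (c : Ac z π s T) {d q : G} (d1 : d ∈ QQ z) (d2 : d ∈ QQ s) (d3 : d ≠ 1)
    (hq : q ∈ QQ z) (e : π d = π q + T (π q)) : cj q s = z * d * s := by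
  have e7 : cj q s = nm s q * s := by simp [cj, nm, mul_assoc]
  rcases (h.eq_iff (nm_mem h.bg k.comm hq) d1).1 ((h.pi_nm c hq).trans e.symm) with e | e <;> rw [e] at e7
  · exact absurd (e7 ▸ LX.isConj_cj q s) (k.not_conj h d1 d2 d3)
  · exact e7

theorem Iso.fb_range (i : Iso τ T) {v w : V} (e : T w = w) : fb w (v + T v) = false := by
  rw [fb_add_right, ← i.f w v, e, Bool.xor_self]

/-- (R1a) -/
theorem Far.lam (h : Co z τ π) (k : Far z s) (c : Ac z π s T) {d : G} (d1 : d ∈ QQ z) (d2 : d ∈ QQ s) (d3 : d ≠ 1) {v : V}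
    (e : π d = v + T v) : ∀ y ∈ QQ z, T (π y) = π y → Commute s y := by
  intro y hy e1
  obtain ⟨q, hq, rfl⟩ := h.surj v
  refine cj_eq_self_iff.1 (((h.fix_iff c hy).1 e1).resolve_right fun e2 => k.not_conj h d1 d2 d3 ?_)
  have e3 : cj y s = z * s := by
    rw [show cj y s = y * (cj s y)⁻¹ * s by simp [cj, mul_assoc], e2, (h.bg.comm hy).eq, mul_inv_rev, h.bg.es.z_inv,
      ← mul_assoc, ← (h.bg.comm hy).eq, mul_inv_cancel_right]
  have e4 : cj y (d * s) = cj q s := by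
    rw [k.cj_eq h c d1 d2 d3 hq e, cj_mul, e3, cj_of_commute ((h.comm y hy d d1).2 (e ▸ (h.iso c).fb_range e1)),
      ← mul_assoc, (h.bg.comm d1).eq]
  exact (LX.isConj_cj q s).trans (e4 ▸ LX.isConj_cj y (d * s)).symm

/-- (R1b) -/
theorem Far.beta (h : Co z τ π) (k : Far z s) (c : Ac z π s T) {d d' : G} (d1 : d ∈ QQ z) (d2 : d ∈ QQ s) (d3 : d ≠ 1)
    (e1 : d' ∈ QQ z) (e2 : d' ∈ QQ s) (e3 : d' ≠ 1) (ne : d ≠ d') {v v' : V} (e : π d = v + T v) (e' : π d' = v' + T v') :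
    fb v (π d') = true := by
  obtain ⟨q, hq, rfl⟩ := h.surj v
  obtain ⟨q', hq', rfl⟩ := h.surj v'
  by_contra n
  have c1 : Commute q d' := (h.comm q hq d' e1).2 ((Bool.not_eq_true _).mp n)
  have h1 := k.cj_eq h c d1 d2 d3 hq e
  have h2 := k.cj_eq h c e1 e2 e3 hq' e'
  have h3 := k.cj_eq h c (mul_mem e1 d1) (mul_mem e2 d2)
    (fun x => ne (mul_left_cancel (x.trans (k.sq h e1 e2).symm))) (mul_mem hq hq')
    (by rw [h.mul _ e1 _ d1, h.mul _ hq _ hq', (h.iso c).add, e, e']; abel)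
  rw [← cj_cj, h2, cj_mul, cj_mul, h1, cj_of_commute c1, cj_of_commute (h.bg.comm hq).symm] at h3
  have h4 : d' * z = d' := by simpa [mul_assoc] using h3
  exact h.bg.ne_one (by simpa using h4)

/-- The order of `C_Q(u)` against the number of commutators. -/
theorem Co.card_cen (h : Co z τ π) (c : Ac z π u T) (N : V →+ V) (hN : ∀ v, N v = v + T v) :
    256 ≤ Nat.card N.range * Nat.card ↥(QQ z ⊓ centralizer {u}) ∧
      ((∀ y ∈ QQ z, T (π y) = π y → Commute u y) → 512 ≤ Nat.card N.range * Nat.card ↥(QQ z ⊓ centralizer {u})) := by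
  let φ : QQ z →* Multiplicative V := MonoidHom.mk' (fun q => Multiplicative.ofAdd (N (π q))) fun x y => by
    rw [coe_mul, h.mul _ x.2 _ y.2, map_add, ofAdd_add]
  have hk : ∀ q : QQ z, q ∈ φ.ker ↔ T (π q) = π q := fun q => by
    change N (π q) = 0 ↔ _
    rw [hN, add_eq_zero_iff, eq_comm]
  have h1 := φ.ker.card_mul_index
  rw [index_ker, h.card] at h1
  have h2 : Nat.card φ.range ≤ Nat.card N.range := Nat.card_le_card_of_injective
    (fun x => ⟨Multiplicative.toAdd x.1, let ⟨q, e⟩ := x.2; ⟨π q, congrArg Multiplicative.toAdd e⟩⟩)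
    fun x y e => Subtype.ext (Multiplicative.toAdd.injective (congrArg (Subtype.val (p := (· ∈ N.range))) e))
  have hB : ∀ q : QQ z, q ∈ (centralizer {u}).subgroupOf (QQ z) ↔ Commute u q := fun q =>
    Spor.mem_centralizer_singleton
  have h3 : Nat.card ((centralizer {u}).subgroupOf (QQ z)) = Nat.card ↥(QQ z ⊓ centralizer {u}) := by
    rw [← inf_subgroupOf_left]
    exact Nat.card_congr (subgroupOfEquivOfLe inf_le_left).toEquiv
  rw [← h3]
  generalize (centralizer {u}).subgroupOf (QQ z) = B at hB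
  have h4 : B ≤ φ.ker := fun q hq => (hk q).2 (h.fix_of_comm c q.2 ((hB q).1 hq))
  have h5 : Nat.card φ.ker ≤ 2 * Nat.card B := by
    have h6 : B.relIndex φ.ker ∣ 2 := by
      by_cases e : φ.ker ≤ B
      · rw [relIndex_eq_one.2 e]; exact one_dvd _
      · obtain ⟨a, a1, a2⟩ := SetLike.not_le_iff_exists.1 e
        refine index_dvd_two_iff.2 ⟨⟨a, a1⟩, fun b => ?_⟩
        rcases h.cj_mul_of_ne c b.1.2 a.2 ((hk _).1 b.2) ((hk _).1 a1) with e | e | e
        exacts [.inr ((hB _).2 e), absurd ((hB _).2 e) a2, .inl ((hB _).2 e)]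
    have h7 := (B.subgroupOf φ.ker).card_mul_index
    rw [Nat.card_congr (subgroupOfEquivOfLe h4).toEquiv] at h7
    rw [← h7, mul_comm]
    exact Nat.mul_le_mul_right _ (Nat.le_of_dvd two_pos h6)
  refine ⟨?_, fun e => ?_⟩
  · have := Nat.mul_le_mul h5 h2
    rw [h1, mul_assoc, mul_comm (Nat.card B)] at this
    omega
  · have := Nat.mul_le_mul (card_le_of_le (show φ.ker ≤ B from fun q hq => (hB q).2 (e _ q.2 ((hk q).1 hq)))) h2
    rwa [h1, mul_comm] at this

theorem Iso.card_range (i : Iso τ T) (k : ∀ v, T (T v) = v) (N : V →+ V) (hN : ∀ v, N v = v + T v) :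
    Nat.card N.range ≤ 16 ∧ ∀ w, T w = w → (∀ v, w ≠ v + T v) → Nat.card N.range ≤ 8 := by
  have h1 : N.range ≤ N.ker := by
    rintro _ ⟨v, rfl⟩
    rw [AddMonoidHom.mem_ker, hN, hN, i.add, k, add_comm (T v), add_self]
  have h2 := N.ker.card_mul_index
  rw [AddSubgroup.index_ker, card_V] at h2
  have h3 := AddSubgroup.card_le_of_le h1
  have h4 : Nat.card N.range ≤ 16 := by
    by_contra! h4
    have := Nat.mul_le_mul (h4.trans_le h3) h4
    omega
  refine ⟨h4, fun w h5 h6 => ?_⟩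
  have h7 : Nat.card N.range ≠ 16 := fun e => by
    have h8 : N.range = N.ker := AddSubgroup.eq_of_le_of_card_ge h1 (by rw [e] at h2 ⊢; omega)
    obtain ⟨v, hv⟩ : w ∈ N.range := h8 ▸ (by rw [AddMonoidHom.mem_ker, hN, h5, add_self])
    exact h6 v (by rw [← hv, hN])
  have h8 : Nat.card N.range ∣ 256 := Dvd.intro_left _ h2
  generalize Nat.card N.range = r at h4 h7 h8 ⊢
  interval_cases r <;> omega

/-- (R2) -/
theorem Far.card (h : Co z τ π) (k : Far z s) : 16 ≤ Nat.card ↥(QQ s ⊓ centralizer {z}) ∧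
    (QQ z ⊓ QQ s ≠ ⊥ → 32 ≤ Nat.card ↥(QQ s ⊓ centralizer {z})) := by
  obtain ⟨π', h'⟩ := h.of_isConj k.conj
  obtain ⟨T, c⟩ := h'.exists_ac k.comm.symm
  have i := h'.iso c
  let N : V →+ V := AddMonoidHom.mk' (fun v => v + T v) fun u v => by rw [i.add, add_add_add_comm]
  obtain ⟨h1, h2⟩ := h'.card_cen c N fun _ => rfl
  obtain ⟨h3, h4⟩ := i.card_range (h'.ac_ac c (h.zz ▸ one_mem _)) N fun _ => rfl
  generalize Nat.card ↥(QQ s ⊓ centralizer {z}) = b at h1 h2 ⊢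
  refine ⟨by have := Nat.mul_le_mul_right b h3; omega, fun e => ?_⟩
  obtain ⟨⟨d, d1, d2⟩, d3⟩ := ne_bot_iff_exists_ne_one.1 e
  replace d3 : d ≠ 1 := fun e => d3 (Subtype.ext e)
  by_cases hv : ∃ v, π' d = v + T v
  · obtain ⟨v, hv⟩ := hv
    have := h2 ((k.symm h).lam h' c d2 d1 d3 hv)
    have := Nat.mul_le_mul_right b h3
    omega
  · have := Nat.mul_le_mul_right b (h4 _ (h'.fix_of_comm c d2 (h.bg.comm d1)) (not_exists.1 hv))
    omega

/-- (R3) -/
theorem Far.move (h : Co z τ π) (k : Far z s) {b y : G} {S : V → V} (hb : b ∈ QQ s) (c : Ac z π b S) (hy : y ∈ QQ z)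
    (cy : Commute s y) : ∃ d ∈ QQ z, d ∈ QQ s ∧ π d = π y + S (π y) :=
  ⟨nm b y, nm_mem h.bg c.1 hy, by
    simpa [nm, cj, mul_assoc] using mul_mem ((h.bg.of_isConj k.conj).cj_mem cy hb) (inv_mem hb), h.pi_nm c hy⟩

/-- A linear form on a subspace is represented by a vector. -/
theorem exists_rep (C : AddSubgroup V) (f : V → Bool) (hf : ∀ u ∈ C, ∀ v ∈ C, f (u + v) = (f u ^^ f v)) :
    ∃ l, ∀ v ∈ C, fb v l = f v := by
  let C' : Submodule (ZMod 2) V := AddSubgroup.toZModSubmodule 2 C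
  let f' : C' →+ ZMod 2 := AddMonoidHom.mk' (fun v => b2 (f v)) fun u v => by
    rw [← b2_xor, ← hf _ u.2 _ v.2]; rfl
  obtain ⟨g, hg⟩ := LinearMap.exists_extend (f'.toZModLinearMap 2)
  obtain ⟨l, hl⟩ := (LinearMap.BilinForm.toDual _ (qf_nondeg false)).surjective g
  refine ⟨l, fun v hv => b2_inj.1 ?_⟩
  have h1 : g v = b2 (f v) := LinearMap.congr_fun hg ⟨v, hv⟩
  rw [← h1, ← hl, LinearMap.BilinForm.toDual_def, QuadraticMap.polarBilin_apply_apply, polar_qf, fb_comm]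

/-- (R4) the image of `C_Q(s)` is cut out of the fixed space by a linear form. -/
theorem Co.exists_lam (h : Co z τ π) (c : Ac z π u T) (k : u * u = 1 ∨ u * u = z) : ∃ l, (∀ v, fb (v + T v) l = qb τ (v + T v)) ∧
    ∀ y ∈ QQ z, Commute u y ↔ T (π y) = π y ∧ fb (π y) l = false := by
  classical
  have i := h.iso c
  have i2 := h.ac_ac c (by rcases k with e | e <;> rw [e]; exacts [one_mem _, h.bg.z_mem])
  let N : V →+ V := AddMonoidHom.mk' (fun v => v + T v) fun u v => by rw [i.add, add_add_add_comm]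
  have hk : ∀ v, v ∈ N.ker ↔ T v = v := fun v => add_eq_zero_iff.trans eq_comm
  choose r r1 r2 using h.surj
  have h1 : ∀ y ∈ QQ z, Commute u (r (π y)) ↔ Commute u y := fun y hy => by
    rcases (h.eq_iff (r1 _) hy).1 (r2 (π y)) with e | e <;> rw [e]
    exact ⟨fun e => by simpa [← mul_assoc, h.zz] using c.1.symm.mul_right e, c.1.symm.mul_right⟩
  have h2 : ∀ {x : G}, cj u x = z * x → ¬ Commute u x := fun e e' =>
    h.bg.ne_one (by simpa [cj_of_commute e'] using e)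
  obtain ⟨l, hl⟩ := exists_rep N.ker (fun v => decide (¬ Commute u (r v))) fun v hv w hw => by
    have h3 := h1 _ (mul_mem (r1 v) (r1 w))
    rw [h.mul _ (r1 v) _ (r1 w), r2, r2] at h3
    rw [h3]
    have h4 := (h.fix_iff c (r1 v)).1 (by rw [r2, (hk v).1 hv])
    have h5 := (h.fix_iff c (r1 w)).1 (by rw [r2, (hk w).1 hw])
    rcases h4 with e | e <;> rcases h5 with e' | e'
    · simp [cj_eq_self_iff.1 e, cj_eq_self_iff.1 e', (cj_eq_self_iff.1 e).mul_right (cj_eq_self_iff.1 e')]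
    · have : cj u (r v * r w) = z * (r v * r w) := by
        rw [cj_mul, e, e', ← mul_assoc, ← (h.bg.comm (r1 v)).eq, mul_assoc]
      simp [cj_eq_self_iff.1 e, h2 e', h2 this]
    · have : cj u (r v * r w) = z * (r v * r w) := by rw [cj_mul, e, e', mul_assoc]
      simp [cj_eq_self_iff.1 e', h2 e, h2 this]
    · have : cj u (r v * r w) = r v * r w := by
        rw [cj_mul, e, e', mul_assoc, ← mul_assoc (r v), ← (h.bg.comm (r1 v)).eq, mul_assoc, ← mul_assoc z, h.zz, one_mul]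
      simp [h2 e, h2 e', cj_eq_self_iff.1 this]
  refine ⟨l, fun v => ?_, fun y hy => ⟨fun e => ?_, fun e => ?_⟩⟩
  · have h3 := h.cj_of_range c k (r1 (v + T v)) (r2 _)
    rw [hl _ ((hk _).2 (by rw [i.add, i2, add_comm])), ← r2 (v + T v), r2 (v + T v), Bool.eq_iff_iff, decide_eq_true_iff,
      ← cj_eq_self_iff, h3, ← Bool.not_eq_false, ← r2 (v + T v), ← h.sq _ (r1 _), r2, inv_eq_iff_mul_eq_one]
  · have h3 := h.fix_of_comm c hy e
    exact ⟨h3, by rw [hl _ ((hk _).2 h3), h1 y hy]; simpa using e⟩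
  · have h3 := e.2
    rw [hl _ ((hk _).2 e.1), h1 y hy] at h3
    simpa using h3

end Cfsg.Agent.W4
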