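import Mathlib
import Cfsg.Agent.W4.NZ
import Cfsg.Agent.W4.Bd
import Cfsg.Agent.W4.FusA

/-! Control of fusion: every conjugate of `z` in `C(z)` lies in `Q` or in `Q_t` for a point `t`
(see `stubs/Cfsg/Agent/W4/PLAN.md`, section Fus). -/

set_option autoImplicit false
set_option maxRecDepth 100000
set_option linter.unusedVariables false
set_option linter.unusedSectionVars false

namespace Cfsg.Agent.W4

open Cfsg.Agent.Spor Cfsg.Agent.Spor.TT Cfsg.Agent.LX Cfsg.Agent.Gr6 Cfsg.Agent.W3 Subgroup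

variable {G : Type*} [Group G] [Finite G] {z a g s t t0 t1 u : G} {τ : Bool} {π : G → V} {T : V → V} {O : ℕ} {L : List PD}

namespace FusA

theorem card_le_length {α : Type*} (f : α → ℕ) (hf : Function.Injective f) (l : List ℕ) (h : ∀ a, f a ∈ l) :
    Nat.card α ≤ l.length := by
  choose i hi using fun a => List.mem_iff_get.1 (h a)
  simpa using Nat.card_le_card_of_injective i fun a b e => hf (by rw [← hi, e, hi])

/-- The order of a subgroup of `C(z)` whose actions have tables in a list. -/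
theorem card_le (h : Co z τ π) (B : Subgroup G) (l : List ℕ) (hl : ∀ b ∈ B, ∃ m, tb m ∈ l ∧ Ac z π b (mx m)) :
    Nat.card B ≤ l.length * Nat.card ((QQ z).subgroupOf B) := by
  choose m h1 h2 using fun b : B => hl _ (inv_mem b.2)
  rw [card_eq_card_quotient_mul_card_subgroup ((QQ z).subgroupOf B)]
  refine Nat.mul_le_mul_right _ (card_le_length (fun x => tb (m x.out)) (fun x y e => ?_) l fun x => h1 _)
  rw [← x.out_eq, ← y.out_eq]
  refine QuotientGroup.eq.2 ?_
  have := h.mul_inv_mem (h2 x.out) (h2 y.out) fun v => by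
    rw [← vv_ap_tb, ← vv_ap_tb]; exact congrArg (fun t => vv (ap t v.n)) e
  rwa [inv_inv] at this

/-- A subgroup of order a power of two fixes a vector in an invariant set of odd size. -/
theorem exists_fix (h : Co z τ π) (B : Subgroup G) (hB : IsPGroup 2 B) (hz : B ≤ centralizer {z}) (X : V → Prop)
    (hX : ∀ g T, Ac z π g T → ∀ v, X v → X (T v)) (ho : ¬ 2 ∣ Nat.card {v // X v}) :
    ∃ v, X v ∧ ∀ g ∈ B, ∀ T, Ac z π g T → T v = v := by
  obtain ⟨φ, h1, -⟩ := h.exists_act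
  letI : MulAction B {v // X v} :=
    { smul := fun g v => ⟨φ (inclusion hz g) v, hX _ _ (h1 _) _ v.2⟩
      one_smul := fun v => Subtype.ext (by change φ (inclusion hz 1) v = v; rw [map_one, map_one]; rfl)
      mul_smul := fun a b v => Subtype.ext (by
        change φ (inclusion hz (a * b)) v = φ (inclusion hz a) (φ (inclusion hz b) v); rw [map_mul, map_mul]; rfl) }
  haveI : Fact (Nat.Prime 2) := ⟨Nat.prime_two⟩
  obtain ⟨v, hv⟩ := hB.nonempty_fixed_point_of_prime_not_dvd_card _ ho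
  exact ⟨v, v.2, fun g hg T c => (h.ac_ext c (h1 (inclusion hz ⟨g, hg⟩)) _).trans (congrArg Subtype.val (hv ⟨g, hg⟩))⟩

theorem far_cj (h : Co z τ π) (k : Far z s) (hg : Commute z g) : Far z (cj g s) :=
  ⟨k.conj.trans (LX.isConj_cj g s), commute_cj hg k.comm, fun e => k.out (by
    simpa only [cj_inv_cj] using h.bg.cj_mem hg.inv_right e), fun t p e => k.nopt _ (p.cj h.bg hg.inv_right) (mem_QQ_cj.1 e)⟩

theorem fb_range (i : Iso τ T) {c : V} (e : T c = c) (w : V) : fb c (w + T w) = false := by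
  rw [fb_add_right, ← i.f c w, e, Bool.xor_self]

/-- The counting argument. -/
theorem core {N : List ℕ} (h : Co z false π) (hc : chk O N = true) (hO : ∀ v : V, bt O v.n = true → ∃ t, Pt z t ∧ π t = v)
    (k : Far z s) (hB : ∀ b ∈ QQ s, Commute z b → ∃ n ∈ N, Ac z π b (mx n)) : False := by
  obtain ⟨π', h'⟩ := h.of_isConj k.conj
  obtain ⟨n, hn, c⟩ := hB s h'.bg.z_mem k.comm
  have h1 := h.ac_ac c (h'.zz ▸ one_mem _)
  have i := h.iso c
  obtain ⟨l, ⟨l1, l2⟩, l3⟩ := exists_minimalFor_of_wellFoundedLT _ V.n (h.exists_lam c (.inl h'.zz))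
  have l4 : ∀ v, l.n ≤ (l + (v + mx n v)).n := fun v => (le_total _ _).elim id (l3 ⟨fun w => by
    rw [fb_add_right, l1, fb_range i (by rw [i.add, h1, add_comm]), Bool.xor_false], fun y hy => by
      rw [l2 y hy]
      exact and_congr_right fun e => by rw [fb_add_right, fb_range i e, Bool.xor_false]⟩)
  have f2 : ∀ d, Et z π s d → d ≠ 0 → (mx n d = d ∧ fb d l = false) ∧ qb false d = false ∧ bt O d.n = false ∧
      (∀ v, mx n v = v → fb v l = false → fb d v = false) ∧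
        ∀ w, d = w + mx n w → ∀ v, mx n v = v → fb v l = false := by
    rintro _ ⟨d, d1, d2, rfl⟩ d3
    refine ⟨(l2 d d1).1 (h'.bg.comm d2), (k.perp h d1 d2 d1 (h'.bg.comm d2)).1, Bool.eq_false_iff.2 fun e => ?_,
      fun v e e' => ?_, fun w e v e' => ?_⟩
    · obtain ⟨t, p, e⟩ := hO _ e
      exact k.nopt d (h.pt_of_eq p d1 e.symm) d2
    · obtain ⟨y, hy, rfl⟩ := h.surj v
      exact (k.perp h d1 d2 hy ((l2 y hy).2 ⟨e, e'⟩)).2.1
    · obtain ⟨y, hy, rfl⟩ := h.surj v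
      exact ((l2 y hy).1 (k.lam h c d1 d2 (fun e => d3 (e ▸ h.one)) e y hy e')).2
  obtain ⟨r1, S, Y, r2, r3, r4⟩ := chk_spec hc hn h1 (fun e => k.out (h.mem_of_ac c e)) l1 l4
    (F := Et z π s) ⟨1, one_mem _, one_mem _, h.one⟩ (fun _ _ ⟨a, h1, h2, h3⟩ ⟨b, k1, k2, k3⟩ =>
      ⟨a * b, mul_mem h1 k1, mul_mem h2 k2, by rw [h.mul a h1 b k1, h3, k3]⟩) f2
  have cov : ∀ S Y : List ℕ, Cov N n l (Et z π s) S → (∀ d, Et z π s d → d.n ∈ Y) →
      Nat.card ↥(QQ s ⊓ centralizer {z}) ≤ S.length * Y.length := fun S Y s1 s2 => by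
    refine (card_le h _ S fun b hb => ?_).trans (Nat.mul_le_mul_left _ (card_le_length (fun x => (π x.1.1).n)
      (fun x y e => ?_) Y fun x => s2 _ ⟨_, x.2, x.1.2.1, rfl⟩))
    · obtain ⟨m, m1, m2⟩ := hB b hb.1 (Spor.mem_centralizer_singleton.1 hb.2)
      refine ⟨m, s1 m m1 (h.ac_comm c m2 (h'.bg.comm hb.1)) ?_ fun v e e' => ?_, m2⟩
      · rintro _ ⟨d, d1, d2, rfl⟩
        rcases (h'.fix_iff (h'.ac_mem hb.1) d2).1 rfl with e | e
        · exact (h.fix_iff m2 d1).2 (.inl e)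
        · exact absurd (by simpa [e] using mul_mem (h.cj_mem m2 d1) (inv_mem d1)) k.out
      · obtain ⟨y, hy, rfl⟩ := h.surj v
        obtain ⟨d, d1, d2, d3⟩ := k.move h hb.1 m2 hy ((l2 y hy).2 ⟨e, e'⟩)
        exact ⟨d, d1, d2, d3⟩
    · have x1 : x.1.1 ∈ QQ z := x.2
      have y1 : y.1.1 ∈ QQ z := y.2
      have d1 := mul_mem x1 (inv_mem y1)
      have d2 := mul_mem (mem_inf.1 x.1.2).1 (inv_mem (mem_inf.1 y.1.2).1)
      refine Subtype.ext (Subtype.ext (mul_inv_eq_one.1 ((k.perp h d1 d2 d1 (h'.bg.comm d2)).2.2 ?_)))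
      rw [h.mul _ x1 _ (inv_mem y1), h.inv y1, V.ext e, add_self]
  obtain ⟨c1, c2⟩ := k.card h
  by_cases e : QQ z ⊓ QQ s = ⊥
  · have e' : ∀ d, Et z π s d → d = 0 := by
      rintro _ ⟨d, d1, d2, rfl⟩
      rw [show d = 1 from mem_bot.1 (e ▸ mem_inf.2 ⟨d1, d2⟩), h.one]
    obtain ⟨S', s1, s2⟩ := r1 e'
    have := cov S' [0] s1 fun d e => e' d e ▸ List.mem_singleton.2 rfl
    rw [List.length_singleton] at this
    omega
  · have := cov S Y r2 r3
    have := c2 e
    omega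

/-- The test for the words. -/
def wck (O : ℕ) (L : List PD) (W : List (ℕ × List ℕ)) (N : List ℕ) : Bool :=
  allL (fun p => and (Nat.beq (ap (wm (gn L) p.2) 0) p.1) (or (not (Nat.beq p.1 1)) p.2.isEmpty)) W &&
    allN (fun v => or (not (bt O v)) (anyL (fun p => Nat.beq p.1 v) W)) 256 && allL (fun n => Nat.beq (ap n 0) 1) N &&
      anyL (fun d => Nat.beq d.x 1) L

theorem mx_e0 (m : ℕ) : (mx m (vv 1)).n = ap m 0 := by
  have : mx m (vv 1) = vv (ap m 0) + 0 + 0 + 0 + 0 + 0 + 0 + 0 := rfl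
  simp only [this, add_zero, vv_ap]

theorem fus {W : List (ℕ × List ℕ)} {N : List ℕ} (h : Lf z π O L) (bd : Bd z π L W N) (hc : chk O N = true)
    (hw : wck O L W N = true) (ho : ¬ 2 ∣ (Finset.univ.filter fun v : V => bt O v.n = true).card) : Fus z := by
  simp only [wck, Bool.and_eq_true, Bool.or_eq_true, allL_iff, allN_iff, anyL_iff, Nat.beq_eq, Bool.not_eq_true',
    List.isEmpty_iff] at hw
  obtain ⟨⟨⟨w1, w2⟩, w3⟩, d, d1, d2⟩ := hw
  obtain ⟨t, p⟩ := h.base d d1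
  have c := h.co
  have hO : ∀ v : V, bt O v.n = true → ∃ g T, Ac z π g T ∧ T (vv 1) = v := fun v hv => by
    obtain ⟨p, p1, p2⟩ := (w2 _ v.lt).resolve_left (by simp [hv])
    obtain ⟨g, e⟩ := h.rl p.2
    exact ⟨g, _, e, V.ext (by rw [mx_e0, (w1 p p1).1, p2])⟩
  have hO' : ∀ v : V, bt O v.n = true → ∃ t, Pt z t ∧ π t = v := fun v hv =>
    let ⟨g, T, e, e'⟩ := hO v hv
    ⟨_, p.pt.cj c.bg e.1, by rw [e.2 t p.pt.mem, p.eq, d2, e']⟩
  intro s s1 s2
  by_contra! k
  have k : Far z s := ⟨s1, s2, k.1, fun t p e => k.2 t p (by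
    obtain ⟨π', c'⟩ := c.of_isConj s1
    by_cases e' : t = s
    · exact absurd (e' ▸ p.mem) k.1
    · exact (c'.symm ⟨s1.symm.trans p.conj, e, e'⟩).mem)⟩
  obtain ⟨v, v1, v2⟩ := exists_fix c (QQ s ⊓ centralizer {z})
    ((c.bg.of_isConj s1).es.isPGroup.to_le inf_le_left) inf_le_right (fun v => bt O v.n = true)
    (fun g T e v hv => by
      obtain ⟨t, p, rfl⟩ := hO' v hv
      rw [← e.2 t p.mem]
      exact h.pts _ (p.cj c.bg e.1)) (by rwa [Nat.card_eq_fintype_card, Fintype.card_subtype])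
  obtain ⟨g, T, e, rfl⟩ := hO v v1
  refine core c hc hO' (far_cj c k e.1.inv_right) fun b hb hz => ?_
  obtain ⟨S, cb⟩ := c.exists_ac hz
  obtain ⟨S', cb'⟩ := c.exists_ac (commute_cj e.1 hz)
  have e1 : S (vv 1) = vv 1 := (c.iso e).inj (by
    rw [← v2 _ ⟨by simpa using mem_QQ_cj.1 hb, Spor.mem_centralizer_singleton.2 cb'.1⟩ S' cb']
    exact c.ac_ext (T := S' ∘ T) (c.ac_mul e cb) (by simpa [cj] using c.ac_mul cb' e) _)
  obtain ⟨p, p1, n, n1, rfl⟩ := bd b S cb
  refine ⟨n, n1, cb.congr fun v => ?_⟩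
  rw [mx_mul, show mx n (vv 1) = vv 1 from V.ext ((mx_e0 n).trans (w3 n n1))] at e1
  have e2 := (w1 p p1).2.resolve_left (by
    rw [← (w1 p p1).1, ← mx_e0, e1]; decide)
  rw [mx_mul, e2]
  exact mx_one _

end FusA

open FusA

theorem Lf.fus9 (h : Lf z π O9 L9) : Fus z := fus h h.bound9 chk9 (by decide +kernel) (by decide +kernel)
theorem Lf.fus75 (h : Lf z π O75 L75) : Fus z := fus h h.bound75 chk75 (by decide +kernel) (by decide +kernel)
theorem Lf.fus15 (h : Lf z π O15 L15) : Fus z := fus h h.bound15 chk15 (by decide +kernel) (by decide +kernel)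
theorem Lf.fus27 (h : Lf z π O27 L27) : Fus z := fus h h.bound27 chk27 (by decide +kernel) (by decide +kernel)
theorem Lf.fus81 (h : Lf z π O81 L81) : Fus z := fus h h.bound81 chk81 (by decide +kernel) (by decide +kernel)

end Cfsg.Agent.W4
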