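import Mathlib
import Cfsg.Agent.W4.Loc
import Cfsg.Agent.GT.Cores

/-! The case where `Q ∩ Q_t` has order four: all noncentral involutions of `Q` are conjugate to `z`
(port of `W3/FL0`). -/

set_option autoImplicit false
set_option maxRecDepth 100000
set_option linter.unusedSectionVars false
set_option linter.unusedVariables false

namespace Cfsg.Agent.W4

open Cfsg.Agent.Spor Cfsg.Agent.Spor.TT Cfsg.Agent.LX Cfsg.Agent.Gr6 Cfsg.Agent.W3 Subgroup

variable {G : Type*} [Group G] [Finite G] {z a a' b e g m r s t : G} {τ : Bool} {π : G → V} {S T : V → V}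
  {v w w' x y n : V}

namespace LZ

theorem exists_mid (hx : qb τ x = false) (h0 : x ≠ 0) (hv : v ≠ 0) (k : fb v x = false) :
    ∃ y, qb τ y = false ∧ fb y x = true ∧ fb v y = true := by
  obtain ⟨u, u1, u2⟩ : ∃ u, fb u x = true ∧ fb v u = true := by
    obtain ⟨a, ha⟩ := exists_fb x h0
    obtain ⟨b, hb⟩ := exists_fb v hv
    cases k1 : fb v a
    · cases k2 : fb b x
      · exact ⟨a + b, by rw [fb_add_left, ha, k2]; rfl, by rw [fb_add_right, k1, fb_comm, hb]; rfl⟩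
      · exact ⟨b, k2, (fb_comm _ _).trans hb⟩
    · exact ⟨a, ha, k1⟩
  cases e : qb τ u
  · exact ⟨u, e, u1, u2⟩
  · exact ⟨u + x, by rw [qb_add, e, hx, u1]; rfl, by rw [fb_add_left, u1, fb_self]; rfl,
      by rw [fb_add_right, u2, k]; rfl⟩

theorem fb_of_rho (hx : x ≠ 0) (hv : fb v x = false) (h : rho τ x w v = v) : fb v w = false := by
  rw [rho_of_perp hv, add_eq_left] at h
  revert h
  cases fb v w <;> simp [hx]

theorem perp_two (hx : x ≠ 0) (hy : y ∉ els x []) (h : ∀ u, fb u x = false → fb u y = false → fb u n = false) :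
    n ∈ els x [y] := by
  obtain ⟨u, u1, u2⟩ : ∃ u, fb u x = false ∧ fb u y = true := by
    by_contra! k
    exact hy (els_nil.2 (perp_perp x hx y fun u hu => Bool.eq_false_iff.2 (k u hu)))
  have := els_nil.2 (perp_perp x hx (sm (fb u n) y + n) fun v hv => by
    rw [fb_add_right, fb_sm_right]
    cases k : fb v y
    · rw [h v hv k, Bool.and_false]; rfl
    · have := h (v + u) (by rw [fb_add_left, hv, u1]; rfl) (by rw [fb_add_left, k, u2]; rfl)
      rw [fb_add_left, Bool.xor_comm] at this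
      rw [Bool.and_true, this])
  revert this
  cases fb u n
  · exact fun k => els_cons.2 (.inl (by rwa [sm_false, zero_add] at k))
  · exact fun k => els_cons.2 (.inr k)

/-- Membership in `⟨z, t⟩`. -/
def Vz (z t e : G) : Prop := e = 1 ∨ e = z ∨ e = t ∨ e = z * t

/-- `Q ∩ Q_t` has order four. -/
def L0 (z t : G) : Prop := ∀ e ∈ QQ z, e ∈ QQ t → Vz z t e

theorem vz_cj : Vz (cj g z) (cj g t) (cj g e) ↔ Vz z t e := by
  rw [Vz, Vz, ← cj_mul, cj_inj, cj_inj, cj_inj, cj_eq_iff, cj_one_right]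

theorem L0.conj (h : L0 z t) (g : G) : L0 (cj g z) (cj g t) := fun e h1 h2 => by
  rw [← cj_cj_inv g e, vz_cj]; exact h _ (mem_QQ_cj.1 h1) (mem_QQ_cj.1 h2)

theorem L0.cj (h : L0 z t) (hg : Commute z g) : L0 z (cj g t) := by simpa only [cj_of_commute hg.symm] using h.conj g

theorem L0.symm (h : L0 z t) (c : Commute z t) : L0 t z := fun e h1 h2 => by
  rcases h e h2 h1 with k | k | k | k
  exacts [.inl k, .inr (.inr (.inl k)), .inr (.inl k), .inr (.inr (.inr (k.trans c.eq)))]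

/-- All noncentral involutions of `Q` are conjugate to `z`, with intersections of order four. -/
def AL (z : G) : Prop := ∀ t ∈ QQ z, t * t = 1 → t ≠ 1 → t ≠ z → IsConj z t ∧ L0 z t

theorem AL.of_isConj (h : AL z) (ha : IsConj z a) : AL a := by
  obtain ⟨g, rfl⟩ := exists_cj ha
  intro t h1 h2 h3 h4
  obtain ⟨t, rfl⟩ : ∃ s, t = cj g s := ⟨_, (cj_cj_inv g t).symm⟩
  obtain ⟨k1, k2⟩ := h t (cj_mem_QQ.1 h1) (by rwa [← cj_mul, cj_eq_iff, cj_one_right] at h2)
    (fun e => h3 (by rw [e, cj_one_right])) fun e => h4 (by rw [e])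
  exact ⟨(LX.isConj_cj g z).symm.trans (k1.trans (LX.isConj_cj g t)), k2.conj g⟩

end LZ

open LZ

namespace Co

variable (h : Co z τ π)
include h

theorem lz_v4 (p : Pt z t) (he : e ∈ QQ z) : Vz z t e ↔ π e ∈ els (π t) [] := by
  rw [els_nil, h.ker e he, h.eq_iff he p.mem, Vz, or_assoc]

theorem lz_iff (p : Pt z t) : L0 z t ↔ ∀ v, Et z π t v → v ∈ els (π t) [] :=
  ⟨fun k v ⟨e, h1, h2, h3⟩ => h3 ▸ (h.lz_v4 p h1).1 (k e h1 h2), fun k e h1 h2 => (h.lz_v4 p h1).2 (k _ ⟨e, h1, h2, rfl⟩)⟩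

theorem lz_symm (ha : IsConj z a) (k : a ∈ QQ z) : z ∈ QQ a := by
  by_cases e : a = z
  exacts [e ▸ h.bg.z_mem, (h.symm ⟨ha, k, e⟩).mem]

theorem lz_eich (p : Pt z t) (l : L0 z t) : Eich z τ π t :=
  h.eich_of p (e := 0) (e' := 0) fun v k => els_cons.2 (.inl (els_cons.2 (.inl ((h.lz_iff p).1 l v k))))

theorem lz_pt (al : AL z) (ht : t ∈ QQ z) (h1 : qb τ (π t) = false) (h2 : π t ≠ 0) : Pt z t ∧ L0 z t := by
  have k := mt (h.ker t ht).2 h2
  have k1 := al t ht ((h.sq t ht).2 h1) (fun e => k (.inl e)) fun e => k (.inr e)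
  exact ⟨⟨k1.1, ht, fun e => k (.inr e)⟩, k1.2⟩

theorem lz_wt (p : Pt z t) (l : L0 z t) (hw : fb w (π t) = false) : ∃ a ∈ QQ t, Ac z π a (rho τ (π t) w) := by
  obtain ⟨u, h1, h2⟩ := h.et_add_wt p (h.lz_eich p l) hw
  rcases els_nil.1 ((h.lz_iff p).1 l _ h2) with e | e <;> rw [add_eq_iff] at e
  · exact (e ▸ (zero_add u).symm ▸ h1 :).2
  · exact (e ▸ (h.sub_wt p).add _ _ (h.sub_wt p).self h1 :).2

theorem lz_al [IsSimpleGroup G] (p : Pt z t) (l : L0 z t) : AL z := by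
  let O : V → Prop := fun x => ∃ t, Pt z t ∧ L0 z t ∧ π t = x
  have hO : ∀ {g T}, Ac z π g T → ∀ x, O x → O (T x) := fun c x ⟨t, p, l, e⟩ =>
    ⟨_, p.cj h.bg c.1, l.cj c.1, e ▸ c.2 t p.mem⟩
  have hρ : ∀ x w, O x → fb w x = false → ∃ g, Ac z π g (rho τ x w) := fun x w ⟨t, p, l, e⟩ hw =>
    let ⟨a, _, c⟩ := h.lz_wt p l (e ▸ hw); ⟨a, e ▸ c⟩
  have hq : ∀ x, O x → qb τ x = false ∧ x ≠ 0 := fun x ⟨t, p, l, e⟩ => e ▸ ⟨h.pt_q p, h.pt_ne p⟩
  obtain ⟨x, y, hx, hy, k⟩ : ∃ x y, O x ∧ O y ∧ fb y x = true := by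
    by_contra! k
    simp only [ne_eq, Bool.not_eq_true] at k
    obtain ⟨g, T, c, e⟩ := h.nofix (h.pt_ne p)
    have o1 : O (π t) := ⟨t, p, l, rfl⟩
    have o2 := hO c _ o1
    let P : V → Prop := fun u => ∀ x, O x → fb u x = false
    have P1 : ∀ u v, P u → P v → P (u + v) := fun u v a b x o => by rw [fb_add_left, a x o, b x o]; rfl
    have P2 : ∀ b u, O u → P (sm b u) := fun b u a x o => by rw [fb_sm_left, k x u o a, Bool.and_false]
    have N1 : ∀ {g T}, Ac z π g T → (∀ u, P u → T u = u) → (∀ v, P (v + T v)) → ∀ v, T (T v) = v := fun c a b v => by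
      have := a _ (b v)
      rwa [(h.iso c).add, add_comm v, add_right_inj] at this
    let N : Subgroup G :=
      { carrier := {g | ∃ T, Ac z π g T ∧ (∀ u, P u → T u = u) ∧ ∀ v, P (v + T v)}
        one_mem' := ⟨_, h.ac_mem (one_mem _), fun _ _ => rfl, fun v x _ => by simp⟩
        mul_mem' := fun ⟨S, a, b, c⟩ ⟨T, d, e, f⟩ => ⟨_, h.ac_mul a d, fun u k => by rw [Function.comp, e u k, b u k],
          fun v => by simpa [add_assoc] using P1 _ _ (f v) (c (T v))⟩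
        inv_mem' := fun ⟨T, a, b, c⟩ => ⟨T, h.ac_inv a (N1 a b c), b, c⟩ }
    have N2 : N ≤ QQ z := GT.le_pCoreOf (fun g ⟨_, c, _⟩ => Spor.mem_centralizer_singleton.2 c.1)
      (le_normalizer_iff.2 fun g hg n ⟨T, a, b, c⟩ => by
        obtain ⟨R, d⟩ := h.exists_ac (Spor.mem_centralizer_singleton.1 hg)
        obtain ⟨R', d'⟩ := h.exists_ac d.1.inv_right
        have i := h.iso d
        have e : ∀ v, R (R' v) = v := h.ac_ext (T := id) (h.ac_mul d d') (by simpa using h.ac_mem (one_mem _))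
        refine ⟨_, h.ac_mul (h.ac_mul d a) d', fun u k => ?_, fun v x o => ?_⟩
        · rw [Function.comp, Function.comp, b _ fun x o => by rw [← i.f, e, k _ (hO d x o)], e]
        · rw [Function.comp, Function.comp, ← e x, ← e v, ← i.add, i.f, i.inj (e (R (R' v))), c _ _ (hO d' x o)])
      fun ⟨n, T, a, b, c⟩ => ⟨3, Subtype.ext (by
        have := h.bg.es.sq _ (h.mem_of_ac (h.ac_mul a a) (N1 a b c))
        rw [show 2 ^ 3 = 2 * 2 * 2 from rfl, coe_pow, pow_mul, pow_mul, pow_two, pow_two, pow_two]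
        rcases this with e | e <;> simp [e, h.zz])⟩
    obtain ⟨a, d⟩ := hρ _ _ o1 (k _ _ o1 o2)
    exact ((h.mem_iff_of_rho p d).1 (N2 ⟨_, d, fun u k => by simp [rho, k _ o1, k _ o2], fun v => by
      simpa [rho, add_assoc] using P1 _ _ (P2 _ _ o2) (P2 _ _ o1)⟩)).elim (hq _ o2).2 e
  have mv : ∀ x y s, O x → O y → fb y x = true → fb s x = true → qb τ s = false → O s := fun x y s a b c d e => by
    obtain ⟨g, k⟩ := hρ x (y + s) a (by rw [fb_add_left, c, d]; rfl)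
    simpa [rho, c, fb_add_right, qb_add, e, (hq y b).1] using hO k y b
  intro s hs h1 h2 h3
  have h4 := (h.sq s hs).1 h1
  obtain ⟨t, p, l, e⟩ : O (π s) := by
    cases k : fb (π s) x
    · obtain ⟨u, u1, u2, u3⟩ := exists_mid (hq x hx).1 (hq x hx).2 (fun e => ((h.ker s hs).1 e).elim h2 h3) k
      exact mv u x _ (mv x y u hx hy ‹_› u2 u1) hx ((fb_comm _ _).trans u2) u3 h4
    · exact mv x y _ hx hy ‹_› k h4
  obtain ⟨q, hq, rfl⟩ := h.pt_eq p hs e.symm
  exact ⟨p.conj.trans (LX.isConj_cj q t), l.cj (h.bg.comm hq)⟩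

theorem lz_partner (p : Pt z t) (l : L0 z t) (hm : m ∈ QQ z) (hv : fb (π m) (π t) = false) (hb : b ∈ QQ t)
    (e : cj b z = z * t) : m⁻¹ * cj b m ∈ QQ t ∧ Ac z π (m⁻¹ * cj b m) (rho τ (π t) (π m)) := by
  obtain ⟨q, hq, k⟩ := h.exists_q p
  obtain ⟨h1, h2, h3⟩ := h.exists_partner p hm hv hb e hq k
  refine ⟨h1, (h.ac_rho p (h.lz_eich p l) h1 h2 hq k).congr fun v => ?_⟩
  rcases els_nil.1 ((h.lz_iff p).1 l _ h3) with e | e <;> rw [add_comm, add_eq_iff] at e <;> rw [e]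
  · rw [zero_add]
  · rw [← rho_rho (fb_self _) hv, rho_self (h.pt_q p)]

/-- The correspondence between `C_{Q_t}(z)` and `C_Q(t)` preserves squares. -/
theorem l0_sq (p : Pt z t) (l : L0 z t) (ha : a ∈ QQ t) (hw : fb w (π t) = false) (c : Ac z π a (rho τ (π t) w)) :
    a * a = 1 ↔ qb τ w = false := by
  obtain ⟨m, hm, rfl⟩ := h.surj w
  obtain ⟨b, hb, e⟩ := h.exists_b p
  obtain ⟨h1, c'⟩ := h.lz_partner p l hm hw hb e
  have h2 : cj b (m * m) = m * cj (m⁻¹ * cj b m) m * (m⁻¹ * cj b m * (m⁻¹ * cj b m)) := by simp [cj, mul_assoc]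
  generalize m⁻¹ * cj b m = d at h1 c' h2
  have bt := h.bgt p
  have h3 : a * a = d * d := by
    have k1 := h.mul_inv_mem c c' fun _ => rfl
    have k2 := mul_mem ha (inv_mem h1)
    have k3 : Commute (a * d⁻¹) d := by
      rcases l _ k1 k2 with e | e | e | e <;> rw [e]
      exacts [Commute.one_left _, c'.1, bt.comm h1, c'.1.mul_left (bt.comm h1)]
    rw [← inv_mul_cancel_right a d, k3.symm.mul_mul_mul_comm, (h.pair p).E_sq ⟨k1, k2⟩, one_mul]
  have h4 : m * (z * m) = z * (m * m) := by rw [← mul_assoc, ← (h.bg.comm hm).eq, mul_assoc]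
  have h5 : z * t ≠ 1 := fun k => p.ne (by rw [← h.zz, mul_right_inj] at k; exact k)
  rw [h3, ← h.sq m hm]
  rcases (h.fix_iff c' hm).1 (by simp [rho, hw]) with k | k <;> rw [k] at h2 <;>
    rcases h.bg.es.sq m hm with k1 | k1 <;> rcases bt.es.sq d h1 with k2 | k2 <;>
    simp only [h4, k1, k2, e, cj_one_right, h.zz, mul_one, one_mul, h.bg.ne_one, bt.ne_one] at h2 ⊢
  exacts [absurd h2.symm bt.ne_one, absurd (mul_eq_left.1 h2) bt.ne_one, absurd h2.symm h5, absurd h2 h5]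

theorem l0_comm (p : Pt z t) (l : L0 z t) (ha : a ∈ QQ t) (ha' : a' ∈ QQ t) (hw : fb w (π t) = false)
    (hw' : fb w' (π t) = false) (c : Ac z π a (rho τ (π t) w)) (c' : Ac z π a' (rho τ (π t) w')) :
    Commute a a' ↔ fb w w' = false := by
  obtain ⟨π', h'⟩ := h.of_isConj p.conj
  have k : ∀ {a w}, a ∈ QQ t → fb w (π t) = false → Ac z π a (rho τ (π t) w) → qb τ (π' a) = qb τ w := fun ha hw c => by
    rw [← Bool.not_inj_iff, Bool.eq_iff_iff, Bool.not_eq_true', Bool.not_eq_true', ← h'.sq _ ha, h.l0_sq p l ha hw c]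
  have := k (mul_mem ha ha') ((sub_perp _).add _ _ hw hw') ((h.ac_mul c c').congr (rho_rho hw hw'))
  rw [h'.mul a ha a' ha', qb_add, qb_add, k ha hw c, k ha' hw' c', Bool.xor_right_inj] at this
  rw [h'.comm a ha a' ha', this]

theorem l0_ne (p : Pt z t) (l : L0 z t) (ha : a ∈ QQ t) (hz : Commute z a) (hr : r ∈ QQ z) (ht : Commute t r) :
    nm a r ≠ z := fun e => by
  obtain ⟨π', h'⟩ := h.of_isConj p.conj
  obtain ⟨w, hw, c⟩ := h.lz_eich p l a ha hz
  obtain ⟨b, hb, e'⟩ := h.exists_b p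
  have hv := (h.comm r hr t p.mem).1 ht.symm
  obtain ⟨h1, c'⟩ := h.lz_partner p l hr hv hb e'
  have h2 : cj a r = z * r := by rw [← h.bg.es.z_inv, ← e]; simp [nm, cj, mul_assoc]
  have h3 := cj_of_commute ((h.l0_comm p l ha h1 hw hv c c').2 ((fb_comm _ _).trans
    (fb_of_rho (h.pt_ne p) hv ((h.fix_iff c hr).2 (.inr h2)))))
  have h4 : cj (cj b⁻¹ a) r = z * r := by
    rcases (h'.fix_iff (h'.ac_mem (inv_mem hb)) ha).1 rfl with k | k <;> rw [k]
    · exact h2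
    · rw [← cj_cj, h2, cj_mul, cj_of_commute ht, cj_of_commute (h.bg.comm p.mem).symm]
  have h5 := congrArg (cj b) h4
  rw [cj_dist, cj_cj_inv, cj_mul, e', ← mul_inv_cancel_left r (cj b r), cj_mul, h3, h2, ← mul_assoc (z * t), mul_left_inj,
    mul_left_inj, left_eq_mul] at h5
  exact h'.bg.ne_one h5

theorem l0_nm (p : Pt z t) (l : L0 z t) (ha : a ∈ QQ t) (hz : Commute z a) (hr : r ∈ QQ z) (ht : Commute t r) :
    Commute a r ∨ nm a r = z * t := by
  obtain ⟨π', h'⟩ := h.of_isConj p.conj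
  rcases l _ (nm_mem h.bg hz hr) (h.nm_mem_t p ha ht) with e | e | e | e
  · exact .inl (nm_eq_one_iff.1 e)
  · exact absurd e (h.l0_ne p l ha hz hr ht)
  · exact absurd (by rw [← h'.bg.es.z_inv, ← e]; simp [nm, cj, mul_assoc])
      (h'.l0_ne (h.symm p) (l.symm (h.bg.comm p.mem)) hr ht ha hz)
  · exact .inr e

theorem l0_fix (p : Pt z t) (l : L0 z t) (ha : a ∈ QQ t) (c : Ac z π a T) (hr : r ∈ QQ z)
    (ht : fb (π r) (π t) = false) (k : T (π r) = π r) : Commute a r :=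
  (h.l0_nm p l ha c.1 hr ((h.comm r hr t p.mem).2 ht).symm).resolve_right fun e => h.pt_ne p (by
    rw [← h.z_mul p.mem, ← e, h.pi_nm c hr, k, add_self])

end Co

end Cfsg.Agent.W4
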