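import Mathlib
import Cfsg.Agent.W4.L0A

/-! The case where `Q ∩ Q_t` has order four: `Q` is not of minus type. -/

set_option autoImplicit false
set_option maxRecDepth 100000
set_option linter.unusedSectionVars false
set_option linter.unusedVariables false

namespace Cfsg.Agent.W4

open Cfsg.Agent.Spor Cfsg.Agent.Spor.TT Cfsg.Agent.LX Cfsg.Agent.Gr6 Cfsg.Agent.W3 Subgroup

variable {G : Type*} [Group G] [Finite G] {z : G} {τ : Bool} {π : G → V} {a v x : V} {l : List V}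

namespace LZ

theorem three : ∀ (e₁ e₂ e₃ : Bool) (d : V),
    (∀ v, rho true (vv 1) d v = rho true (vv 1) (sm e₁ (vv 2)) (rho true (vv 1) (vv 4) v)) →
    (∀ v, rho true (vv 2) d v = rho true (vv 1) (sm e₂ (vv 2)) (rho true (vv 2) (vv 4) v)) →
    (∀ v, rho true (vv 3) d v = rho true (vv 1) (sm e₃ (vv 2)) (rho true (vv 3) (vv 4) v)) → e₃ = (e₁ ^^ e₂) := by
  decide +kernel

theorem perp_els (hx : fb x a = false) (k : ∀ b ∈ l, fb b a = false) (hv : v ∈ els x l) : fb v a = false :=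
  Sub.els (S := fun v => fb v a = false) ⟨zero_fb _, hx, (sub_perp a).add⟩ k v hv

theorem q_cons (hl : ∀ v ∈ els x l, qb τ v = false) (ha : qb τ a = false) (hx : fb x a = false)
    (k : ∀ b ∈ l, fb b a = false) : ∀ v ∈ els x (a :: l), qb τ v = false := fun v hv =>
  (els_cons.1 hv).elim (hl v) fun m => by
    rw [← add_add_self a v, qb_add, ha, hl _ m, fb_comm, perp_els hx k m]; rfl

end LZ

open LZ

theorem Co.lz_minus (h : Co z true π) (al : AL z) : False := by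
  obtain ⟨t1, m1, e1⟩ := h.surj (vv 1)
  obtain ⟨t2, m2, e2⟩ := h.surj (vv 2)
  obtain ⟨p1, l1⟩ := h.lz_pt al m1 (e1 ▸ rfl) (e1 ▸ by decide)
  obtain ⟨p2, l2⟩ := h.lz_pt al m2 (e2 ▸ rfl) (e2 ▸ by decide)
  obtain ⟨a, a1, a2, c⟩ : ∃ a ∈ QQ t1, a ∈ QQ t2 ∧ Ac z π a (rho true (vv 1) (vv 2)) := by
    obtain ⟨a, ha, c⟩ := h.lz_wt p1 l1 (w := vv 2) (e1 ▸ rfl)
    obtain ⟨b, hb, d⟩ := h.lz_wt p2 l2 (w := vv 1) (e2 ▸ rfl)
    rw [e1] at c
    rw [e2] at d
    replace d := d.congr (T := rho true (vv 1) (vv 2)) (by decide +kernel)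
    have k := h.mul_inv_mem d c fun _ => rfl
    have k1 : ∀ v, fb v (vv 1) = false → fb v (vv 2) = false → fb v (π (b * a⁻¹)) = false := fun v v1 v2 => by
      obtain ⟨r, hr, rfl⟩ := h.surj v
      have : rho true (vv 1) (vv 2) (π r) = π r := by rw [rho, v1, v2, Bool.and_false]; simp
      exact (h.comm _ hr _ k).1 ((h.l0_fix p2 l2 hb d hr (e2 ▸ v2) this).mul_left
        (h.l0_fix p1 l1 ha c hr (e1 ▸ v1) this).inv_left).symm
    have k3 : ∀ {x}, x ∈ QQ z → π x ∈ els (vv 1) [] → x ∈ QQ t1 := fun hx e =>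
      h.mem_of_et p1 hx ((h.sub_et p1).els (l := []) (by simp) _ (e1 ▸ e))
    rcases els_cons.1 (perp_two (by decide) (by decide) k1) with e | e
    · exact ⟨b, by simpa using mul_mem (k3 k e) ha, hb, d⟩
    · exact ⟨t2 * b, by simpa [mul_assoc] using mul_mem (k3 (mul_mem m2 k) (by rwa [h.mul _ m2 _ k, e2])) ha,
        mul_mem (h.bgt p2).z_mem hb, (h.ac_mul (h.ac_mem m2) d :)⟩
  have a3 : a ∉ QQ z := fun k => absurd (h.ac_ext c (h.ac_mem k) (vv 16)) (by decide +kernel)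
  have a4 : IsConj t1 a := (al.of_isConj p1.conj a a1 ((h.l0_sq p1 l1 a1 (w := vv 2) (e1 ▸ rfl) (e1 ▸ c)).2 rfl)
    (fun e => a3 (e ▸ one_mem _)) fun e => a3 (e ▸ m1)).1
  have a5 := p1.conj.trans a4
  obtain ⟨π', h'⟩ := h.of_isConj a5
  have al' := al.of_isConj a5
  have k1 : ∀ {s}, Pt z s → s ∈ QQ a → Pt a s ∧ L0 a s := fun p k =>
    have e : _ ≠ a := fun e => a3 (e ▸ p.mem)
    ⟨⟨a5.symm.trans p.conj, k, e⟩, (al' _ k (h.bgt p).sq (h.bgt p).ne_one e).2⟩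
  have k2 : ∀ {s}, Pt z s → a ∈ QQ s → s ∈ QQ a := fun p k =>
    let ⟨_, k'⟩ := h.of_isConj p.conj; k'.lz_symm (p.conj.symm.trans a5) k
  have n1 := k2 p1 a1
  have n2 := k2 p2 a2
  obtain ⟨q1, o1⟩ := k1 p1 n1
  obtain ⟨q2, o2⟩ := k1 p2 n2
  have c12 : Commute t2 t1 := (h.comm _ m2 _ m1).2 (by rw [e1, e2]; rfl)
  have ne : t2 ≠ t1 := fun e => absurd (e1 ▸ e ▸ e2) (by decide)
  have ny : π' t2 ∉ els (π' t1) [] := by
    rw [← h'.lz_v4 q1 n2]
    rintro (e | e | e | e)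
    exacts [h'.bgt q2 |>.ne_one e, q2.ne e, ne e, a3 (by simpa [e] using mul_mem m2 (inv_mem m1))]
  have key : ∀ s ∈ QQ z, s ∈ QQ a → Commute s t1 → Commute s t2 → ∀ x y, π s = x → qb true x = false → x ≠ 0 →
      fb (vv 4) x = false → fb (vv 64) x = false → fb y x = false → fb y (vv 4) = false → fb y (vv 64) = false →
      (∀ v, rho true (vv 1) (vv 2) v = rho true x y v) →
      ∃ u, qb true u = false ∧ fb (π' t1) u = false ∧ fb (π' t2) u = false ∧ u ∉ els (π' t1) [π' t2] ∧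
        ∀ b ∈ QQ a, Commute s b → ∀ B, Ac z π b B → ∀ v, rho true x (B (vv 4)) v =
          rho true (vv 1) (sm (fb (π' b) u) (vv 2)) (rho true x (vv 4) v) := by
    rintro s s1 s2 s4 s5 _ y rfl x1 x2 x3 x4 y1 y2 y4 y3
    obtain ⟨p, l⟩ := h.lz_pt al s1 x1 x2
    obtain ⟨q, o⟩ := k1 p s2
    have k : ∀ w, fb w (π s) = false → fb y w = false → fb (vv 1) w = false → fb (vv 2) w = false →
        ∃ d ∈ QQ s, ∃ u, Ac z π d (rho true (π s) w) ∧ Commute a d ∧ fb u (π' s) = false ∧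
          Ac a π' d (rho true (π' s) u) ∧ fb (π' t1) u = false ∧ fb (π' t2) u = false := fun w w1 w2 w3 w4 => by
      obtain ⟨d, hd, cd⟩ := h.lz_wt p l w1
      have d1 := (h.l0_comm p l (h'.symm q).mem hd y1 w1 (c.congr y3) cd).2 w2
      obtain ⟨u, hu, cd'⟩ := h'.lz_eich q o d hd d1
      have d2 : ∀ t ∈ QQ z, t ∈ QQ a → Commute s t → fb (π t) w = false → fb (π' t) u = false :=
        fun t t1 t2 t3 t4 => by
          have t5 := (h.comm _ t1 _ s1).1 t3.symm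
          exact fb_of_rho (h'.pt_ne q) ((h'.comm _ t2 _ s2).1 t3.symm) (h'.fix_of_comm cd' t2
            (h.l0_fix p l hd cd t1 t5 (by rw [rho_of_perp t5, t4, sm_false, add_zero])))
      exact ⟨d, hd, u, cd, d1, hu, cd', d2 t1 m1 n1 s4 (e1 ▸ w3), d2 t2 m2 n2 s5 (e2 ▸ w4)⟩
    obtain ⟨d, hd, u, cd, d1, hu, cd', u1, u2⟩ := k _ x3 y2 rfl rfl
    obtain ⟨d', hd', u', ce, -, hu', ce', u1', u2'⟩ := k _ x4 y4 rfl rfl
    refine ⟨u, (h'.l0_sq q o hd hu cd').1 ((h.l0_sq p l hd x3 cd).2 rfl), u1, u2, fun m => ?_,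
      fun b hb s3 B cb => ?_⟩
    · exact absurd ((h.l0_comm p l hd hd' x3 x4 cd ce).1 ((h'.l0_comm q o hd hd' hu hu' cd' ce').2
        (perp_els u1' (List.forall_mem_singleton.2 u2') m))) (by decide)
    have hb' := (h'.comm _ hb _ s2).1 s3.symm
    have i : ∀ v, B (rho true (π s) (vv 4) v) = rho true (π s) (B (vv 4)) (B v) := fun v => by
      rw [(h.iso cb).rho, h.fix_of_comm cb s1 s3.symm]
    rcases h'.l0_nm q o hd d1 hb s3 with e | e
    · rw [fb_of_rho (h'.pt_ne q) hb' (h'.fix_of_comm cd' hb e)]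
      intro v
      rw [sm_false, rho_zero]
      exact h.ac_ext (h.ac_cj cb cd i) ((cj_of_commute e.symm).symm ▸ cd) v
    · have : fb (π' b) u = true := by
        by_contra k
        have := h'.pi_nm cd' hb
        rw [e, h'.z_mul s2, rho_of_perp hb', add_add_self, Bool.eq_false_iff.2 k, sm_false] at this
        exact h'.pt_ne q this
      rw [this]
      have d5 : cj b d = a * s * d := by rw [← e]; simp [nm, cj, mul_assoc]
      exact h.ac_ext (h.ac_cj cb cd i) (d5 ▸ h.ac_mul (h.ac_mul c (h.ac_mem s1)) cd)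
  obtain ⟨u1, a1, b1, c1, d1, f1⟩ := key t1 m1 n1 (Commute.refl _) c12.symm _ (vv 2) e1 rfl (by decide) rfl rfl rfl
    rfl rfl fun _ => rfl
  obtain ⟨u2, a2, b2, c2, d2, f2⟩ := key t2 m2 n2 c12 (Commute.refl _) _ (vv 1) e2 rfl (by decide) rfl rfl rfl rfl rfl
    (by decide +kernel)
  obtain ⟨u3, a3, b3, c3, d3, f3⟩ := key _ (mul_mem m1 m2) (mul_mem n1 n2) ((Commute.refl _).mul_left c12)
    (c12.symm.mul_left (Commute.refl _)) (vv 3) (vv 1) (by rw [h.mul _ m1 _ m2, e1, e2]; rfl) rfl (by decide) rfl rfl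
    rfl rfl rfl (by decide +kernel)
  have m : u1 + u2 + u3 ∈ els (π' t1) [π' t2] := perp_two (h'.pt_ne q1) ny fun β β1 β2 => by
    obtain ⟨b, hb, rfl⟩ := h'.surj β
    have b1 := ((h'.comm _ hb _ n1).2 β1).symm
    have b2 := ((h'.comm _ hb _ n2).2 β2).symm
    have b3 : Commute z b := (h'.l0_nm q1 o1 (h.symm p1).mem c.1.symm hb b1).elim id fun e =>
      (h'.l0_nm q2 o2 (h.symm p2).mem c.1.symm hb b2).resolve_right fun e' => ne (mul_left_cancel (e'.symm.trans e))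
    obtain ⟨B, cb⟩ := h.exists_ac b3
    rw [fb_add_right, fb_add_right, three _ _ _ _ (f1 b hb b1 B cb) (f2 b hb b2 B cb)
      (f3 b hb (b1.mul_left b2) B cb), Bool.xor_self]
  have s0 : ∀ v ∈ els (π' t1) [π' t2], qb true v = false := q_cons (fun v hv => by
    rcases els_nil.1 hv with rfl | rfl
    exacts [rfl, h'.pt_q q1]) (h'.pt_q q2) ((h'.comm _ n1 _ n2).1 c12.symm) (by simp)
  have s1 : fb u1 u2 = false := by
    have := qb_add true (u1 + u2 + u3) u3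
    rwa [add_add_self', s0 _ m, a3, perp_els b3 (List.forall_mem_singleton.2 c3) m, qb_add, a1, a2, Bool.false_xor,
      Bool.false_xor] at this
  refine no_ts4 (x := π' t1) (a := u2) (b := u1) (c := π' t2) ⟨fun k => (els_cons.1 k).elim d2 fun k => d3 ?_, d1, ny,
    h'.pt_ne q1⟩ (q_cons (q_cons s0 a1 b1 (List.forall_mem_singleton.2 c1)) a2 b2
      (List.forall_mem_cons.2 ⟨s1, List.forall_mem_singleton.2 c2⟩))
  exact add_add_self (u1 + u2) u3 ▸ (sub_els _ _).add _ _ k m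

end Cfsg.Agent.W4
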