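import Mathlib
import Cfsg.Agent.W4.Defs2

/-! Linear algebra for the system `A8` (see `stubs/Cfsg/Agent/W4/PLAN.md`, section T0). -/

set_option autoImplicit false
set_option maxRecDepth 100000
set_option linter.unusedVariables false

namespace Cfsg.Agent.W4.T0K

/-- The two totally singular spaces `⟨e_i⟩` and `⟨f_i⟩`. -/
def Sp (b : Bool) (v : V) : Prop := ∃ i < 16, v = vv (cond b (16 * i) i)

instance (b : Bool) (v : V) : Decidable (Sp b v) := Nat.decidableExistsLT 16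

variable {b b' σ σ' : Bool} {u v w a c : V} {S T : V → V}

theorem sp_zero : ∀ b, Sp b 0 := by decide +kernel

theorem sp_vv (b : Bool) {i : ℕ} (h : i < 16) : Sp b (vv (cond b (16 * i) i)) := ⟨i, h, rfl⟩

theorem Sp.add (h : Sp b u) (k : Sp b v) : Sp b (u + v) := by
  obtain ⟨i, hi, rfl⟩ := h
  obtain ⟨j, hj, rfl⟩ := k
  exact (by decide +kernel : ∀ b, ∀ i < 16, ∀ j < 16,
    Sp b (vv (cond b (16 * i) i) + vv (cond b (16 * j) j))) b i hi j hj

theorem Sp.q (h : Sp b u) : qb false u = false := by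
  obtain ⟨i, hi, rfl⟩ := h
  exact (by decide +kernel : ∀ b, ∀ i < 16, qb false (vv (cond b (16 * i) i)) = false) b i hi

theorem Sp.f (h : Sp b u) (k : Sp b v) : fb u v = false := by
  simpa [qb_add, h.q, k.q] using (h.add k).q

theorem Sp.eq_zero (h : Sp b u) (k : Sp (!b) u) : u = 0 :=
  (by decide +kernel : ∀ b, ∀ u, Sp b u → Sp (!b) u → u = 0) b u h k

theorem o30_iff : ∀ {v : V}, bt O30 v.n = true ↔ v ≠ 0 ∧ ∃ b, Sp b v := by decide +kernel

theorem exists_add (v : V) : ∃ a c, Sp false a ∧ Sp true c ∧ v = a + c :=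
  ⟨_, _, sp_vv false (Nat.mod_lt v.n (by decide)), sp_vv true (Nat.div_lt_of_lt_mul v.lt),
    (by decide +kernel : ∀ v : V, v = vv (v.n % 16) + vv (16 * (v.n / 16))) v⟩

theorem Sp.eq_of_ne (h : Sp b u) (k : Sp b' u) (e : u ≠ 0) : b = b' := by
  by_contra c
  exact e (h.eq_zero (by rwa [← Bool.eq_not.2 (Ne.symm c)]))

theorem Sp.nondeg (h : Sp false u) (k : ∀ w, Sp true w → fb u w = false) : u = 0 := eq_of_fb fun w => by
  obtain ⟨a, c, ha, hc, rfl⟩ := exists_add w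
  rw [fb_zero, fb_add_left, ha.f h, fb_comm, k c hc]; rfl

theorem sp_sep (h1 : Sp false u) (h2 : Sp false v) (h3 : Sp true a) (h4 : Sp true c) (e : u + a = v + c) :
    u = v ∧ a = c := by
  have e1 : u + v = a + c := by rw [add_eq_iff.1 e]; abel_nf; simp [two_zsmul]
  have e2 := (h1.add h2).eq_zero (e1 ▸ h3.add h4)
  exact ⟨add_eq_zero_iff.1 e2, add_eq_zero_iff.1 (e1 ▸ e2)⟩

/-- `T` fixes or interchanges the two spaces. -/
def Sg (σ : Bool) (T : V → V) : Prop := ∀ b v, Sp b v → Sp (b ^^ σ) (T v)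

theorem Sg.comp (h : Sg σ S) (k : Sg σ' T) : Sg (σ ^^ σ') (S ∘ T) := fun b v hv => by
  have := h _ _ (k b v hv)
  rwa [Bool.xor_assoc, Bool.xor_comm σ'] at this

theorem Sg.eq (h : Sg σ T) (h1 : Sp b v) (h2 : Sp b' (T v)) (e : T v ≠ 0) : σ = (b ^^ b') := by
  rw [← (h b v h1).eq_of_ne h2 e]
  cases b <;> simp

theorem sg_id : Sg false id := fun b v h => by simpa using h

theorem e0_ne : vv 1 ≠ 0 := by decide
theorem sp_e0 : Sp false (vv 1) := ⟨1, by decide, rfl⟩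
theorem sp_f0 : Sp true (vv 16) := ⟨1, by decide, rfl⟩

theorem Sg.uniq (i : Iso false T) (h : Sg σ T) (k : Sg σ' T) : σ = σ' := by
  simpa using h.eq sp_e0 (k _ _ sp_e0) (mt i.eq_zero.1 e0_ne)

theorem Sg.of_inner (i : Iso false T) (h : Sg false T) (k : Sp b (T v)) : Sp b v := by
  obtain ⟨a, c, ha, hc, rfl⟩ := exists_add v
  rw [i.add] at k
  cases b
  · rw [i.eq_zero.1 (sp_sep (h _ _ ha) k (h _ _ hc) (sp_zero _) (add_zero _).symm).2, add_zero]; exact ha
  · rw [i.eq_zero.1 (sp_sep (h _ _ ha) (sp_zero _) (h _ _ hc) k (zero_add _).symm).1, zero_add]; exact hc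

theorem exists_sg (i : Iso false T) (h : ∀ v : V, bt O30 v.n = true → bt O30 (T v).n = true) : ∃ σ, Sg σ T := by
  have k0 : ∀ {b v}, Sp b v → v ≠ 0 → ∃ b', Sp b' (T v) := fun hv e => (o30_iff.1 (h _ (o30_iff.2 ⟨e, _, hv⟩))).2
  have k : ∀ {b b' a}, Sp b a → a ≠ 0 → Sp b' (T a) → ∀ v, Sp b v → Sp b' (T v) := fun {b b' a} ha a0 ha' v hv => by
    by_cases e : v = 0
    · rw [e, i.zero]; exact sp_zero _
    by_cases e' : a = v
    · rwa [← e']
    obtain ⟨b1, h1⟩ := k0 hv e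
    obtain ⟨b2, h2⟩ := k0 (ha.add hv) (mt add_eq_zero_iff.1 e')
    rw [i.add] at h2
    by_cases c1 : b1 = b'
    · rwa [← c1]
    by_cases c2 : b2 = b'
    · subst c2
      simpa using ha'.add h2
    rw [Bool.eq_not.2 c1] at h1
    rw [Bool.eq_not.2 c2] at h2
    exact absurd (i.eq_zero.1 (ha'.eq_zero (by simpa using h2.add h1))) a0
  obtain ⟨σ, h1⟩ := k0 sp_e0 e0_ne
  obtain ⟨σ', h2⟩ := k0 sp_f0 (by decide)
  have e : σ' = !σ := Bool.eq_not.2 fun e => by
    have := h1.f (e ▸ h2)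
    rw [i.f] at this
    exact absurd this (by decide)
  refine ⟨σ, fun b v hv => ?_⟩
  cases b
  · simpa using k sp_e0 e0_ne h1 v hv
  · simpa [← e] using k sp_f0 (by decide) h2 v hv

/-- The mixed singular vectors. -/
theorem mix : ∀ x : V, x ≠ 0 → qb false x = false → bt O30 x.n = false → (∃ u < 16, fb (vv u) x = true) ∧
    ∃ a < 16, (fb (vv a) x = false ∧ ∃ y < 16, fb (vv (16 * y)) x = false ∧ fb (vv a) (vv (16 * y)) = true) ∧
    ∃ c < 16, (fb (vv c) x = false ∧ ∃ y < 16, fb (vv (16 * y)) x = false ∧ fb (vv c) (vv (16 * y)) = true) ∧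
      ∃ y < 16, fb (vv (16 * y)) x = false ∧ fb (vv a + vv c) (vv (16 * y)) = true := by decide +kernel

/-! ### An outer involution -/

/-- An outer involution `T` and the subspace `F` of `⟨e_i⟩`. -/
structure Out (T : V → V) (F : V → Prop) : Prop where
  iso : Iso false T
  sq : ∀ v, T (T v) = v
  sg : Sg true T
  le : ∀ v, F v → Sp false v
  add : ∀ u v, F u → F v → F (u + v)
  beta : ∀ u v, F u → F v → u ≠ 0 → v ≠ 0 → u ≠ v → fb u (T v) = true
  alt : ∀ u, F u → u ≠ 0 → ∀ v, Sp false v → fb v (T v) = false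

/-- The inner maps induced by `Q_s`. -/
structure Inn (T : V → V) (F : V → Prop) (S : V → V) : Prop where
  iso : Iso false S
  sg : Sg false S
  comm : ∀ v, S (T v) = T (S v)
  move : ∀ v, Sp false v → fb v (T v) = false → F (v + S v)
  fix : ∀ v, F v → S v = v

theorem fix_out (i : Iso false T) (h : Sg true T) (e : T v = v) : ∃ a, Sp false a ∧ v = a + T a := by
  obtain ⟨a, c, ha, hc, rfl⟩ := exists_add v
  rw [i.add, add_comm] at e
  exact ⟨a, ha, by rw [(sp_sep (h _ _ hc) ha (h _ _ ha) hc e).2]⟩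

variable {F : V → Prop}

theorem Out.symm (h : Out T F) (u v : V) : fb u (T v) = fb v (T u) := by rw [← h.iso.f, h.sq, fb_comm]

theorem Out.nondeg (h : Out T F) (hu : Sp false u) (k : ∀ w, Sp false w → fb w (T u) = false) : u = 0 :=
  hu.nondeg fun w hw => by rw [← h.sq w, h.symm, k _ (h.sg _ _ hw)]

theorem Inn.f (k : Inn T F S) (u v : V) : fb (S u) (T (S v)) = fb u (T v) := by rw [← k.comm, k.iso.f]

theorem Inn.perp (k : Inn T F S) (v : V) (e : S a = a) : fb (v + S v) (T a) = false := by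
  rw [fb_add_left, ← k.f v a, e, Bool.xor_self]

theorem Out.four (h : Out T F) : ∃ a c, ∀ v, F v → v ∈ [0, a, c, a + c] := by
  by_contra! k
  obtain ⟨a, ha, a0⟩ := k 0 0
  obtain ⟨c, hc, c0⟩ := k a 0
  obtain ⟨d, hd, d0⟩ := k a c
  simp only [List.mem_cons, List.not_mem_nil, not_or, add_zero] at a0 c0 d0
  have := h.beta a (c + d) ha (h.add _ _ hc hd) a0.1 (fun e => d0.2.2.1 (add_eq_zero_iff.1 e).symm)
    fun e => d0.2.2.2.1 (by rw [e]; simp [add_comm c d])
  rw [h.iso.add, fb_add_right, h.beta a c ha hc a0.1 c0.1 (Ne.symm c0.2.1),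
    h.beta a d ha hd a0.1 d0.1 (Ne.symm d0.2.1)] at this
  exact absurd this (by decide)

theorem Out.key (h : Out T F) : ∃ v c, Sp false v ∧ v ≠ 0 ∧ ∀ S, Inn T F S →
    (S v = v ∨ S v = v + c) ∧ (S v = v → ∀ w, Sp false w → S w = w) := by
  have fin : ∀ {S : V → V} {v}, v + S v = 0 → S v = v := fun e => (add_eq_zero_iff.1 e).symm
  by_cases h0 : ∃ a, F a ∧ a ≠ 0
  · obtain ⟨a, ha, a0⟩ := h0
    have alt := h.alt a ha a0
    by_cases h1 : ∃ c, F c ∧ c ≠ 0 ∧ c ≠ a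
    · obtain ⟨c, hc, c0, ca⟩ := h1
      have : ∀ S, Inn T F S → ∀ w, Sp false w → S w = w := fun S k w hw => fin (by
        by_contra e
        have h2 := k.move w hw (alt w hw)
        by_cases e' : w + S w = a
        · simpa [k.perp w (k.fix c hc)] using h.beta _ c h2 hc e c0 (e' ▸ ca.symm)
        · simpa [k.perp w (k.fix a ha)] using h.beta _ a h2 ha e a0 e')
      exact ⟨_, 0, sp_e0, e0_ne, fun S k => ⟨.inl (this S k _ sp_e0), fun _ => this S k⟩⟩
    push Not at h1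
    obtain ⟨v, hv, e⟩ : ∃ v, Sp false v ∧ fb v (T a) = true := by
      by_contra! c
      exact a0 (h.nondeg (h.le a ha) fun w hw => by simpa using c w hw)
    refine ⟨v, a, hv, fun c => by simp [c] at e, fun S k => ⟨?_, fun e' w hw => fin ?_⟩⟩
    · by_cases c : v + S v = 0
      · exact .inl (fin c)
      · exact .inr (by rw [← h1 _ (k.move v hv (alt v hv)) c, add_add_self])
    · by_contra c
      have := k.perp w e'
      rw [h1 _ (k.move w hw (alt w hw)) c, h.symm, e] at this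
      exact absurd this (by decide)
  push Not at h0
  have k1 : ∀ S, Inn T F S → ∀ w, Sp false w → fb w (T w) = false → S w = w := fun S k w hw e =>
    fin (h0 _ (k.move w hw e))
  by_cases h1 : ∃ v, Sp false v ∧ fb v (T v) = true
  swap
  · push Not at h1
    exact ⟨_, 0, sp_e0, e0_ne, fun S k => ⟨.inl (k1 S k _ sp_e0 (by simpa using h1 _ sp_e0)),
      fun _ w hw => k1 S k w hw (by simpa using h1 w hw)⟩⟩
  obtain ⟨v, hv, e⟩ := h1
  have k2 : ∀ w, Sp false w → fb w (T w) = true → fb (v + w) (T (v + w)) = false := fun w hw e' => by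
    rw [h.iso.add, fb_add_left, fb_add_right, fb_add_right, e, e', h.symm w v]
    cases fb v (T w) <;> rfl
  have k3 : ∀ a, Sp false a → (∀ w, Sp false w → fb w (T w) = false → fb a (T w) = false) → fb a (T v) = false →
      a = 0 := fun a ha p1 p2 => h.nondeg ha fun w hw => by
    rw [h.symm]
    cases e' : fb w (T w)
    · exact p1 w hw e'
    · simpa [h.iso.add, fb_add_right, p2] using p1 _ (hv.add hw) (k2 w hw e')
  have k4 : ∀ S, Inn T F S → ∀ w, Sp false w → fb w (T w) = false → fb (v + S v) (T w) = false := fun S k w hw e' =>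
    k.perp v (k1 S k w hw e')
  have k5 : ∀ S, Inn T F S → S v = v → ∀ w, Sp false w → S w = w := fun S k e1 w hw => by
    cases e' : fb w (T w)
    · exact k1 S k w hw e'
    · simpa [k.iso.add, e1] using k1 S k _ (hv.add hw) (k2 w hw e')
  by_cases h2 : ∃ S, Inn T F S ∧ S v ≠ v
  swap
  · push Not at h2
    exact ⟨v, 0, hv, fun c => by simp [c] at e, fun S k => ⟨.inl (h2 S k), k5 S k⟩⟩
  obtain ⟨S0, k0, n0⟩ := h2
  have k6 : ∀ S, Inn T F S → S v ≠ v → fb (v + S v) (T v) = true := fun S k n => by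
    by_contra c
    exact n (fin (k3 _ (hv.add (k.sg _ _ hv)) (k4 S k) (by simpa using c)))
  refine ⟨v, v + S0 v, hv, fun c => by simp [c] at e, fun S k => ⟨or_iff_not_imp_left.2 fun n => ?_, k5 S k⟩⟩
  have := k3 (v + S v + (v + S0 v)) ((hv.add (k.sg _ _ hv)).add (hv.add (k0.sg _ _ hv)))
    (fun w hw e' => by rw [fb_add_left, k4 S k w hw e', k4 S0 k0 w hw e']; rfl)
    (by rw [fb_add_left, k6 S k n, k6 S0 k0 n0]; rfl)
  rw [← add_eq_zero_iff.1 this, add_add_self]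

/-! ### Words -/

/-- Words moving the base points. -/
def Wp (b : Bool) : List (List ℕ) := cond b
  [[], [], [3, 0], [0], [4, 1], [1], [3, 1, 0], [1, 0], [5, 2], [2], [3, 2, 0], [2, 0], [4, 2, 1], [2, 1], [3, 2, 1, 0],
    [2, 1, 0]]
  [[], [], [0, 3], [3], [1, 4], [4], [0, 4, 3], [4, 3], [2, 5], [5], [0, 5, 3], [5, 3], [1, 5, 4], [5, 4], [0, 5, 4, 3],
    [5, 4, 3]]

theorem wp_spec : ∀ b, ∀ i < 16, i = 0 ∨
    mx (wm (gn L30) ((Wp b).getD i [])) (vv (cond b 16 1)) = vv (cond b (16 * i) i) := by decide +kernel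

/-- Words along a stabiliser chain. -/
def Ws : List (List (List ℕ)) := [
  [[], [], [0, 3], [0], [1, 4], [1], [1, 0, 3], [1, 0], [2, 5], [2], [2, 0, 3], [2, 0], [2, 1, 4], [2, 1], [2, 1, 0, 3],
    [2, 1, 0]],
  [[], [], [], [3], [1, 3, 1, 0, 4, 0], [1, 0, 4, 3, 1, 0], [3, 1, 3, 1], [1, 3, 1], [2, 3, 2, 0, 5, 0],
    [2, 0, 5, 3, 2, 0], [3, 2, 3, 2], [2, 3, 2], [3, 1, 0, 3, 2, 4, 1, 0], [1, 0, 3, 2, 4, 1, 0], [0, 3, 2, 1, 3, 0],
    [2, 1, 3, 2, 1]],
  [[], [], [], [], [], [4], [4, 0, 4, 0], [0, 4, 0], [2, 4, 2, 1, 5, 1], [2, 1, 5, 4, 2, 1], [2, 4, 2, 1, 0, 5, 1, 0],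
    [2, 1, 4, 0, 5, 2, 1], [4, 2, 4, 2], [2, 4, 2], [4, 2, 0, 4, 2, 0], [2, 0, 4, 2, 0]],
  [[], [], [], [], [], [], [], [], [], [5], [5, 0, 5, 0], [0, 5, 0], [5, 1, 5, 1], [1, 5, 1], [5, 1, 0, 5, 1, 0],
    [1, 0, 5, 1, 0]]]

theorem ws_aux : ∀ k < 4, ∀ i < 16, i < 2 ^ k ∨ frc (tb (wm (gn L30) ((Ws.getD k []).getD i []))) (fun t =>
    allN (fun j => Nat.beq (ap t (16 * j)) (16 * j)) (2 ^ k) && Nat.beq (ap t (16 * i)) (16 * 2 ^ k)) = true := by
  decide +kernel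

theorem ws_spec {k i : ℕ} (hk : k < 4) (hi : i < 16) (h : 2 ^ k ≤ i) : ∃ w, (∀ j < 2 ^ k,
    mx (wm (gn L30) w) (vv (16 * j)) = vv (16 * j)) ∧ mx (wm (gn L30) w) (vv (16 * i)) = vv (16 * 2 ^ k) := by
  have := (ws_aux k hk i hi).resolve_left (by omega)
  rw [frc_eq, Bool.and_eq_true, allN_iff, Nat.beq_eq, ap_tb' _ (by omega)] at this
  refine ⟨_, fun j hj => ?_, this.2 ▸ (vv_n _).symm⟩
  have e := this.1 j hj
  rw [Nat.beq_eq, ap_tb' _ (by omega)] at e
  conv_rhs => rw [← e, vv_n]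

/-- The outer involution. -/
def J : ℕ := 0x408010240801020

theorem iso_J : Iso false (mx J) := iso_mx (by decide +kernel)
theorem J_J : ∀ v, mx J (mx J v) = v := by decide +kernel
theorem sg_J : Sg true (mx J) := (by decide +kernel : ∀ b v, Sp b v → Sp (b ^^ true) (mx J v))
theorem q_J : ∀ v, qb false (v + mx J v) = false := by decide +kernel

theorem split_pow : ∀ k < 4, ∀ j < 16, j < 2 ^ (k + 1) → j < 2 ^ k ∨
    ∃ j' < 2 ^ k, vv (16 * j) = vv (16 * 2 ^ k) + vv (16 * j') := by decide +kernel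

theorem vv_inj : ∀ i < 16, ∀ j < 16, vv (16 * i) = vv (16 * j) → i = j := by decide +kernel

theorem eq_J (i : Iso false T) (h : Sg true T) (k : ∀ j < 2 ^ 4, T (mx J (vv (16 * j))) = vv (16 * j)) (v : V) :
    T v = mx J v := by
  have k1 : ∀ w, Sp true w → T (mx J w) = w := by rintro _ ⟨j, hj, rfl⟩; exact k j hj
  obtain ⟨a, c, ha, hc, rfl⟩ := exists_add v
  rw [i.add, mx_add, ← k1 _ (sg_J _ _ ha), J_J]
  congr 1
  refine add_eq_zero_iff.1 (((h _ _ hc).add (sg_J _ _ hc)).nondeg fun w hw => ?_)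
  rw [fb_add_left, ← iso_J.f (mx J c), J_J, ← i.f c, k1 w hw, Bool.xor_self]

end Cfsg.Agent.W4.T0K
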