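import Mathlib
import Cfsg.Agent.W4.NZ
import Cfsg.Agent.W4.Data
import Cfsg.Agent.W4.T0A

/-! The system `A8` does not occur (see `stubs/Cfsg/Agent/W4/PLAN.md`, section T0). -/

set_option autoImplicit false
set_option linter.unusedVariables false
set_option linter.unusedSectionVars false

namespace Cfsg.Agent.W4

open Cfsg.Agent.Spor Cfsg.Agent.Spor.TT Cfsg.Agent.LX Cfsg.Agent.Gr6 Cfsg.Agent.GT.Tr Cfsg.Agent.W3 Subgroup

variable {G : Type*} [Group G] [Finite G] {z a g s t t0 t1 u : G} {τ : Bool} {π : G → V} {T : V → V} {O : ℕ} {L : List PD}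

namespace T0K

theorem et_base : ∀ b, ∃ d ∈ L30, vv d.x = vv (cond b 16 1) ∧ ∀ v : V, bt d.E v.n = true → Sp b v := by decide +kernel

theorem orb (h : Sy z π t L30) {b : Bool} {v : V} (hv : Sp b v) (v0 : v ≠ 0) : ∃ g r S, Commute z g ∧ Ac z π r S ∧
    Pt z (cj g t) ∧ Sp b (π (cj g t)) ∧ S (π (cj g t)) = v ∧ ∀ u, Et z π (cj g t) u → Sp b u := by
  obtain ⟨d, hd, e1, e2⟩ := et_base b
  obtain ⟨g, hg, p⟩ := h.base d hd
  obtain ⟨i, hi, rfl⟩ := hv
  obtain ⟨r, hr⟩ := h.rl ((Wp b).getD i [])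
  refine ⟨g, r, _, hg, hr, p.pt, ?_, ?_, fun u k => e2 u ((p.et u).1 k)⟩ <;> rw [p.eq, e1]
  · cases b
    exacts [sp_e0, sp_f0]
  · exact (wp_spec b i hi).resolve_left (by rintro rfl; cases b <;> exact v0 rfl)

theorem sign (h : Sy z π t L30) (k : ∀ v, Orb z π t v → bt O30 v.n = true) (c : Ac z π g T) : ∃ σ, Sg σ T :=
  exists_sg (h.co.iso c) fun v hv => by
    obtain ⟨v0, b, hb⟩ := o30_iff.1 hv
    obtain ⟨g', r, S, h1, h2, p, -, rfl, -⟩ := orb h hb v0
    exact k _ ⟨g * r * g', (c.1.mul_right h2.1).mul_right h1, by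
      rw [← cj_cj, (h.co.ac_mul c h2).2 _ p.mem]; rfl⟩

/-- The hypotheses used below. -/
structure Cx (z : G) (π : G → V) : Prop where
  co : Co z false π
  sg : ∀ {g T}, Ac z π g T → ∃ σ, Sg σ T
  et : ∀ {b v}, Sp b v → v ≠ 0 → ∃ s, Pt z s ∧ π s = v ∧ ∀ u, Et z π s u → Sp b u

theorem cx (h : Sy z π t L30) (k : ∀ v, Orb z π t v → bt O30 v.n = true) : Cx z π :=
  ⟨h.co, sign h k, fun {b v} hv v0 => by
    obtain ⟨g, r, S, h1, h2, p, h3, rfl, h4⟩ := orb h hv v0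
    obtain ⟨σ, hσ⟩ := sign h k h2
    obtain rfl : σ = false := by simpa using hσ.eq h3 hv v0
    refine ⟨_, p.cj h.co.bg h2.1, h2.2 _ p.mem, fun u e => ?_⟩
    obtain ⟨u, rfl⟩ := (h.co.iso h2).surj u
    simpa using hσ _ _ (h4 u ((h.co.et_cj h2).1 e))⟩

namespace Cx

variable (h : Cx z π)
include h

theorem sp_of_et (p : Pt z t) {b : Bool} {v : V} (k : Et z π t v) (hv : Sp b v) (v0 : v ≠ 0) : Sp b (π t) := by
  obtain ⟨s, ps, e1, e2⟩ := h.et hv v0
  obtain ⟨e, h1, h2, rfl⟩ := k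
  by_cases c : e = t
  · rwa [← c]
  obtain ⟨π', h'⟩ := h.co.of_isConj p.conj
  have pe := h.co.pt_of_eq ps h1 e1.symm
  exact e2 _ ((h.co.et_of_eq ps h1 e1.symm).1 ⟨t, p.mem, (h'.symm ⟨p.conj.symm.trans pe.conj, h2, c⟩).mem, rfl⟩)

theorem pts (p : Pt z t) : bt O30 (π t).n = true := by
  by_contra c
  have hc := h.co
  have k0 : ∀ {b v}, Et z π t v → Sp b v → v = 0 := fun k hv => by_contra fun v0 =>
    c (o30_iff.2 ⟨hc.pt_ne p, _, h.sp_of_et p k hv v0⟩)
  obtain ⟨⟨u, hu, u1⟩, a, ha, ⟨a1, a2⟩, b, hb, ⟨b1, b2⟩, b3⟩ := mix _ (hc.pt_ne p) (hc.pt_q p) (by simpa using c)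
  have k1 : ∀ T, At z π t T → Sg false T → ∀ w, Sp false w → Et z π t (w + (vv u + T (vv u))) →
      ¬ ∃ y < 16, fb (vv (16 * y)) (π t) = false ∧ fb w (vv (16 * y)) = true := by
    rintro T k s w hw e ⟨y, hy, y1, y2⟩
    have e1 := add_eq_zero_iff.1 (k0 e (hw.add ((sp_vv false hu).add (s _ _ (sp_vv false hu)))))
    have e2 := add_eq_zero_iff.1 (k0 (hc.at_et p k y1) ((sp_vv true hy).add (s _ _ (sp_vv true hy))))
    rw [e1, fb_add_left, ← (hc.at_iso k).f (vv u), ← e2, Bool.xor_self] at y2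
    exact absurd y2 (by decide)
  have k2 : ∀ T, At z π t T → ∃ σ, Sg σ T := fun T ⟨_, _, k⟩ => h.sg k
  obtain ⟨T, t1, t2⟩ := hc.exists_at p a1 u1
  obtain ⟨S, s1, s2⟩ := hc.exists_at p b1 u1
  obtain ⟨_ | _, t3⟩ := k2 T t1
  · exact k1 T t1 t3 _ (sp_vv false ha) t2 a2
  obtain ⟨_ | _, s3⟩ := k2 S s1
  · exact k1 S s1 s3 _ (sp_vv false hb) s2 b2
  refine k1 _ (hc.at_comp t1 s1) (t3.comp s3) _ ((sp_vv false ha).add (sp_vv false hb)) ?_ b3
  have := (hc.sub_et p).add _ _ ((hc.sub_et p).add _ _ t2 s2) (hc.at_et p t1 (v := vv u + S (vv u)) (by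
    rw [fb_add_left, ← (hc.at_iso s1).f (vv u), hc.at_fix p s1, Bool.xor_self]))
  rw [(hc.at_iso t1).add] at this
  convert this using 1
  simp only [Function.comp]
  abel_nf
  simp [two_zsmul, show ∀ v : V, (3 : ℤ) • v = v from fun v => by rw [show (3 : ℤ) = 2 + 1 from rfl, add_zsmul]; simp [two_zsmul]]
  abel

theorem not_fix (p : Pt z t) (k : Sg true T) : T (π t) ≠ π t := fun e => by
  obtain ⟨t0, b, hb⟩ := o30_iff.1 (h.pts p)
  exact t0 (hb.eq_zero (by simpa [e] using k _ _ hb))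

omit h in
theorem card_le (B Q : Subgroup G) (f : B → V) (l : List V) (h1 : ∀ b, f b ∈ l)
    (h2 : ∀ x y : B, f x = f y → (x : G)⁻¹ * y ∈ Q) : Nat.card B ≤ l.length * Nat.card (Q.subgroupOf B) := by
  rw [card_eq_card_quotient_mul_card_subgroup (Q.subgroupOf B)]
  refine Nat.mul_le_mul_right _ ?_
  choose i hi using fun a : B ⧸ Q.subgroupOf B => List.mem_iff_get.1 (h1 a.out)
  simpa using Nat.card_le_card_of_injective i fun x y e => by
    rw [← x.out_eq, ← y.out_eq]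
    exact QuotientGroup.eq.2 (h2 _ _ (by rw [← hi, e, hi]))

/-- No conjugate of `z` is outer. -/
theorem not_out (k1 : IsConj z s) (c : Ac z π s T) (k2 : Sg true T) : False := by
  have hc := h.co
  obtain ⟨π', h'⟩ := hc.of_isConj k1
  have i := hc.iso c
  have sq := hc.ac_ac c (h'.zz ▸ one_mem _)
  have k : Far z s := ⟨k1, c.1, fun e => e0_ne (sp_e0.eq_zero (by
    simpa [hc.ac_ext c (hc.ac_mem e)] using k2 _ _ sp_e0)), fun t p e =>
      h.not_fix p k2 (hc.fix_of_comm c p.mem (h'.bg.comm e))⟩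
  have q1 : ∀ {v}, Sp false v → qb false (v + T v) = fb v (T v) := fun hv => by
    rw [qb_add, hv.q, (k2 _ _ hv).q]; simp
  have q2 : ∀ {v y}, Sp false v → y ∈ QQ z → π y = v + T v → (Commute s y ↔ fb v (T v) = false) :=
    fun {v y} hv hy e => by
      rw [← cj_eq_self_iff, hc.cj_of_range c (.inl h'.zz) hy e, inv_eq_iff_mul_eq_one, hc.sq y hy, e, q1 hv]
  have q3 : ∀ {u v}, Sp false u → Sp false v → u + T u = v + T v → u = v := fun hu hv e =>
    (sp_sep hu hv (k2 _ _ hu) (k2 _ _ hv) e).1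
  have q4 : ∀ {v d}, Sp false v → π d = v + T v → v ≠ 0 → d ≠ 1 := fun hv e v0 e' =>
    v0 (q3 hv (sp_zero _) (by rw [← e, e', hc.one, i.zero, add_zero]))
  have o : Out T fun v => Sp false v ∧ Et z π s (v + T v) :=
    ⟨i, sq, k2, fun _ k => k.1, fun u v ⟨hu, a, a1, a2, a3⟩ ⟨hv, b, b1, b2, b3⟩ => ⟨hu.add hv, a * b, mul_mem a1 b1,
      mul_mem a2 b2, by rw [hc.mul a a1 b b1, a3, b3, i.add, add_add_add_comm]⟩,
    fun u v ⟨hu, a, a1, a2, a3⟩ ⟨hv, b, b1, b2, b3⟩ u0 v0 ne => by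
      have := k.beta hc c a1 a2 (q4 hu a3 u0) b1 b2 (q4 hv b3 v0) (fun e => ne (q3 hu hv (by rw [← a3, e, b3]))) a3 b3
      rwa [b3, fb_add_right, hu.f hv, Bool.false_xor] at this,
    fun u ⟨hu, a, a1, a2, a3⟩ u0 v hv => by
      obtain ⟨y, hy, e⟩ := hc.surj (v + T v)
      exact (q2 hv hy e).1 (k.lam hc c a1 a2 (q4 hu a3 u0) a3 y hy (by rw [e, i.add, sq, add_comm]))⟩
  have inn : ∀ b ∈ QQ s, ∀ S, Ac z π b S → Sg false S → Inn T (fun v => Sp false v ∧ Et z π s (v + T v)) S := by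
    intro b hb S cb sb
    have cm := hc.ac_comm cb c (h'.bg.comm hb).symm
    have j := hc.iso cb
    refine ⟨j, sb, cm, fun v hv e => ⟨hv.add (sb _ _ hv), ?_⟩, fun v ⟨hv, d, d1, d2, d3⟩ => ?_⟩
    · obtain ⟨y, hy, e'⟩ := hc.surj (v + T v)
      obtain ⟨d, d1, d2, d3⟩ := k.move hc hb cb hy ((q2 hv hy e').2 e)
      exact ⟨d, d1, d2, by rw [d3, e', j.add, i.add, cm, add_add_add_comm]⟩
    · refine q3 (sb _ _ hv) hv ?_
      rw [← cm, ← j.add, ← d3]
      rcases (h'.fix_iff (h'.ac_mem hb) d2).1 rfl with e | e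
      · exact (hc.fix_iff cb d1).2 (.inl e)
      · exact absurd (by simpa [e] using mul_mem (hc.cj_mem cb d1) (inv_mem d1)) k.out
  obtain ⟨v, w, hv, v0, key⟩ := o.key
  choose φ hφ using fun b : ↥(QQ s ⊓ centralizer {z}) => hc.exists_ac (Spor.mem_centralizer_singleton.1 b.2.2)
  have c1 := card_le _ (QQ z) (fun b => φ b v) [v, v + w, T v, T (v + w)] (fun b => by
    obtain ⟨_ | _, sb⟩ := h.sg (hφ b)
    · rcases (key _ (inn _ b.2.1 _ (hφ b) sb)).1 with e | e <;> simp [e]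
    · rcases (key _ (inn _ (mul_mem h'.bg.z_mem b.2.1) _ (hc.ac_mul c (hφ b)) (k2.comp sb))).1 with e | e <;>
        rw [← sq (φ b v), show T (φ b v) = _ from e] <;> simp) fun x y e => by
    have e1 : φ (x⁻¹ * y) v = v := (hc.iso (hφ x)).inj ((hc.ac_ext (hc.ac_mul (hφ x) (hφ (x⁻¹ * y)))
      (by simpa using hφ y) v).trans e.symm)
    obtain ⟨σ, sb⟩ := h.sg (hφ (x⁻¹ * y))
    obtain rfl : σ = false := by simpa using sb.eq hv (e1.symm ▸ hv) (e1.symm ▸ v0)
    have j := inn _ (x⁻¹ * y).2.1 _ (hφ _) sb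
    refine hc.mem_of_ac (hφ (x⁻¹ * y)) fun u => ?_
    obtain ⟨a, b, ha, hb, rfl⟩ := exists_add u
    rw [j.iso.add, (key _ j).2 e1 a ha, ← sq b, j.comm, (key _ j).2 e1 _ (k2 _ _ hb)]
  have c2 : ∀ l : List V, (∀ v, Sp false v ∧ Et z π s (v + T v) → v ∈ l) →
      Nat.card ((QQ z).subgroupOf (QQ s ⊓ centralizer {z})) ≤ l.length := fun l hl => by
    have : ∀ x : (QQ z).subgroupOf (QQ s ⊓ centralizer {z}), ∃ n : Fin l.length, π x.1.1 = l.get n + T (l.get n) :=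
      fun x => by
        obtain ⟨a, ha, e⟩ := fix_out i k2 (hc.fix_of_comm c x.2 (h'.bg.comm x.1.2.1))
        obtain ⟨n, rfl⟩ := List.mem_iff_get.1 (hl a ⟨ha, _, x.2, x.1.2.1, e⟩)
        exact ⟨n, e⟩
    choose n hn using this
    simpa using Nat.card_le_card_of_injective n fun x y e => by
      have x1 : x.1.1 ∈ QQ z := x.2
      have y1 : y.1.1 ∈ QQ z := y.2
      have d1 := mul_mem x1 (inv_mem y1)
      have d2 := mul_mem (mem_inf.1 x.1.2).1 (inv_mem (mem_inf.1 y.1.2).1)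
      refine Subtype.ext (Subtype.ext (mul_inv_eq_one.1 ((k.perp hc d1 d2 d1 (h'.bg.comm d2)).2.2 ?_)))
      rw [hc.mul _ x1 _ (inv_mem y1), hc.inv y1, hn, hn, e, add_self]
  obtain ⟨c3, c4⟩ := k.card hc
  simp only [List.length_cons, List.length_nil] at c1
  by_cases e : QQ z ⊓ QQ s = ⊥
  · have := c2 [0] fun v ⟨hv, d, d1, d2, d3⟩ => List.mem_singleton.2 (by_contra fun v0 =>
      q4 hv d3 v0 (mem_bot.1 (e ▸ mem_inf.2 ⟨d1, d2⟩)))
    rw [List.length_singleton] at this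
    omega
  · obtain ⟨a, b, hl⟩ := o.four
    have := c2 _ hl
    have := c4 e
    simp only [List.length_cons, List.length_nil] at *
    omega

theorem exists_J (ir : Irr z π) (rl : ∀ w, Rl z π (wm (gn L30) w)) : ∃ g, Ac z π g (mx J) := by
  have hc := h.co
  have step : ∀ k ≤ 4, ∃ g T, Ac z π g T ∧ Sg true T ∧ ∀ j < 2 ^ k, T (mx J (vv (16 * j))) = vv (16 * j) := by
    intro k hk
    induction k with
    | zero =>
      by_contra! c
      have := ir (Sp false) (sp_zero _) (fun _ _ => Sp.add) fun g T a v hv => by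
        obtain ⟨_ | _, s⟩ := h.sg a
        · exact s _ _ hv
        · obtain ⟨j, hj, e⟩ := c g T a s
          obtain rfl : j = 0 := by omega
          exact absurd (show T (mx J 0) = 0 by rw [mx_zero, (hc.iso a).zero]) e
      exact this.elim (fun e => e0_ne (e _ sp_e0)) fun e => absurd (e (vv 16)) (by decide)
    | succ k ih =>
      obtain ⟨g, T, a, s, e⟩ := ih (by omega)
      have i := hc.iso a
      have l : 2 ^ k ≤ 8 := Nat.pow_le_pow_right two_pos (show k ≤ 3 by omega)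
      have l0 : 0 < 2 ^ k := by positivity
      have h0 : Sp true (vv (16 * 2 ^ k)) := sp_vv true (i := 2 ^ k) (by omega)
      have h1 : Sp false (mx J (vv (16 * 2 ^ k))) := sg_J _ _ h0
      obtain ⟨n, hn, en⟩ := s _ _ h1
      change T (mx J (vv (16 * 2 ^ k))) = vv (16 * n) at en
      obtain ⟨w, w1, w2⟩ := ws_spec (k := k) (by omega) hn (not_lt.1 fun c => by
        have := vv_inj _ (by omega) _ hn (iso_J.inj (i.inj (en.trans (e n c).symm)))
        omega)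
      obtain ⟨r, hr⟩ := rl w
      have a' := hc.ac_mul hr a
      have e1 : (mx (wm (gn L30) w) ∘ T) (mx J (vv (16 * 2 ^ k))) = vv (16 * 2 ^ k) := by rw [Function.comp, en, w2]
      have e2 : ∀ j < 2 ^ k, (mx (wm (gn L30) w) ∘ T) (mx J (vv (16 * j))) = vv (16 * j) := fun j hj => by
        rw [Function.comp, e j hj, w1 j hj]
      obtain ⟨σ, s'⟩ := h.sg a'
      obtain rfl : σ = true := s'.eq (b' := true) h1 (by rwa [e1]) (by
        rw [e1]; exact fun c => by have := vv_inj _ (by omega) 0 (by decide) c; omega)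
      refine ⟨_, _, a', s', fun j hj => ?_⟩
      rcases split_pow k (by omega) j (by omega) hj with c | ⟨j', c, e'⟩
      · exact e2 j c
      · rw [e', mx_add, (hc.iso a').add, e1, e2 j' c]
  obtain ⟨g, T, a, s, e⟩ := step 4 le_rfl
  exact ⟨g, a.congr (eq_J (hc.iso a) s e)⟩

end Cx

end T0K

open T0K

/-- PLAN section T0. -/
theorem Sy.not30 [IsSimpleGroup G] (h : Sy z π t L30) (ir : Irr z π) (k : ∀ v, Orb z π t v → bt O30 v.n = true) :
    False := by
  have x := cx h k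
  have hc := h.co
  have hm : ∀ {x g : G}, g ∈ centralizer ({x} : Set G) ↔ Commute x g := Spor.mem_centralizer_singleton
  choose A hA using fun g : centralizer ({z} : Set G) => hc.exists_ac (hm.1 g.2)
  choose σ hσ using fun g => x.sg (hA g)
  have hσ' : ∀ (g : centralizer ({z} : Set G)) {T b}, Ac z π g T → Sg b T → σ g = b := fun g {T b} c s =>
    (hσ g).uniq (hc.iso (hA g)) (funext (hc.ac_ext c (hA g)) ▸ s)
  let φ : centralizer ({z} : Set G) →* ℤˣ := MonoidHom.mk' (fun g => cond (σ g) (-1) 1) fun a b => by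
    rw [hσ' (a * b) (hc.ac_mul (hA a) (hA b)) ((hσ a).comp (hσ b))]
    cases σ a <;> cases σ b <;> simp
  have h2 : ∀ g : centralizer ({z} : Set G), IsConj z g → σ g = false := fun g c =>
    Bool.eq_false_iff.2 fun e => x.not_out c (hA g) (e ▸ hσ g)
  obtain ⟨g, c⟩ := x.exists_J ir h.rl
  have k1 : g * g ∈ QQ z := hc.mem_of_ac (hc.ac_mul c c) J_J
  obtain ⟨v, -, e⟩ := fix_out iso_J sg_J (hc.fix_of_comm c k1 ((Commute.refl g).mul_right (Commute.refl g)))
  obtain ⟨u, cu, ku⟩ := hc.exists_sq c k1 e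
  have kc : ∀ y ∈ QQ z, ∀ v, π y = v + mx J v → Commute u y := fun y hy v e => by
    rw [← cj_eq_self_iff, hc.cj_of_range cu ku hy e, inv_eq_iff_mul_eq_one, hc.sq y hy, e, q_J]
  have hs : ∀ s, IsConj z s → Commute z s → (∀ y ∈ QQ z, Commute u y → Commute s y) → s = z := by
    intro s k1 k2 k4
    have cs := hA ⟨s, hm.2 k2⟩
    have ss := h2 ⟨s, hm.2 k2⟩ k1 ▸ hσ ⟨s, hm.2 k2⟩
    generalize A ⟨s, hm.2 k2⟩ = S at cs ss
    have k5 : ∀ v, Sp false v → S v = v ∧ S (mx J v) = mx J v := fun v hv => by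
      obtain ⟨y, hy, e⟩ := hc.surj (v + mx J v)
      have := hc.fix_of_comm cs hy (k4 y hy (kc y hy v e))
      rw [e, (hc.iso cs).add] at this
      exact sp_sep (ss _ _ hv) hv (ss _ _ (sg_J _ _ hv)) (sg_J _ _ hv) this
    have k6 : s ∈ QQ z := hc.mem_of_ac cs fun v => by
      obtain ⟨a, b, ha, hb, rfl⟩ := exists_add v
      rw [(hc.iso cs).add, (k5 a ha).1, ← J_J b, (k5 _ (sg_J _ _ hb)).2]
    by_contra k7
    refine x.not_fix ⟨k1, k6, k7⟩ sg_J (eq_of_fb fun w => ?_)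
    obtain ⟨y, hy, e⟩ := hc.surj (w + mx J w)
    have := (hc.comm s k6 y hy).1 (k4 y hy (kc y hy w e))
    rw [e, fb_add_right, ← iso_J.f (π s) (mx J w), J_J, fb_comm _ w, fb_comm _ w] at this
    revert this
    cases fb w (π s) <;> cases fb w (mx J (π s)) <;> decide
  obtain ⟨P, hP⟩ := W3.F.exists_syl hc.bg
  obtain ⟨t, k1, k2, k3⟩ := W3.F.tt4 φ (fun e => P.not_dvd_index (e.trans (index_dvd_of_le hP)))
    (fun a b _ _ ha hb => ((Int.units_eq_one_or a).resolve_left ha).trans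
      ((Int.units_eq_one_or b).resolve_left hb).symm) (y := u)
    (by rw [show 4 = 2 + 2 from rfl, pow_add, pow_two]; rcases ku with e | e <;> simp [e, hc.zz])
    (fun t k => by
      rcases ku with e | e
      · exact (congrArg φ (Subtype.ext (by simp [pow_two, e]))).trans φ.map_one
      · change cond (σ _) (-1) 1 = 1
        rw [h2 _ (isConj_iff.2 ⟨t⁻¹, by simp [pow_two, e]⟩)]; rfl)
    (transfer_eq_one_of_mem_commutator φ (by
      obtain ⟨a, -, b, -, c⟩ := hc.bg.es.nonab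
      rcases IsSimpleGroup.eq_bot_or_eq_top_of_normal (commutator G) inferInstance with e | e <;> rw [e]
      · exact absurd (commutatorElement_eq_one_iff_mul_comm.1 (mem_bot.1
          (e ▸ commutator_mem_commutator (mem_top a) (mem_top b)))) c
      · trivial))
    (C := QQ z ⊓ centralizer {u}) (hc.bg.es.isPGroup.to_le inf_le_left) fun x hx => (hm.1 hx.2).symm
  have k4 : ∀ {x}, t⁻¹ * x * t ∈ centralizer ({z} : Set G) → Commute (cj t z) x := fun {x} k => by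
    simpa [cj, mul_assoc] using (hm.1 k).conj t
  have k5 := cj_eq_self_iff.1 (hs _ (LX.isConj_cj t z) (k4 (k3 z ⟨hc.bg.z_mem, hm.2 cu.1.symm⟩)).symm
    fun y hy k => k4 (k3 y ⟨hy, hm.2 k⟩))
  have k6 : φ ⟨u, hm.2 cu.1⟩ = 1 := by
    rw [← k2, show (⟨_, k1⟩ : centralizer ({z} : Set G)) = ⟨t, hm.2 k5.symm⟩⁻¹ * ⟨u, hm.2 cu.1⟩ * ⟨t, hm.2 k5.symm⟩
      from rfl, map_mul, map_mul, map_inv, mul_comm (φ _)⁻¹, inv_mul_cancel_right]
  change cond (σ _) (-1) 1 = 1 at k6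
  rw [hσ' ⟨u, hm.2 cu.1⟩ cu sg_J] at k6
  exact absurd k6 (by decide)

end Cfsg.Agent.W4
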