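import Mathlib
import Cfsg.Agent.W4.Data

/-! Four systems of points that do not occur. -/

set_option autoImplicit false
set_option maxRecDepth 100000
set_option linter.unusedSectionVars false
set_option linter.unusedVariables false

namespace Cfsg.Agent.W4

open Cfsg.Agent.Spor Cfsg.Agent.Spor.TT Cfsg.Agent.LX Cfsg.Agent.Gr6 Cfsg.Agent.W3 Subgroup

variable {G : Type*} [Group G] [Finite G] {z a g s t t0 t1 u : G} {τ : Bool} {π : G → V} {T : V → V} {O : ℕ} {L : List PD}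

namespace Y3

theorem mul_congr {m n : ℕ} (e : mx m = mx n) (k : ℕ) : mul m k = mul n k := by
  simp only [mul, frc_eq, mm, ap_tb' m (ap_lt k _), ap_tb' n (ap_lt k _), e]

/-- The certificate. -/
structure Cert (d d' : PD) (x S : ℕ) (f u : V) : Prop where
  c1 : fb f (vv d.x) = true
  c2 : fb (vv d'.x) (vv d.x) = false
  c3 : ∀ n ∈ d.els, bt d.E (vv d'.x + (f + mx n f)).n = true → n = x
  c4 : mx x f ≠ f
  c5 : ∀ n ∈ d.els, ∀ n' ∈ d'.els, mul n one = mul n' one → n = one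
  c6 : bt d.E u.n = true
  c7 : bt d'.E u.n = true
  c8 : bt d.E (mx S (mx S u)).n = false
  c9 : mul S x = mul x S
  c10 : allN (fun c => frc (tb x) fun t => !Nat.beq (ap t c) c || anyN (fun w => Nat.beq (Nat.xor w (ap t w)) c) 256) 256 =
    true

theorem Cert.range {d d' : PD} {x S : ℕ} {f u : V} (k : Cert d d' x S f u) {c : V} (e : mx x c = c) :
    ∃ w, c = w + mx x w := by
  have := allN_iff.1 k.c10 _ c.lt
  simp only [frc_eq, ap_tb, e, Nat.beq_refl, Bool.not_true, Bool.false_or, anyN_iff, Nat.beq_eq] at this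
  obtain ⟨w, hw, e⟩ := this
  exact ⟨vv w, V.ext (by rw [← e, ap_tb' x hw, add_n, vv_of_lt hw]; rfl)⟩

/-- An element acting like the involution `y` is conjugate to `y` modulo `z`, if all fixed vectors are commutators. -/
theorem adjust (h : Co z τ π) {y : G} {S : V → V} (c : Ac z π y T) (hy : y * y = 1) (k : Ac z π g S)
    (e : ∀ v, S (T v) = T (S v)) (r : ∀ c, T c = c → ∃ w, c = w + T w) :
    ∃ g, Ac z π g (S ∘ S) ∧ Commute y g := by
  have h1 := h.mul_inv_mem (h.ac_cj k c e) c fun _ => rfl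
  obtain ⟨w, hw⟩ := r (π (cj g y * y⁻¹)) (by
    rw [← c.2 _ h1, ← h.inv h1]
    congr 1
    have : cj g y * cj g y = 1 := by rw [← cj_mul, hy, cj_one_right]
    rw [cj_def y, mul_inv_rev, inv_inv, inv_eq_of_mul_eq_one_right this, mul_assoc, mul_assoc, ← mul_inv_rev, hy,
      inv_one, mul_one])
  obtain ⟨q, hq, rfl⟩ := h.surj w
  have k' : Ac z π (q⁻¹ * g) S := (h.ac_mul (h.ac_mem (inv_mem hq)) k :)
  have h2 : cj q y = nm y q * y := by simp [cj, nm, mul_assoc]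
  refine ⟨_, h.ac_mul k' k', (cj_eq_self_iff.1 ?_).symm⟩
  rcases (h.eq_iff h1 (nm_mem h.bg c.1 hq)).1 (hw.trans (h.pi_nm c hq).symm) with e | e <;>
    rw [mul_inv_eq_iff_eq_mul] at e
  · have : cj (q⁻¹ * g) y = y := by rw [← cj_cj, e, ← h2, cj_inv_cj]
    rw [← cj_cj, this, this]
  · have : cj (q⁻¹ * g) y = z * y := by
      rw [← cj_cj, e, mul_assoc, ← h2, cj_mul, cj_inv_cj, cj_of_commute (h.bg.comm (inv_mem hq)).symm]
    rw [← cj_cj, this, cj_mul, this, cj_of_commute k'.1.symm, ← mul_assoc, h.zz, one_mul]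

theorem main (h : Co z τ π) {m : G} {d d' : PD} {x S : ℕ} {f u : V} (pa : Pd z π a d) (pm : Pd z π m d')
    (hg : Ac z π g (mx S)) (k : Cert d d' x S f u) : False := by
  obtain ⟨b, hb, e1⟩ := h.exists_b pa.pt
  obtain ⟨q, hq, rfl⟩ := h.surj f
  have c1 : fb (π q) (π a) = true := pa.eq ▸ k.c1
  obtain ⟨y1, y2, y3⟩ := h.exists_partner pa.pt pm.pt.mem (by rw [pa.eq, pm.eq]; exact k.c2) hb e1 hq c1
  obtain ⟨n, hn, cn⟩ := pa.exists_ac h y1 y2
  obtain rfl := k.c3 n hn ((pa.et _).1 (by rwa [h.pi_nm cn hq, pm.eq] at y3))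
  obtain ⟨π', h'⟩ := h.of_isConj pa.pt.conj
  have zq := h.bg.comm (inv_mem hq)
  have e2 : cj q⁻¹ a = z * a := h.cj_of_fb (inv_mem hq) pa.pt.mem (by rwa [h.inv hq])
  have e3 : cj (q⁻¹ * b) z = a := by
    rw [← cj_cj, e1, cj_mul, e2, cj_of_commute zq.symm, ← mul_assoc, h.zz, one_mul]
  have e4 : cj (q⁻¹ * b) a = z * a := by rw [← cj_cj, cj_of_commute (h'.bg.comm hb).symm, e2]
  have e5 : cj (q⁻¹ * b)⁻¹ z = z * a := by
    rw [eq_comm, ← cj_eq_iff, cj_mul, e3, e4, (h.bg.comm pa.pt.mem).eq, ← mul_assoc, h'.zz, one_mul]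
  have e6 : cj (q⁻¹ * b)⁻¹ a = z := by rw [← e3, cj_inv_cj]
  have cy : Ac z π (cj (q⁻¹ * b) m) (mx n) := by
    have := h.ac_cj (h.ac_mem (inv_mem hq)) (h.ac_mul (h.ac_mem pm.pt.mem) cn) (S' := mx n) fun _ => rfl
    rwa [mul_inv_cancel_left, cj_cj] at this
  have py : Pt a (cj (q⁻¹ * b) m) := e3 ▸ pm.pt.conj_pt (q⁻¹ * b)
  have e7 : ∀ e ∈ QQ z, e ∈ QQ a → cj (q⁻¹ * b) e ∈ QQ z ∧ (π (cj (q⁻¹ * b) e) = π e ∨ π (cj (q⁻¹ * b) e * a) = π e) :=
    fun e h1 h2 => by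
      have c := h.ac_mem (inv_mem hq)
      have ha := pa.pt.mem
      rw [← cj_cj]
      rcases (h'.fix_iff (h'.ac_mem hb) h2).1 rfl with e | e <;> rw [e]
      · exact ⟨h.cj_mem c h1, .inl (c.2 _ h1)⟩
      · refine ⟨h.cj_mem c (mul_mem ha h1), .inr ?_⟩
        rw [h.mul _ (h.cj_mem c (mul_mem ha h1)) _ ha, c.2 _ (mul_mem ha h1), id, h.mul _ ha _ h1, add_comm,
          add_add_self]
  generalize q⁻¹ * b = r at e3 e4 e5 e6 cy py e7
  have ay := (h'.symm py).mem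
  obtain ⟨π₁, h₁⟩ := h'.of_isConj py.conj
  have yz : cj r m ≠ z := fun e => k.c4 (h.ac_ext cy (h.ac_mem (e ▸ h.bg.z_mem)) _)
  have F1 : ∀ e ∈ QQ z, e ∈ QQ (cj r m) → bt d.E (π e).n = true := fun e h1 h2 => by
    have c : Commute e a := by
      rcases (h.fix_iff (h.ac_mem h1) pa.pt.mem).1 rfl with e' | e'
      · exact cj_eq_self_iff.1 e'
      · exact cj_eq_self_iff.1 (((h₁.fix_iff (h₁.ac_mem h2) ay).1 rfl).resolve_right fun e'' =>
          yz (mul_right_cancel (e''.symm.trans e')))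
    have c' : Commute z (cj r⁻¹ e) := e6 ▸ TT.commute_cj.2 c.symm
    obtain ⟨n1, m1, a1⟩ := (pa.of_eq h (mul_mem h.bg.z_mem pa.pt.mem) (h.z_mul pa.pt.mem)).exists_ac h
      (e5 ▸ cj_mem_QQ.2 h1) c'
    obtain ⟨n2, m2, a2⟩ := pm.exists_ac h (mem_QQ_cj.1 h2) c'
    obtain rfl := k.c5 n1 m1 n2 m2 (mul_congr (funext (h.ac_ext a1 a2)) _)
    exact (pa.et _).1 ⟨e, h1, e3 ▸ mem_QQ_cj.2 (h.mem_of_ac a1 mx_one), rfl⟩
  obtain ⟨e, h1, h2, h3⟩ : ∃ e ∈ QQ z, e ∈ QQ (cj r m) ∧ π e = u := by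
    obtain ⟨e, h1, h2, rfl⟩ := (pa.et u).2 k.c6
    have h3 := cj_mem_QQ (g := r).2 (h.mem_of_et pm.pt h1 ((pm.et _).2 k.c7))
    obtain ⟨h4, h5 | h5⟩ := e7 e h1 h2
    exacts [⟨_, h4, h3, h5⟩, ⟨_, mul_mem h4 pa.pt.mem, mul_mem h3 ay, h5⟩]
  obtain ⟨g', c1, c2⟩ := adjust h cy h₁.zz hg (fun v => by rw [← mx_mul, k.c9, mx_mul]) fun c => k.range
  have := F1 _ (h.cj_mem c1 h1) (h₁.bg.cj_mem c2 h2)
  rw [c1.2 e h1, h3, Function.comp, k.c8] at this
  cases this

theorem kill (h : Sy z π t L) {d : PD} (hd : d ∈ L) (d' : PD) (w w' : List ℕ) (x u : ℕ)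
    (e : trB (wm (gn L) w) d d' = true) (k : Cert d d' x (wm (gn L) w') (vv 16) (vv u)) : False := by
  obtain ⟨_, -, p⟩ := h.base d hd
  obtain ⟨r, hr⟩ := h.rl w
  obtain ⟨g, hg⟩ := h.rl w'
  exact main h.co p (p.cj h.co hr e) hg k

end Y3

theorem Sy.not45 (h : Sy z π t L45) : False :=
  Y3.kill h List.mem_cons_self ⟨44, 0x448800008844000000000000000000000000112200002211, 0x758083820048105,
    0x250081020048005, 0x7003058601284808⟩ [8, 4] [5, 4, 3, 2] 0x8448203008040301 4 (by decide +kernel)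
    (by constructor <;> decide +kernel)

theorem Sy.not45a (h : Sy z π t L45a) : False :=
  Y3.kill h List.mem_cons_self ⟨175, 0x12840000000084120000000021480000000000000000000000004821, 0x1408102040a0410a,
    0x210084020018004, 0x1002148041a0400a⟩ [5, 4, 3] [4, 1] 0x844b24b409040301 11 (by decide +kernel)
    (by constructor <;> decide +kernel)

theorem Sy.not45b (h : Sy z π t L45b) : False :=
  Y3.kill h List.mem_cons_self ⟨45, 0x221100002211000000000000000000000000221100002211, 0xa568201808040e01,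
    0xd51820682829c30c, 0x96eb0d060c041428⟩ [4] [5, 2, 5, 2] 0x8448203008040301 4 (by decide +kernel)
    (by constructor <;> decide +kernel)

theorem Sy.not105 (h : Sy z π t L105) : False :=
  Y3.kill h List.mem_cons_self ⟨111, 0x18240000241800000000000000008142000000000000000000004281, 0x418102060808106,
    0x210184060818006, 0x1002048001204008⟩ [5, 4, 3] [5, 2] 0x8748287808050301 7 (by decide +kernel)
    (by constructor <;> decide +kernel)

end Cfsg.Agent.W4
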