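import Mathlib
import Cfsg.Agent.W4.NZ

/-! Thompson's transfer lemma for an outer involution (see `stubs/Cfsg/Agent/W4/PLAN.md`, section TK). -/

set_option autoImplicit false
set_option linter.unusedVariables false
set_option linter.unusedSectionVars false

namespace Cfsg.Agent.W4

open Cfsg.Agent.Spor Cfsg.Agent.Spor.TT Cfsg.Agent.LX Cfsg.Agent.Gr6 Cfsg.Agent.GT.Tr Cfsg.Agent.W3 Subgroup

variable {G : Type*} [Group G] [Finite G] {z a g s t t0 t1 u : G} {τ : Bool} {π : G → V} {T : V → V} {O : ℕ} {L : List PD}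

namespace TK

/-- An element inducing `T` whose square is central in `Q`. -/
theorem exists_u0 (h : Co z τ π) {r : G} {N : V → V} (c : Ac z π g T) (h3 : ∀ v, T (T v) = v) (cr : Ac z π r N)
    (h5 : ∀ v, N (T v) = T (N v)) (h6 : ∀ v, T v = v → ∀ w, v + N v = w + T w → ∃ w', v = w' + T w') :
    ∃ u, Ac z π u T ∧ (u * u = 1 ∨ u * u = z) := by
  have k1 : g * g ∈ QQ z := h.mem_of_ac (h.ac_mul c c) h3
  have k2 : T (π (g * g)) = π (g * g) := h.fix_of_comm c k1 ((Commute.refl g).mul_right (Commute.refl g))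
  have k3 := h.mul_inv_mem (h.ac_cj cr c h5) c fun _ => rfl
  set q := cj r g * g⁻¹ with hq
  have k4 : cj r (g * g) = q * cj g q * (g * g) := by simp [hq, cj, mul_assoc]
  have k5 := mul_mem k3 (h.cj_mem c k3)
  have k6 : π (g * g) + N (π (g * g)) = π q + T (π q) := by
    rw [← cr.2 _ k1, k4, h.mul _ k5 _ k1, h.mul _ k3 _ (h.cj_mem c k3), c.2 q k3, add_comm, add_add_self']
  obtain ⟨w, e⟩ := h6 _ k2 _ k6
  exact h.exists_sq c k1 e

/-- An element inducing `T` that centralises the preimage of `C ∩ l^⊥`. -/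
theorem exists_u (h : Co z τ π) {l : V} (c : Ac z π u T) (k : u * u = 1 ∨ u * u = z)
    (h7 : ∀ v, fb (v + T v) l = qb τ (v + T v)) : ∃ u, Ac z π u T ∧ (u * u = 1 ∨ u * u = z) ∧
      ∀ y ∈ QQ z, T (π y) = π y → fb (π y) l = false → Commute u y := by
  obtain ⟨l0, e1, e2⟩ := h.exists_lam c k
  have ku : u * u ∈ QQ z := by
    rcases k with e | e <;> rw [e]
    exacts [one_mem _, h.bg.z_mem]
  have ku' : π (u * u) = 0 := (h.ker _ ku).2 k
  have i := h.iso c
  obtain ⟨q, hq, e3⟩ := h.surj (l + l0)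
  have e4 : T (π q) = π q := eq_of_fb fun w => by
    have e := fb_add_right l l0 (w + T w)
    rw [h7, e1, Bool.xor_self, ← e3, fb_add_left, ← i.f (T w), h.ac_ac c ku] at e
    revert e
    cases fb w (π q) <;> cases fb w (T (π q)) <;> decide
  have h1 : q * u * (q * u) = q * cj u q * (u * u) := by simp [cj, mul_assoc]
  have h2 := mul_mem hq (h.cj_mem c hq)
  refine ⟨q * u, (h.ac_mul (h.ac_mem hq) c :), (h.ker _ (h1 ▸ mul_mem h2 ku)).1 ?_, fun y hy f1 f2 => ?_⟩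
  · rw [h1, h.mul _ h2 _ ku, h.mul _ hq _ (h.cj_mem c hq), c.2 q hq, e4, ku', add_self, add_zero]
  have f3 : fb (π q) (π y) = fb (π y) l0 := by rw [fb_comm, e3, fb_add_right, f2, Bool.false_xor]
  cases f4 : fb (π y) l0
  · exact ((h.comm q hq y hy).2 (f3.trans f4)).mul_left ((e2 y hy).2 ⟨f1, f4⟩)
  · have f5 : cj u y = z * y := ((h.fix_iff c hy).1 f1).resolve_left fun e => by
      simpa [f4] using ((e2 y hy).1 (cj_eq_self_iff.1 e)).2
    rw [← cj_eq_self_iff, ← cj_cj, f5, cj_mul, cj_of_commute (h.bg.comm hq).symm, h.cj_of_fb hq hy (f3.trans f4),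
      ← mul_assoc, h.zz, one_mul]

end TK

/-- PLAN section TK: an outer involution `mx m` cannot be induced. -/
theorem Lf.tk [IsSimpleGroup G] (h : Lf z π O L) (hf : Fus z) (φ : centralizer ({z} : Set G) →* ℤˣ)
    (h1 : ∀ g : centralizer ({z} : Set G), (g : G) ∈ QQ z → φ g = 1)
    (h2 : ∀ g : centralizer ({z} : Set G), IsConj z g → φ g = 1)
    {m n : ℕ} {l : V} (h3 : ∀ v, mx m (mx m v) = v) (h4 : Rl z π n) (h5 : ∀ v, mx n (mx m v) = mx m (mx n v))
    (h6 : ∀ v, mx m v = v → ∀ w, v + mx n v = w + mx m w → ∃ w', v = w' + mx m w')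
    (h7 : ∀ v, fb (v + mx m v) l = qb false (v + mx m v))
    (h8 : ∀ v : V, bt O v.n = true → ∃ w, mx m w = w ∧ fb w l = false ∧ fb v w = true)
    (h9 : ∀ t, Pt z t → ∀ S, At z π t S → (∀ v, mx m v = v → fb v l = false → S v = v) → ∀ v, S v = v)
    (g : centralizer ({z} : Set G)) (c : Ac z π g (mx m)) : φ g = 1 := by
  have hc := h.co
  obtain ⟨r, cr⟩ := h4
  obtain ⟨u0, c0, k0⟩ := TK.exists_u0 hc c h3 cr h5 h6
  obtain ⟨u, cu, ku, kc⟩ := TK.exists_u hc c0 k0 h7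
  have hm : ∀ {x g : G}, g ∈ centralizer ({x} : Set G) ↔ Commute x g := Spor.mem_centralizer_singleton
  have hs : ∀ s, IsConj z s → Commute z s → (∀ y ∈ QQ z, Commute u y → Commute s y) → s = z := by
    intro s k1 k2 k4
    have k5 : s ∈ QQ z := by
      rcases hf s k1 k2 with e | ⟨t, p, e⟩
      · exact e
      obtain ⟨S, cs⟩ := hc.exists_ac k2
      refine hc.mem_of_ac cs (h9 t p S ⟨s, e, cs⟩ fun v f1 f2 => ?_)
      obtain ⟨y, hy, rfl⟩ := hc.surj v
      exact hc.fix_of_comm cs hy (k4 y hy (kc y hy f1 f2))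
    by_contra k6
    obtain ⟨w, f1, f2, f3⟩ := h8 _ (h.pts s ⟨k1, k5, k6⟩)
    obtain ⟨y, hy, rfl⟩ := hc.surj w
    simpa [f3] using (hc.comm s k5 y hy).1 (k4 y hy (kc y hy f1 f2))
  obtain ⟨P, hP⟩ := W3.F.exists_syl hc.bg
  obtain ⟨t, k1, k2, k3⟩ := W3.F.tt4 φ (fun e => P.not_dvd_index (e.trans (index_dvd_of_le hP)))
    (fun a b _ _ ha hb => ((Int.units_eq_one_or a).resolve_left ha).trans
      ((Int.units_eq_one_or b).resolve_left hb).symm) (y := u)
    (by rw [show 4 = 2 + 2 from rfl, pow_add, pow_two]; rcases ku with e | e <;> simp [e, hc.zz])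
    (fun t k => by
      rcases ku with e | e
      · exact (congrArg φ (Subtype.ext (by simp [pow_two, e]))).trans φ.map_one
      · exact h2 _ (isConj_iff.2 ⟨t⁻¹, by simp [pow_two, e]⟩))
    (transfer_eq_one_of_mem_commutator φ (by
      obtain ⟨a, -, b, -, c⟩ := hc.bg.es.nonab
      rcases IsSimpleGroup.eq_bot_or_eq_top_of_normal (commutator G) inferInstance with e | e <;> rw [e]
      · exact absurd (commutatorElement_eq_one_iff_mul_comm.1 (mem_bot.1
          (e ▸ commutator_mem_commutator (mem_top a) (mem_top b)))) c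
      · trivial))
    (C := QQ z ⊓ centralizer {u}) (hc.bg.es.isPGroup.to_le inf_le_left) fun x hx => (hm.1 hx.2).symm
  have k4 : ∀ {x}, t⁻¹ * x * t ∈ centralizer ({z} : Set G) → Commute (cj t z) x := fun {x} k => by
    simpa [cj, mul_assoc] using (hm.1 k).conj t
  have k5 := cj_eq_self_iff.1 (hs _ (LX.isConj_cj t z) (k4 (k3 z ⟨hc.bg.z_mem, hm.2 cu.1.symm⟩)).symm
    fun y hy k => k4 (k3 y ⟨hy, hm.2 k⟩))
  have k6 : φ ⟨u, hm.2 cu.1⟩ = 1 := by
    rw [← k2, show (⟨_, k1⟩ : centralizer ({z} : Set G)) = ⟨t, hm.2 k5.symm⟩⁻¹ * ⟨u, hm.2 cu.1⟩ * ⟨t, hm.2 k5.symm⟩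
      from rfl, map_mul, map_mul, map_inv, mul_comm (φ _)⁻¹, inv_mul_cancel_right]
  have k7 := h1 (g * ⟨u, hm.2 cu.1⟩⁻¹) (hc.mul_inv_mem c cu fun _ => rfl)
  rwa [map_mul, map_inv, k6, inv_one, mul_one] at k7

end Cfsg.Agent.W4
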