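import Mathlib

/-! An involution of an alternating group (copy of the permutation part of `L4/Holt`). -/

set_option autoImplicit false
set_option linter.unusedSectionVars false

namespace Cfsg.Agent.W4.GenA

section Perm

open Equiv Equiv.Perm

variable {α : Type*} [DecidableEq α]

theorem swap_cross {a b c d a' b' c' d' : α} (ab : a ≠ b) (ac : a ≠ c) (ad : a ≠ d) (bc : b ≠ c)
    (bd : b ≠ d) (cd : c ≠ d)
    (h : ((a' = a ∧ b' = b) ∨ (a' = b ∧ b' = a)) ∧ ((c' = c ∧ d' = d) ∨ (c' = d ∧ d' = c)) ∨
      ((a' = c ∧ b' = d) ∨ (a' = d ∧ b' = c)) ∧ ((c' = a ∧ d' = b) ∨ (c' = b ∧ d' = a))) :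
    Commute (swap a c * swap b d) (swap a' c' * swap b' d') := by
  rcases h with ⟨⟨rfl, rfl⟩ | ⟨rfl, rfl⟩, ⟨rfl, rfl⟩ | ⟨rfl, rfl⟩⟩ |
    ⟨⟨rfl, rfl⟩ | ⟨rfl, rfl⟩, ⟨rfl, rfl⟩ | ⟨rfl, rfl⟩⟩
  all_goals
    ext x
    simp only [Perm.coe_mul, Function.comp, swap_apply_def] <;> grind

theorem swap_disj {a b c d : α} (ab : a ≠ b) (ad : a ≠ d) (bc : b ≠ c) (cd : c ≠ d) :
    Commute (swap a c) (swap b d) := by
  ext x
  simp only [Perm.coe_mul, Function.comp, swap_apply_def]
  grind

theorem tau_conj {z g : Perm α} (hg : Commute g z) (x : α) :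
    g * swap x (z x) * g⁻¹ = swap (g x) (z (g x)) := by
  rw [← swap_apply_apply, ← mul_apply, hg.eq, mul_apply]

theorem tau_z {z : Perm α} (zz : z * z = 1) (x : α) : Commute (swap x (z x)) z := by
  have h := tau_conj (Commute.refl z) x
  rw [← mul_apply z z, zz, one_apply, swap_comm (z x)] at h
  exact (mul_inv_eq_iff_eq_mul.1 h).symm

theorem tau_tau {z : Perm α} (zz : z * z = 1) (x y : α) :
    Commute (swap x (z x)) (swap y (z y)) := by
  have h := tau_conj (tau_z zz x) y
  have e : ∀ w, z (z w) = w := fun w => by rw [← mul_apply, zz, one_apply]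
  have h2 : swap (swap x (z x) y) (z (swap x (z x) y)) = swap y (z y) := by
    by_cases h1 : y = x
    · rw [h1, swap_apply_left, e, swap_comm]
    · by_cases h2 : y = z x
      · rw [h2, swap_apply_right, e, swap_comm]
      · rw [swap_apply_of_ne_of_ne h1 h2]
  exact mul_inv_eq_iff_eq_mul.1 (h.trans h2)

/-- An even involution `z` commutes with an even involution `y ≠ z` that commutes with all its
conjugates under `C(z)`. -/
theorem exists_y [Fintype α] {z : Perm α} (zz : z * z = 1) (z1 : z ≠ 1) (hs : sign z = 1) :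
    ∃ y : Perm α, sign y = 1 ∧ y * y = 1 ∧ y ≠ 1 ∧ y ≠ z ∧ Commute y z ∧
      ∀ g, Commute g z → Commute y (g * y * g⁻¹) := by
  have e : ∀ w, z (z w) = w := fun w => by rw [← mul_apply, zz, one_apply]
  obtain ⟨a, ha⟩ : ∃ a, z a ≠ a := by
    by_contra hn
    push Not at hn
    exact z1 (Equiv.ext hn)
  obtain ⟨c, hc, ca, cb⟩ : ∃ c, z c ≠ c ∧ c ≠ a ∧ c ≠ z a := by
    by_contra hn
    push Not at hn
    have : z = swap a (z a) := by
      ext x
      by_cases h1 : x = a
      · rw [h1, swap_apply_left]
      · by_cases h2 : x = z a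
        · rw [h2, swap_apply_right, e]
        · rw [swap_apply_of_ne_of_ne h1 h2]
          by_contra h3
          exact h2 (hn x h3 h1)
    rw [this, sign_swap ha.symm] at hs
    exact absurd hs (by decide)
  have da : z c ≠ a := fun h => cb (by rw [← h, e])
  have db : z c ≠ z a := fun h => ca (z.injective h)
  by_cases hy : swap a (z a) * swap c (z c) = z
  · have hsup : ∀ x, z x ≠ x → x = a ∨ x = z a ∨ x = c ∨ x = z c := fun x hx => by
      by_contra hn
      push Not at hn
      refine hx ?_
      rw [← hy, mul_apply, swap_apply_of_ne_of_ne hn.2.2.1 hn.2.2.2,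
        swap_apply_of_ne_of_ne hn.1 hn.2.1]
    have d1 := swap_disj ha.symm da.symm cb.symm hc.symm
    have cj : ∀ g, Commute g z → g * (swap a c * swap (z a) (z c)) * g⁻¹ =
        swap (g a) (g c) * swap (z (g a)) (z (g c)) := fun g hg => by
      rw [← mul_apply z g, ← mul_apply z g, ← hg.eq, mul_apply, mul_apply, swap_apply_apply g,
        swap_apply_apply g]
      group
    refine ⟨swap a c * swap (z a) (z c), ?_, ?_, fun h => ?_, fun h => ?_, ?_, fun g hg => ?_⟩
    · rw [Perm.sign_mul, sign_swap ca.symm, sign_swap db.symm]; decide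
    · rw [← sq, d1.mul_pow, sq, sq, swap_mul_self, swap_mul_self, one_mul]
    · have := congrArg (· a) h
      simp only [mul_apply, swap_apply_of_ne_of_ne ha.symm da.symm, swap_apply_left, one_apply] at this
      exact ca this
    · have := congrArg (· a) h
      simp only [mul_apply, swap_apply_of_ne_of_ne ha.symm da.symm, swap_apply_left] at this
      exact cb this
    · have := cj z (Commute.refl z)
      rw [e, e, ← d1.eq] at this
      exact (mul_inv_eq_iff_eq_mul.1 this).symm
    · rw [cj g hg]
      have m : ∀ x, z x ≠ x → z (g x) ≠ g x := fun x hx h =>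
        hx (g.injective (by rw [← mul_apply, hg.eq, mul_apply, h]))
      have n1 : g c ≠ g a := fun h => ca (g.injective h)
      have n2 : g c ≠ z (g a) := fun h =>
        cb (g.injective (by rw [h, ← mul_apply, ← hg.eq, mul_apply]))
      refine swap_cross ha.symm ca.symm da.symm cb.symm db.symm hc.symm ?_
      have ea := e a
      have ec := e c
      rcases hsup _ (m a ha) with h1 | h1 | h1 | h1 <;> rcases hsup _ (m c hc) with h2 | h2 | h2 | h2 <;>
        simp only [h1, h2, ea, ec, ne_eq, not_true_eq_false, and_self, true_or, or_true] at n1 n2 ⊢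
  · refine ⟨swap a (z a) * swap c (z c), ?_, ?_, fun h => ?_, hy, (tau_z zz a).mul_left (tau_z zz c),
      fun g hg => ?_⟩
    · rw [Perm.sign_mul, sign_swap ha.symm, sign_swap hc.symm]; decide
    · rw [← sq, (tau_tau zz a c).mul_pow, sq, sq, swap_mul_self, swap_mul_self, one_mul]
    · have := congrArg (· a) h
      simp only [mul_apply, swap_apply_of_ne_of_ne ca.symm da.symm, swap_apply_left, one_apply] at this
      exact ha this
    · have : g * (swap a (z a) * swap c (z c)) * g⁻¹ =
          swap (g a) (z (g a)) * swap (g c) (z (g c)) := by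
        rw [← tau_conj hg, ← tau_conj hg]; group
      rw [this]
      exact ((tau_tau zz _ _).mul_right (tau_tau zz _ _)).mul_left
        ((tau_tau zz _ _).mul_right (tau_tau zz _ _))

end Perm

end Cfsg.Agent.W4.GenA
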