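import Mathlib
import Cfsg.Agent.W4.P3D
import Cfsg.Agent.W4.Fus

/-! The fundamental subgroups `K_i = SL₂(3)` of the system `3^4 : 2^3` (see `stubs/Cfsg/Agent/W4/P3.md`). -/

set_option autoImplicit false
set_option linter.unusedVariables false
set_option linter.unusedSectionVars false
set_option maxRecDepth 100000

namespace Cfsg.Agent.W4.P3

open Cfsg.Agent.Spor Cfsg.Agent.Spor.TT Cfsg.Agent.LX Cfsg.Agent.Gr6 Cfsg.Agent.W3 Subgroup

variable {G : Type*} [Group G] [Finite G] {z a b c d f g p q s x y ρ : G} {τ : Bool} {π : G → V} {S : V → V} {i j : Fin 4}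

namespace P3K

/-- A second vector of the plane `i`. -/
def nw (i : Fin 4) : V := mx (th i) (nv i)

theorem vm_iff : ∀ i (v : V), bt (vm i) v.n = true ↔ v = 0 ∨ v = nv i ∨ v = nw i ∨ v = nv i + nw i := by
  decide +kernel

theorem vm_perp : ∀ i (u : V), bt (vm i) u.n = true ↔ ∀ v : V, bt (pm i) v.n = true → fb v u = false := by
  decide +kernel

theorem pm_perp : ∀ i (u : V), bt (pm i) u.n = true ↔ ∀ v : V, bt (vm i) v.n = true → fb u v = false := by
  decide +kernel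

theorem vm_pm : ∀ i j, i ≠ j → ∀ v : V, bt (vm i) v.n = true →
    bt (pm j) v.n = true ∧ (bt (vm j) v.n = true → v = 0) := by decide +kernel

theorem nv_facts : ∀ i, nv i ≠ 0 ∧ nw i ≠ 0 ∧ nv i ≠ nw i ∧ mx (th i) (nw i) = nv i + nw i ∧
    mx (pw3 (th i) 2) (nv i) = nv i + nw i ∧ mx (pw3 (th i) 2) (nw i) = nv i ∧ qb false (nv i) = true ∧
      (∃ v, nv i = v + mx t81 v) ∧ bt (pm i) (0 : V).n = true := by decide +kernel

theorem th_facts : ∀ i (v : V), mx (th i) (mx (th i) (mx (th i) v)) = v ∧ (bt (pm i) v.n = true → mx (th i) v = v) ∧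
    bt (vm i) (mx t81 v).n = bt (vm i) v.n ∧ mx t81 (mx (th i) v) = mx (th i) (mx (th i) (mx t81 v)) ∧
      (bt (vm i) v.n = true → mx (th i) (mx t81 v) = v → v = 0 ∨ v = nv i + nw i) ∧
        (bt O81 v.n = true → mx (th i) v ≠ v ∧ mx (mul (th i) (th i)) v ≠ v) := by decide +kernel

theorem th_th : ∀ i j (v : V), mx (th i) (mx (th j) v) = mx (th j) (mx (th i) v) ∧
    bt (vm j) (mx (th i) v).n = bt (vm j) v.n := by decide +kernel

theorem dec : ∀ v : V, v = sm (fb v (nw 0)) (nv 0) + sm (fb v (nv 0)) (nw 0) + sm (fb v (nw 1)) (nv 1) +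
    sm (fb v (nv 1)) (nw 1) + sm (fb v (nw 2)) (nv 2) + sm (fb v (nv 2)) (nw 2) + sm (fb v (nw 3)) (nv 3) +
      sm (fb v (nv 3)) (nw 3) := by decide +kernel

theorem bm_facts : ∀ e < 81, ∀ i : Fin 4, mx (pw3 (th i) (e / 3 ^ i.1 % 3)) (nv i) = mx (bm e) (nv i) ∧
    mx (pw3 (th i) (e / 3 ^ i.1 % 3)) (nw i) = mx (bm e) (nw i) := by decide +kernel

theorem els_facts : ∀ m ∈ d81.els, ∀ j, m = one ∨ (∃ v, mx m (mx (th j) v) ≠ mx (th j) (mx m v)) ∧
    ∃ v, mx m (mx (mul (th j) (th j)) v) ≠ mx (mul (th j) (th j)) (mx m v) := by decide +kernel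

theorem w_facts : ∀ v : V, bt O81 v.n = true → ∃ p ∈ W81, vv p.1 = v ∧ mx (wm (gn L81) p.2) (vv 1) = v := by
  decide +kernel

theorem n_facts : ∀ n ∈ N81, mx n (vv 1) = vv 1 ∧ ∀ i, ∃ j, bt (vm j) (mx n (nv i)).n = true ∧
    bt (vm j) (mx n (nw i)).n = true := by decide +kernel

theorem g_facts : ∀ k < 6, ∀ i, ∃ j, bt (vm j) (mx (gn L81 k) (nv i)).n = true ∧
    bt (vm j) (mx (gn L81 k) (nw i)).n = true := by decide +kernel

theorem wn_facts : ∀ p ∈ W81, ∀ i, bt (vm i) (mx (wm (gn L81) p.2) (vv 1) + vv 1).n = true → ∀ n ∈ N81,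
    (∀ j, j ≠ i → mx (mul (wm (gn L81) p.2) n) (nv j) = nv j ∧ mx (mul (wm (gn L81) p.2) n) (nw j) = nw j) →
      mul (wm (gn L81) p.2) n ∈ [one, th i, mul (th i) (th i)] := by decide +kernel

theorem mem_K : g ∈ Kf z π i ↔ ∀ r ∈ QQ z, bt (pm i) (π r).n = true → Commute r g :=
  mem_centralizer_iff.trans ⟨fun k r a b => k r ⟨a, b⟩, fun k r a => k r a.1 a.2⟩

theorem ext (k : Iso τ S) {m : ℕ} (e : ∀ i, S (nv i) = mx m (nv i) ∧ S (nw i) = mx m (nw i)) : S = mx m :=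
  funext fun v => by
    rw [dec v]
    simp only [k.add, k.sm, mx_add, mx_sm, e]

theorem vm_add {u v : V} (hu : bt (vm i) u.n = true) (hv : bt (vm i) v.n = true) : bt (vm i) (u + v).n = true :=
  (vm_perp _ _).2 fun w hw => by rw [fb_add_right, (vm_perp _ _).1 hu w hw, (vm_perp _ _).1 hv w hw]; rfl

theorem vm_nv (i : Fin 4) : bt (vm i) (nv i).n = true := (vm_iff _ _).2 (.inr (.inl rfl))
theorem vm_nw (i : Fin 4) : bt (vm i) (nw i).n = true := (vm_iff _ _).2 (.inr (.inr (.inl rfl)))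

/-- The map `S` moves every plane into a plane. -/
def Pl (S : V → V) : Prop := ∀ i, ∃ j, ∀ v : V, bt (vm i) v.n = true → bt (vm j) (S v).n = true

theorem pl_mx {m : ℕ} (k : ∀ i, ∃ j, bt (vm j) (mx m (nv i)).n = true ∧ bt (vm j) (mx m (nw i)).n = true) :
    Pl (mx m) := fun i => by
  obtain ⟨j, h1, h2⟩ := k i
  refine ⟨j, fun v hv => ?_⟩
  rcases (vm_iff _ _).1 hv with rfl | rfl | rfl | rfl
  exacts [(vm_iff _ _).2 (.inl (mx_zero m)), h1, h2, mx_add m _ _ ▸ vm_add h1 h2]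

theorem pl_one : Pl (mx one) := fun i => ⟨i, fun v hv => by rwa [mx_one]⟩

theorem pl_mul {m n : ℕ} (k : Pl (mx m)) (k' : Pl (mx n)) : Pl (mx (mul m n)) := fun i =>
  let ⟨j, h1⟩ := k' i; let ⟨l, h2⟩ := k j; ⟨l, fun v hv => by rw [mx_mul]; exact h2 _ (h1 v hv)⟩

theorem pl_wm (w : List ℕ) : Pl (mx (wm (gn L81) w)) := by
  induction w with
  | nil => exact pl_one
  | cons k w ih =>
    refine pl_mul ?_ ih
    by_cases e : k < 6
    · exact pl_mx (g_facts k e)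
    · rw [gn, List.getD_eq_default _ _ (not_lt.1 e)]
      exact pl_one

theorem pl (h : Lf z π O81 L81) (c : Ac z π g S) : Pl S := by
  obtain ⟨p, -, n, hn, rfl⟩ := h.bound81 g S c
  exact pl_mul (pl_wm _) (pl_mx (n_facts n hn).2)

theorem four (h : Co z τ π) (hq : q ∈ QQ z) : q ^ 4 = 1 := by
  rw [show q ^ 4 = q * q * (q * q) by simp only [pow_succ, pow_zero, one_mul, mul_assoc]]
  rcases h.bg.es.sq q hq with e | e <;> simp [e, h.zz]

theorem eq_one (h : Co z τ π) (hq : q ∈ QQ z) (q3 : q ^ 3 = 1) : q = 1 := by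
  have := four h hq
  rwa [pow_succ, q3, one_mul] at this

theorem ne_z_mul (h : Co z τ π) (c : Commute z y) (x3 : x ^ 3 = 1) (y3 : y ^ 3 = 1) : x ≠ z * y := fun e => by
  rw [e, c.mul_pow, y3, mul_one, pow_succ, pow_two, h.zz, one_mul] at x3
  exact h.bg.ne_one x3

theorem ac_pow (h : Co z τ π) (c : Ac z π g S) (n : ℕ) : Ac z π (g ^ n) S^[n] := by
  induction n with
  | zero => simpa using h.ac_mem (one_mem _)
  | succ n ih => rw [pow_succ]; exact h.ac_mul ih c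

theorem pow_four (h : Co z τ π) (c : Ac z π g (mx (th i))) : Ac z π (g ^ 4) (mx (th i)) ∧ (g ^ 4) ^ 3 = 1 :=
  ⟨(ac_pow h c 4).congr fun v => (th_facts i _).1, by
    rw [← pow_mul, mul_comm, pow_mul]
    exact four h (h.mem_of_ac (ac_pow h c 3) fun v => (th_facts i _).1)⟩

end P3K

open P3K

theorem k0 (h : Co z τ π) (hg : g ∈ Kf z π i) : Commute z g :=
  mem_K.1 hg z h.bg.z_mem (h.self ▸ (nv_facts i).2.2.2.2.2.2.2.2)

theorem k1 (h : Lf z π O81 L81) (hg : g ∈ Kf z π i) :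
    Ac z π g id ∨ Ac z π g (mx (th i)) ∨ Ac z π g (mx (mul (th i) (th i))) := by
  obtain ⟨S, c⟩ := h.co.exists_ac (k0 h.co hg)
  have fx : ∀ v : V, bt (pm i) v.n = true → S v = v := fun v hv => by
    obtain ⟨r, hr, rfl⟩ := h.co.surj v
    exact h.co.fix_of_comm c hr (mem_K.1 hg r hr hv).symm
  have e0 : bt (vm i) (S (vv 1) + vv 1).n = true := (vm_perp _ _).2 fun v hv => by
    rw [fb_add_right, ← (h.co.iso c).f v (vv 1), fx v hv, Bool.xor_self]
  obtain ⟨p, hp, n, hn, rfl⟩ := h.bound81 g S c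
  rw [mx_mul, (n_facts n hn).1] at e0
  have := wn_facts p hp i e0 n hn fun j e => ⟨fx _ (vm_pm j i e _ (vm_nv j)).1, fx _ (vm_pm j i e _ (vm_nw j)).1⟩
  simp only [List.mem_cons, List.not_mem_nil, or_false] at this
  rcases this with e | e | e <;> rw [e] at c
  exacts [.inl (c.congr mx_one), .inr (.inl c), .inr (.inr c)]

theorem k2 (h : Co z τ π) (c : Ac z π g S) (g3 : g ^ 3 = 1) (e : ∀ v, bt (pm i) v.n = true → S v = v) :
    g ∈ Kf z π i := mem_K.2 fun r hr hv => by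
  rcases (h.fix_iff c hr).1 (e _ hv) with k | k
  · exact (cj_eq_self_iff.1 k).symm
  · have : cj (g * g) r = r := by rw [← cj_cj, k, cj_mul, k, cj_of_commute c.1.symm, ← mul_assoc, h.zz, one_mul]
    have := (cj_eq_self_iff.1 this).symm.pow_right 2
    rwa [show (g * g) ^ 2 = g ^ 3 * g by simp only [pow_succ, pow_zero, one_mul, mul_assoc], g3, one_mul] at this

theorem k3 (h : Co z τ π) (hq : q ∈ QQ z) : q ∈ Kf z π i ↔ bt (vm i) (π q).n = true := by
  rw [mem_K, vm_perp]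
  refine ⟨fun k v hv => ?_, fun k r hr hv => (h.comm r hr q hq).2 (k _ hv)⟩
  obtain ⟨r, hr, rfl⟩ := h.surj v
  exact (h.comm r hr q hq).1 (k r hr hv)

theorem k4' (h : Co z τ π) (c : Ac z π g S) (e : ∀ v, bt (vm j) (S v).n = bt (vm i) v.n) :
    cj g x ∈ Kf z π j ↔ x ∈ Kf z π i := by
  have e' : ∀ v, bt (pm j) (S v).n = true ↔ bt (pm i) v.n = true := fun v => by
    simp only [pm_perp, (h.iso c).surj.forall (p := fun u => bt (vm j) u.n = true → fb (S v) u = false), e,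
      (h.iso c).f]
  rw [mem_K, mem_K]
  refine ⟨fun k r hr hv => TT.commute_cj.1 (k _ (h.cj_mem c hr) (by rwa [c.2 r hr, e'])), fun k r hr hv => ?_⟩
  have hr' := h.bg.cj_mem c.1.inv_right hr
  exact commute_cj_right.2 (k _ hr' (by rwa [← e', ← c.2 _ hr', cj_cj_inv]))

theorem k4 (h : Lf z π O81 L81) (c : Ac z π g S) :
    ∃ σ : Equiv.Perm (Fin 4), ∀ i v, bt (vm (σ i)) (S v).n = bt (vm i) v.n := by
  obtain ⟨S', c'⟩ := h.co.exists_ac c.1.inv_right
  have e : ∀ v, S' (S v) = v := h.co.ac_ext (T := id) (h.co.ac_mul c' c) (by simpa using h.co.ac_mem (one_mem _))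
  choose f hf using pl h c
  choose f' hf' using pl h c'
  have k : ∀ i, f' (f i) = i := fun i => by
    by_contra k
    exact (nv_facts i).1 ((vm_pm i _ (Ne.symm k) _ (vm_nv i)).2 (e (nv i) ▸ hf' _ _ (hf _ _ (vm_nv i))))
  refine ⟨Equiv.ofBijective f (Finite.injective_iff_bijective.1 (Function.LeftInverse.injective k)), fun i v => ?_⟩
  exact Bool.eq_iff_iff.2 ⟨fun a => by simpa only [k, e] using hf' (f i) _ a, hf i v⟩

namespace P3K

theorem exists_th (h : Lf z π O81 L81) (i : Fin 4) : ∃ a ∈ Kf z π i, a ^ 3 = 1 ∧ Ac z π a (mx (th i)) := by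
  obtain ⟨g, c⟩ := h.rl (thw i)
  rw [th_eq] at c
  obtain ⟨c, g3⟩ := pow_four h.co c
  exact ⟨_, k2 h.co c g3 fun v => (th_facts i v).2.1, g3, c⟩

theorem exists_q (h : Lf z π O81 L81) (ha : a ∈ Kf z π i) (c : Ac z π a (mx (th i))) (hx : x ∈ Kf z π i) :
    ∃ q ∈ QQ z, bt (vm i) (π q).n = true ∧ ∃ k : ℕ, x = q * a ^ k := by
  have k : ∀ k : ℕ, x * (a ^ k)⁻¹ ∈ QQ z → ∃ q ∈ QQ z, bt (vm i) (π q).n = true ∧ ∃ k : ℕ, x = q * a ^ k :=
    fun k e => ⟨_, e, (k3 h.co e).1 (mul_mem hx (inv_mem (pow_mem ha k))), k, by simp⟩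
  rcases k1 h hx with e | e | e
  exacts [k 0 (h.co.mul_inv_mem e (ac_pow h.co c 0) fun _ => rfl), k 1 (h.co.mul_inv_mem e (ac_pow h.co c 1) fun _ => rfl),
    k 2 (h.co.mul_inv_mem e (ac_pow h.co c 2) (mx_mul _ _))]

theorem ac_three (h : Lf z π O81 L81) (ha : a ∈ Kf z π i) (a3 : a ^ 3 = 1) (a1 : a ≠ 1) :
    Ac z π a (mx (th i)) ∨ Ac z π a (mx (mul (th i) (th i))) :=
  (k1 h ha).resolve_left fun c => a1 (eq_one h.co (h.co.mem_of_ac c fun _ => rfl) a3)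

theorem k7a (h : Lf z π O81 L81) (ha : a ∈ Kf z π i) (a3 : a ^ 3 = 1) (a1 : a ≠ 1) (t : Pd z π p d81) (hs : s ∈ QQ p)
    (c : Commute z s) (c' : Commute a s) : s ∈ QQ z := by
  obtain ⟨m, hm, e⟩ := t.exists_ac h.co hs c
  rcases els_facts m hm i with rfl | ⟨⟨u, hu⟩, v, hv⟩
  · exact h.co.mem_of_ac e mx_one
  · rcases ac_three h ha a3 a1 with k | k
    exacts [absurd (h.co.ac_comm e k c'.symm u) hu, absurd (h.co.ac_comm e k c'.symm v) hv]

end P3K

theorem k5 (h : Lf z π O81 L81) (ij : i ≠ j) (hx : x ∈ Kf z π i) (hy : y ∈ Kf z π j) : Commute x y := by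
  obtain ⟨a, ha, a3, ca⟩ := exists_th h i
  obtain ⟨b, hb, b3, cb⟩ := exists_th h j
  obtain ⟨q, q1, q2, k, rfl⟩ := exists_q h ha ca hx
  refine (mem_K.1 hy q q1 (vm_pm i j ij _ q2).1).mul_left (Commute.pow_left ?_ k)
  obtain ⟨r, r1, r2, l, rfl⟩ := exists_q h hb cb hy
  refine (mem_K.1 ha r r1 (vm_pm j i ij.symm _ r2).1).symm.mul_right (Commute.pow_right ?_ l)
  have e := h.co.mul_inv_mem (h.co.ac_cj ca cb fun v => (th_th i j v).1) cb fun _ => rfl
  have e1 := (k3 h.co e).1 (mul_mem ((k4' h.co ca fun v => (th_th i j v).2).2 hb) (inv_mem hb))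
  have e2 := (k3 (i := i) h.co e).1 (by
    rw [show cj a b * b⁻¹ = a * cj b a⁻¹ by simp [cj, mul_assoc]]
    exact mul_mem ha ((k4' h.co cb fun v => (th_th j i v).2).2 (inv_mem ha)))
  rcases (h.co.ker _ e).1 ((vm_pm i j ij _ e2).2 e1) with k | k
  · exact cj_eq_self_iff.1 (mul_inv_eq_one.1 k)
  · exact absurd (mul_inv_eq_iff_eq_mul.1 k) (ne_z_mul h.co cb.1 (by rw [← cj_pow, b3, cj_one_right]) b3)

theorem k6 (h : Lf z π O81 L81) (c : Ac z π s (mx t81)) (ss : s * s = 1) (i : Fin 4) :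
    ∃ a b, Lt z s (Kf z π i) a b ∧ a * b * a ∈ QQ z ∧ π (a * b * a) = nv i := by
  have o := h.co
  obtain ⟨t, ht, -, ct⟩ := exists_th h i
  have c1 : Ac z π (cj s t⁻¹) (mx (th i)) := o.ac_cj c (o.ac_inv (S := fun v => mx (th i) (mx (th i) v)) ct
    fun v => (th_facts i v).1) fun v => by rw [(th_facts i _).2.2.2.1, (th_facts i _).2.2.2.1, (th_facts i _).1]
  have c2 : Ac z π (cj s t⁻¹ * t)⁻¹ (mx (th i)) := o.ac_inv (o.ac_mul c1 ct) fun v => (th_facts i v).1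
  obtain ⟨a, ha, a3, ca, sa⟩ : ∃ a ∈ Kf z π i, a ^ 3 = 1 ∧ Ac z π a (mx (th i)) ∧ cj s a = a⁻¹ := by
    refine ⟨_, k2 o (pow_four o c2).1 (pow_four o c2).2 fun v => (th_facts i v).2.1, (pow_four o c2).2,
      (pow_four o c2).1, ?_⟩
    rw [cj_pow, ← inv_pow, cj_inv, cj_mul, cj_cj, ss, cj_one, cj_inv, mul_inv_rev, inv_inv, inv_inv]
  obtain ⟨n, hn, en⟩ := o.surj (nv i)
  obtain ⟨-, -, -, f1, -, -, f2, ⟨u, f3⟩, -⟩ := nv_facts i
  have nn : n * n = z := (o.sq' hn).2 (en ▸ f2)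
  have sn : cj s n = n⁻¹ := o.cj_of_range c (.inl ss) hn (en.trans f3)
  have na : cj n (cj n a) = a := by rw [cj_cj, nn, cj_of_commute ca.1]
  have n1 := o.cj_mem ca hn
  have n2 := o.cj_mem ca (o.cj_mem ca (inv_mem hn))
  have e : a * cj n a * a = cj a n * cj a (cj a n⁻¹) := by
    rw [← mul_one (cj a n * _), ← a3]
    simp only [cj]
    group
  have m1 : a * cj n a * a ∈ QQ z := e ▸ mul_mem n1 n2
  have m2 : π (a * cj n a * a) = nv i := by
    rw [e, o.mul _ n1 _ n2, ca.2 _ (o.cj_mem ca (inv_mem hn)), ca.2 _ (inv_mem hn), ca.2 _ hn, o.inv hn, en]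
    change nw i + mx (th i) (nw i) = _
    rw [f1, add_comm, add_add_self']
  have hb : cj n a ∈ Kf z π i := cj_mem_of_mem ((k3 o hn).2 (en ▸ vm_nv i)) ha
  have b3 : cj n a ^ 3 = 1 := by rw [← cj_pow, a3, cj_one_right]
  have mm := (o.sq' m1).2 (m2 ▸ f2)
  have sb : cj s (cj n a) = (cj n a)⁻¹ := by rw [cj_dist, sn, sa, cj_inv, inv_inj, cj_eq_iff, inv_inv, na]
  have uq : ∀ x ∈ Kf z π i, x ^ 3 = 1 → cj s x = x⁻¹ → Ac z π x (mx (th i)) → x = a ∨ x = cj n a := by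
    intro x hx x3 sx cx
    have q1 := o.mul_inv_mem cx ca fun _ => rfl
    have q2 : cj a⁻¹ (x * a⁻¹)⁻¹ = cj s (x * a⁻¹) := by
      rw [cj_mul, cj_inv s, sx, sa]
      simp [cj]
    have q3 : cj n a * a⁻¹ = n * cj a n⁻¹ := by simp [cj, mul_assoc]
    have q4 := o.cj_mem ca (inv_mem hn)
    rcases (th_facts i _).2.2.2.2.1 ((k3 o q1).1 (mul_mem hx (inv_mem ha))) (by
      rw [← c.2 _ q1, ← ca.2 _ (o.cj_mem c q1), ← q2, cj_cj_inv, o.inv q1]) with k | k
    · rcases (o.ker _ q1).1 k with k | k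
      · exact .inl (mul_inv_eq_one.1 k)
      · exact absurd (mul_inv_eq_iff_eq_mul.1 k) (ne_z_mul o ca.1 x3 a3)
    · rcases (o.eq_iff q1 (q3 ▸ mul_mem hn q4 : cj n a * a⁻¹ ∈ QQ z)).1 (by
        rw [k, q3, o.mul _ hn _ q4, ca.2 _ (inv_mem hn), o.inv hn, en, nw]) with k | k
      · exact .inr (mul_right_cancel k)
      · exact absurd (mul_right_cancel (k.trans (mul_assoc _ _ _).symm)) (ne_z_mul o (k0 o hb) x3 b3)
  refine ⟨a, cj n a, ⟨a3, b3, ?_, mm, sa, sb, le_antisymm (fun x hx => ?_) ((closure_le _).2 ?_), fun x hx x3 sx => ?_⟩,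
    m1, m2⟩
  · have := cj_of_commute ((o.comm n hn _ m1).2 (by rw [m2, en, fb_self]))
    rw [cj_mul, cj_mul, na] at this
    exact this.symm
  · obtain ⟨q, q1, q2, k, rfl⟩ := exists_q h ha ca hx
    have a1 : a ∈ closure {a, cj n a} := subset_closure (.inl rfl)
    have a2 := mul_mem (mul_mem a1 (subset_closure (.inr rfl) : cj n a ∈ closure {a, cj n a})) a1
    have a4 := cj_mem_of_mem a1 a2
    have m3 := o.cj_mem ca m1
    have m4 : π (cj a (a * cj n a * a)) = nw i := by rw [ca.2 _ m1, m2, nw]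
    have k : ∀ r ∈ QQ z, r ∈ closure {a, cj n a} → π q = π r → q ∈ closure {a, cj n a} := fun r r1 r2 e => by
      rcases (o.eq_iff q1 r1).1 e with rfl | rfl
      exacts [r2, mul_mem (mm ▸ mul_mem a2 a2) r2]
    refine mul_mem ?_ (pow_mem a1 _)
    rcases (vm_iff _ _).1 q2 with e | e | e | e
    exacts [k 1 (one_mem _) (one_mem _) (e.trans o.one.symm), k _ m1 a2 (e.trans m2.symm), k _ m3 a4 (e.trans m4.symm),
      k _ (mul_mem m1 m3) (mul_mem a2 a4) (by rw [e, o.mul _ m1 _ m3, m2, m4])]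
  · rintro _ (rfl | rfl)
    exacts [ha, hb]
  · by_cases x1 : x = 1
    · exact .inl x1
    rcases ac_three h hx x3 x1 with k | k
    · exact .inr ((uq x hx x3 sx k).imp_right fun e => .inr (.inl e))
    · rcases uq x⁻¹ (inv_mem hx) (by rw [inv_pow, x3, inv_one]) (by rw [cj_inv, sx])
        (o.ac_inv k fun v => by rw [mx_mul, (th_facts i v).1]) with e | e <;> rw [inv_eq_iff_eq_inv] at e
      exacts [.inr (.inr (.inl e)), .inr (.inr (.inr (.inr e)))]

theorem k7 (h : Lf z π O81 L81) (ha : a ∈ Kf z π i) (a3 : a ^ 3 = 1) (a1 : a ≠ 1) (zs : IsConj z s)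
    (c : Commute z s) (c' : Commute a s) : s = z := by
  have o := h.co
  have k : s ∈ QQ z := by
    obtain k | ⟨t, t1, t2⟩ := h.fus81 s zs c
    · exact k
    obtain ⟨p, -, -, e⟩ := w_facts _ (h.pts t t1)
    obtain ⟨g, cg⟩ := h.rl p.2
    obtain ⟨S, cg'⟩ := o.exists_ac cg.1.inv_right
    obtain ⟨σ, hσ⟩ := k4 h cg'
    obtain ⟨t0, t3⟩ := h.base _ d81_mem
    have t4 := o.cj_mem cg' t1.mem
    have := k7a h ((k4' o cg' (hσ i)).2 ha) (by rw [← cj_pow, a3, cj_one_right])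
      (fun e => a1 (by rw [cj_eq_iff.1 e, cj_one_right]))
      (t3.of_eq o t4 ((o.iso cg).inj (by rw [← cg.2 _ t4, cj_cj_inv, t3.eq]; exact e.symm))) (cj_mem_QQ.2 t2)
      (W4.commute_cj cg'.1 c) (TT.commute_cj.2 c')
    simpa only [cj_cj_inv] using o.cj_mem cg this
  by_contra e
  have := (th_facts i _).2.2.2.2.2 (h.pts s ⟨zs, k, e⟩)
  rcases ac_three h ha a3 a1 with c | c
  exacts [this.1 (o.fix_of_comm c k c'), this.2 (o.fix_of_comm c k c')]

namespace P3K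

theorem rot (i : Iso τ S) (fx : ∀ v, S (S v) = v → S v = v) (e : ∀ v, bt (vm j) (S v).n = bt (vm j) v.n) :
    ∃ k < 3, S (nv j) = mx (pw3 (th j) k) (nv j) ∧ S (nw j) = mx (pw3 (th j) k) (nw j) := by
  obtain ⟨f1, f2, f3, f4, f5, f6, -⟩ := nv_facts j
  have p0 : pw3 (th j) 0 = one := rfl
  have p1 : pw3 (th j) 1 = th j := rfl
  have r0 : S (S (nv j)) = nv j → S (S (nw j)) = nw j →
      ∃ k < 3, S (nv j) = mx (pw3 (th j) k) (nv j) ∧ S (nw j) = mx (pw3 (th j) k) (nw j) := fun a b =>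
    ⟨0, by decide, by rw [p0, mx_one, mx_one]; exact ⟨fx _ a, fx _ b⟩⟩
  have ne : S (nv j) ≠ S (nw j) := i.inj.ne f3
  rcases (vm_iff _ _).1 ((e _).trans (vm_nv j)) with a | a | a | a
  · exact absurd (i.eq_zero.1 a) f1
  all_goals rcases (vm_iff _ _).1 ((e _).trans (vm_nw j)) with b | b | b | b
  all_goals first
    | exact absurd (i.eq_zero.1 b) f2
    | exact absurd (a.trans b.symm) ne
    | exact ⟨1, by decide, by rw [p1, f4]; exact ⟨a, b⟩⟩
    | exact ⟨2, by decide, by rw [f5, f6]; exact ⟨a, b⟩⟩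
    | exact r0 (by simp only [a, b, i.add, add_add_self']) (by simp only [a, b, i.add, add_add_self])

theorem digit {f : Fin 4 → ℕ} (h : ∀ j, f j < 3) (j : Fin 4) :
    (f 0 + 3 * f 1 + 9 * f 2 + 27 * f 3) / 3 ^ j.1 % 3 = f j := by
  have := h 0; have := h 1; have := h 2; have := h 3
  fin_cases j <;> simp <;> omega

end P3K

theorem k8 (h : Co z τ π) (c : Ac z π g S) (o : Odd (orderOf g)) (e : ∀ i v, bt (vm i) (S v).n = bt (vm i) v.n) :
    ∃ e < 81, S = mx (bm e) := by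
  obtain ⟨k, hk⟩ := o
  have fx : ∀ v, S (S v) = v → S v = v := fun v hv => by
    have := h.ac_ext (ac_pow h c (2 * k + 1)) (by rw [← hk, pow_orderOf_eq_one]; exact h.ac_mem (one_mem _)) v
    rwa [Function.iterate_succ_apply', Function.iterate_mul, Function.iterate_fixed (f := S^[2]) hv] at this
  choose f h1 h2 using fun j => rot (h.iso c) fx (e j)
  have l : f 0 + 3 * f 1 + 9 * f 2 + 27 * f 3 < 81 := by
    have := h1 0; have := h1 1; have := h1 2; have := h1 3; omega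
  refine ⟨_, l, P3K.ext (h.iso c) fun j => ?_⟩
  have b := bm_facts _ l j
  rw [digit h1] at b
  exact ⟨(h2 j).1.trans b.1, (h2 j).2.trans b.2⟩

end Cfsg.Agent.W4.P3
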