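import Mathlib
import Cfsg.Agent.W4.P3D

/-! The triangle `z`, `s`, `z s` in `Q_p` (see `stubs/Cfsg/Agent/W4/P3.md`). -/

set_option autoImplicit false
set_option maxRecDepth 100000
set_option linter.unusedVariables false
set_option linter.unusedSectionVars false

namespace Cfsg.Agent.W4.P3

open Cfsg.Agent.Spor Cfsg.Agent.Spor.TT Cfsg.Agent.LX Cfsg.Agent.Gr6 Cfsg.Agent.W3 Subgroup

variable {G : Type*} [Group G] [Finite G] {z a b c d f g p q s x y ρ : G} {τ : Bool} {π : G → V} {S : V → V} {i j : Fin 4}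

theorem partner {e : PD} {u : V} (h : Co z τ π) (pa : Pd z π a e) (hu : fb u (vv e.x) = true) :
    ∃ r, cj r z = a ∧ cj r a = z * a ∧ ∀ m ∈ QQ z, fb (π m) (vv e.x) = false →
      ∃ n ∈ e.els, Ac z π (cj r m) (mx n) ∧ bt e.E (π m + (u + mx n u)).n = true := by
  obtain ⟨b, hb, e1⟩ := h.exists_b pa.pt
  obtain ⟨q, hq, rfl⟩ := h.surj u
  have c1 : fb (π q) (π a) = true := pa.eq ▸ hu
  obtain ⟨π', h'⟩ := h.of_isConj pa.pt.conj
  have zq := h.bg.comm (inv_mem hq)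
  have e2 : cj q⁻¹ a = z * a := h.cj_of_fb (inv_mem hq) pa.pt.mem (by rwa [h.inv hq])
  refine ⟨q⁻¹ * b, ?_, ?_, fun m hm hv => ?_⟩
  · rw [← cj_cj, e1, cj_mul, e2, cj_of_commute zq.symm, ← mul_assoc, h.zz, one_mul]
  · rw [← cj_cj, cj_of_commute (h'.bg.comm hb).symm, e2]
  · obtain ⟨y1, y2, y3⟩ := h.exists_partner pa.pt hm (by rw [pa.eq]; exact hv) hb e1 hq c1
    obtain ⟨n, hn, cn⟩ := pa.exists_ac h y1 y2
    refine ⟨n, hn, ?_, (pa.et _).1 (by rwa [h.pi_nm cn hq] at y3)⟩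
    have := h.ac_cj (h.ac_mem (inv_mem hq)) (h.ac_mul (h.ac_mem hm) cn) (S' := mx n) fun _ => rfl
    rwa [mul_inv_cancel_left, cj_cj] at this

/-- The element of order three rotating `e0`, `234`, `235`. -/
def thT : ℕ := wm (gn L81) [5, 2, 3, 0, 4, 1]

theorem thT_1 : mx thT (vv 1) = vv 234 := by decide +kernel

theorem thT_2 : mx thT (vv 234) = vv 1 + vv 234 := by decide +kernel

theorem thT_E {v : V} (h1 : bt d81.E v.n = true) (h2 : bt d81.E (mx thT v).n = true) : v = 0 := by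
  have : allN (fun c => frc (tb thT) fun t => !bt d81.E c || !bt d81.E (ap t c) || Nat.beq c 0) 256 = true := by
    decide +kernel
  have := allN_iff.1 this _ v.lt
  simp only [frc_eq, ap_tb, h1, h2, Bool.not_true, Bool.false_or, Nat.beq_eq] at this
  exact V.ext this

theorem t81_uq : ∀ n ∈ d81.els, bt d81.E (vv 234 + (vv 16 + mx n (vv 16))).n = true → n = t81 := by decide +kernel

theorem t81_range {c : V} (e : mx t81 c = c) : ∃ w, c = w + mx t81 w := by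
  have : allN (fun c => frc (tb t81) fun t => !Nat.beq (ap t c) c ||
      anyN (fun w => Nat.beq (Nat.xor w (ap t w)) c) 256) 256 = true := by decide +kernel
  have := allN_iff.1 this _ c.lt
  simp only [frc_eq, ap_tb, e, Nat.beq_refl, Bool.not_true, Bool.false_or, anyN_iff, Nat.beq_eq] at this
  obtain ⟨w, hw, e⟩ := this
  exact ⟨vv w, V.ext (by rw [← e, ap_tb' t81 hw, add_n, vv_of_lt hw]; rfl)⟩

theorem t81_E {c : V} (e : mx t81 c = c) (k : qb false c = false) : bt d81.E c.n = true := by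
  have : allN (fun c => frc (tb t81) fun t => !Nat.beq (ap t c) c || qb false (vv c) || bt d81.E c) 256 = true := by
    decide +kernel
  have := allN_iff.1 this _ c.lt
  simpa only [frc_eq, ap_tb, e, Nat.beq_refl, Bool.not_true, Bool.false_or, vv_n, k] using this

theorem exists_rot (h : Lf z π O81 L81) {m : G} (hm : m ∈ QQ z) (e : π m = vv 1) :
    ∃ g, Ac z π g (mx thT) ∧ cj g (cj g m) = m * cj g m := by
  have c := h.co
  obtain ⟨g, hg⟩ : ∃ g, Ac z π g (mx thT) := h.rl _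
  have h1 := c.cj_mem hg hm
  have e1 : π (cj g m) = vv 234 := by rw [hg.2 m hm, e, thT_1]
  rcases (c.eq_iff (c.cj_mem hg h1) (mul_mem hm h1)).1 (by rw [hg.2 _ h1, c.mul _ hm _ h1, e1, e, thT_2]) with k | k
  · exact ⟨g, hg, k⟩
  · obtain ⟨q, hq, e2⟩ := c.surj (vv 32)
    have k1 : cj (g * q) m = cj g m := by
      rw [← cj_cj, cj_of_commute ((c.comm q hq m hm).2 (by rw [e2, e]; decide +kernel))]
    refine ⟨g * q, (c.ac_mul hg (c.ac_mem hq) :), ?_⟩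
    rw [k1, ← cj_cj, c.cj_of_fb hq h1 (by rw [e2, e1]; decide +kernel), cj_mul, cj_of_commute hg.1.symm, k,
      ← mul_assoc, c.zz, one_mul]

theorem exists_tr (h : Lf z π O81 L81) : ∃ p s ρ, Tr z π p s ρ := by
  have c := h.co
  obtain ⟨p, pp⟩ := h.base d81 d81_mem
  obtain ⟨r, r1, r2, r3⟩ := partner c pp (u := vv 16) (by decide +kernel)
  obtain ⟨π', c'⟩ := c.of_isConj pp.pt.conj
  have hm := mul_mem c.bg.z_mem pp.pt.mem
  have pm := pp.of_eq c hm (c.z_mul pp.pt.mem)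
  have r4 : cj r (z * p) = z := by
    rw [cj_mul, r1, r2, (c.bg.comm pp.pt.mem).eq, ← mul_assoc, c'.zz, one_mul]
  generalize z * p = m at hm pm r4
  obtain ⟨g, hg, e⟩ := exists_rot h hm pm.eq
  have h1 := c.cj_mem hg hm
  have e1 : π (cj g m) = vv 234 := by rw [hg.2 m hm, pm.eq]; exact thT_1
  obtain ⟨n, hn, a1, a2⟩ := r3 _ h1 (by rw [e1]; decide +kernel)
  obtain rfl := t81_uq n hn (e1 ▸ a2)
  refine ⟨p, cj r (cj g m), cj r g, pp, r1 ▸ TT.commute_cj.2 hg.1.symm, ?_, ?_, a1, fun d d1 d2 d3 => ?_⟩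
  · rw [cj_dist r g m, r4]
  · rw [← cj_dist, e, cj_mul, r4]
  · have k1 : cj r⁻¹ d ∈ QQ z := mem_QQ_cj.1 (r1 ▸ d3)
    have k2 : cj r⁻¹ d ∈ QQ m := mem_QQ_cj.1 (r4 ▸ d1)
    obtain ⟨v, hv⟩ := (c.iso hg).surj (π (cj r⁻¹ d))
    have k3 : Et z π (cj g m) (mx thT v) := ⟨_, k1, mem_QQ_cj.1 d2, hv.symm⟩
    rw [thT_E ((pm.et _).1 ((c.et_cj hg).1 k3)) ((pm.et _).1 ⟨_, k1, k2, hv.symm⟩), mx_zero, eq_comm, c.ker _ k1,
      cj_eq_iff, cj_eq_iff, inv_inv, cj_one_right, r1] at hv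
    exact hv

theorem Tr.ss (t : Tr z π p s ρ) (h : Co z τ π) : s * s = 1 := by rw [← t.c1, ← cj_mul, h.zz, cj_one_right]

theorem Tr.c3 (t : Tr z π p s ρ) (h : Co z τ π) : cj ρ (z * s) = z := by
  rw [cj_mul, t.c1, t.c2, t.ac.1.eq, ← mul_assoc, t.ss h, one_mul]

theorem Tr.cj_mem (t : Tr z π p s ρ) (hf : f ∈ QQ p) : cj ρ f ∈ QQ p := cj_of_commute t.cp ▸ cj_mem_QQ.2 hf

theorem Tr.of_cj (t : Tr z π p s ρ) (k : cj ρ d = 1 ∨ cj ρ d = p) : d = 1 ∨ d = p := by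
  rwa [cj_eq_iff, cj_eq_iff, cj_one_right, cj_of_commute t.cp.inv_left] at k

theorem Tr.symm (t : Tr z π p s ρ) (h : Co z τ π) : Tr z π p (z * s) ρ⁻¹ := by
  refine ⟨t.pd, t.cp.inv_left, (cj_eq_iff.1 (t.c3 h)).symm, ?_, (h.ac_mul (h.ac_mem h.bg.z_mem) t.ac :),
    fun d d1 d2 d3 => t.of_cj (t.inter _ ?_ (t.c1 ▸ cj_mem_QQ.2 d1) (t.cj_mem d3))⟩
  · rw [← mul_assoc, h.zz, one_mul, ← t.c2, cj_inv_cj]
  · have := cj_mem_QQ (g := ρ).2 d2
    rwa [t.c3 h] at this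

theorem Tr.s_mem (t : Tr z π p s ρ) (h : Co z τ π) : s ∈ QQ p := t.c1 ▸ t.cj_mem (h.symm t.pd.pt).mem

theorem Tr.star (t : Tr z π p s ρ) (h : Co z false π) (hf : f ∈ QQ z) (c : Commute s f) :
    cj ρ f ∈ QQ p ∧ ∃ m ∈ d81.els, Ac z π (cj ρ f) (mx m) ∧ (m = one ∨ m = t81 → π f = 0 ∨ π f = vv 1) := by
  have e1 := h.fix_of_comm t.ac hf c
  obtain ⟨w, hw⟩ := t81_range e1
  have e2 := h.cj_of_range t.ac (.inl (t.ss h)) hf hw
  rw [cj_of_commute c, eq_inv_iff_mul_eq_one, h.sq f hf] at e2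
  have h1 := t.cj_mem (h.mem_of_et t.pd.pt hf ((t.pd.et _).2 (t81_E e1 e2)))
  have h2 : cj ρ f ∈ QQ s := t.c1 ▸ cj_mem_QQ.2 hf
  have c1 : Commute s (cj ρ f) := t.c1 ▸ TT.commute_cj.2 (h.bg.comm hf)
  have c2 : Commute (z * s) (cj ρ f) := t.c2 ▸ TT.commute_cj.2 c
  have c3 : Commute z (cj ρ f) := by simpa using c2.mul_left c1.inv_left
  obtain ⟨m, hm, a1⟩ := t.pd.exists_ac h h1 c3
  have k : ∀ d, d = 1 ∨ d = p → π d = 0 ∨ π d = vv 1 := fun d e =>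
    e.imp (fun e => by rw [e, h.one]) fun e => by rw [e]; exact t.pd.eq
  refine ⟨h1, m, hm, a1, ?_⟩
  rintro (rfl | rfl)
  · exact k _ (t.of_cj (t.inter _ (h.mem_of_ac a1 mx_one) h2 h1))
  · have hs : s ∈ QQ s := t.c1 ▸ cj_mem_QQ.2 h.bg.z_mem
    have := t.inter _ (h.mul_inv_mem a1 t.ac fun _ => rfl) (mul_mem h2 (inv_mem hs)) (mul_mem h1 (inv_mem (t.s_mem h)))
    rw [← t.c1, ← cj_inv, ← cj_mul] at this
    have := k _ (t.of_cj this)
    rwa [h.mul _ hf _ (inv_mem h.bg.z_mem), h.inv h.bg.z_mem, h.self, add_zero] at this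

end Cfsg.Agent.W4.P3
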