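import Mathlib
import Cfsg.Agent.W4.P3K
import Cfsg.Agent.W4.P3T
import Cfsg.Agent.W4.Y3
import Cfsg.Agent.Inv.FzBasic
import Cfsg.Agent.GT.PGroupBasic

set_option autoImplicit false
set_option linter.unusedVariables false
set_option linter.unusedSectionVars false
set_option maxRecDepth 100000

namespace Cfsg.Agent.W4.P3

open Cfsg.Agent.Spor Cfsg.Agent.Spor.TT Cfsg.Agent.LX Cfsg.Agent.Gr6 Cfsg.Agent.W3 Subgroup

variable {G : Type*} [Group G] [Finite G] {z a b c d f g p q s x y ρ : G} {τ : Bool} {π : G → V} {S : V → V} {i j : Fin 4}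

namespace P3S

/-- The partner of a plane. -/
def jj : Fin 4 → Fin 4
  | 0 => 1 | 1 => 0 | 2 => 3 | 3 => 2

/-- A word leading to the second point. -/
def xw : Fin 4 → List ℕ
  | 0 => [5, 2, 4] | 1 => [5, 2, 4] | 2 => [5, 4] | 3 => [5, 4]

/-- A singular vector orthogonal to the planes `i` and `jj i`. -/
def tv : Fin 4 → V
  | 0 => vv 36 | 1 => vv 36 | 2 => vv 32 | 3 => vv 32

/-- Two commuting elements of order three. -/
def S1 : ℕ := 0x871a2dfa21058104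

/-- Two commuting elements of order three. -/
def S2 : ℕ := 0xf9a42034042c9f25

/-- The square of `S1`. -/
def T1 : ℕ := 0x75a0dea29018305

/-- The square of `S2`. -/
def T2 : ℕ := 0x68f520382c085f29

theorem f0 : wm (gn L81) [1, 5, 1, 5] = S1 ∧ wm (gn L81) [1, 5, 1, 5, 4, 2, 4, 2] = S2 ∧ mul S1 S1 = T1 ∧
    mul S2 S2 = T2 := by decide +kernel
theorem f1 (i : Fin 4) : mx (wm (gn L81) (xw i)) (vv 1) = vv 1 + tv i := by
  have : ∀ i, frc (wm (gn L81) (xw i)) (fun m => decide (mx m (vv 1) = vv 1 + tv i)) = true := by decide +kernel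
  simpa only [frc_eq, decide_eq_true_eq] using this i
theorem f2 : ∀ i, fb (vv 1 + tv i) (vv 1) = false ∧ ∀ n ∈ d81.els,
    bt d81.E (vv 1 + tv i + (vv 16 + mx n (vv 16))).n = true → n = d81.a := by decide +kernel
theorem f3 : ∀ i, bt (pm i) (tv i).n = true ∧ bt (pm (jj i)) (tv i).n = true ∧ i ≠ jj i := by decide +kernel
theorem f4 : ∀ i k, (∃ u : V, bt (vm k) u.n = true ∧ fb u (tv i) = true) ↔ k ≠ i ∧ k ≠ jj i := by decide +kernel
theorem f5 (i : Fin 4) {e : ℕ} (he : e < 81) (h : mx (bm e) (tv i) = tv i) :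
    ∃ k < 3, ∃ l < 3, bm e = mul (pw3 (th i) k) (pw3 (th (jj i)) l) := by
  have : ∀ i, allN (fun e => frc (bm e) fun m => !decide (mx m (tv i) = tv i) || Nat.beq m
      (mul (pw3 (th i) (e / 3 ^ i.1 % 3)) (pw3 (th (jj i)) (e / 3 ^ (jj i).1 % 3)))) 81 = true := by decide +kernel
  have k := allN_iff.1 (this i) e he
  rw [frc_eq, decide_eq_true h, Bool.not_true, Bool.false_or, Nat.beq_eq] at k
  exact ⟨_, Nat.mod_lt _ (by norm_num), _, Nat.mod_lt _ (by norm_num), k⟩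
theorem f6 (c : V) (e : mx d81.a c = c) : ∃ w, c = w + mx d81.a w := by
  have k : allN (fun c => frc (tb d81.a) fun t => !Nat.beq (ap t c) c ||
      anyN (fun w => Nat.beq (Nat.xor w (ap t w)) c) 256) 256 = true := by decide +kernel
  have := allN_iff.1 k _ c.lt
  simp only [frc_eq, ap_tb, e, Nat.beq_refl, Bool.not_true, Bool.false_or, anyN_iff, Nat.beq_eq] at this
  obtain ⟨w, hw, e⟩ := this
  exact ⟨vv w, V.ext (by rw [← e, ap_tb' _ hw, add_n, vv_of_lt hw]; rfl)⟩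
theorem f7 : mul S1 d81.a = mul d81.a S1 ∧ mul S2 d81.a = mul d81.a S2 ∧ mx d81.a (vv 16) ≠ vv 16 := by
  decide +kernel
theorem f8 : mul T1 (mul T1 T1) = one ∧ mul T2 (mul T2 T2) = one ∧ mul T1 T2 = mul T2 T1 ∧
    mx T2 (vv 13) = vv 13 ∧ mx T1 (vv 13) ≠ vv 13 ∧ mx T2 (vv 1) ≠ vv 1 := by decide +kernel
theorem f9 : ∀ i, mul (th i) (mul (th i) (th i)) = one ∧ mul (mul (th i) (th i)) (mul (th i) (th i)) = th i ∧
    (∀ v : V, bt (pm i) v.n = true → mx (th i) v = v) ∧ mx (th i) (vv 1) ≠ vv 1 := by decide +kernel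
theorem f10 : ∀ i, ∀ σ : Equiv.Perm (Fin 4),
    (∀ k, k ≠ i ∧ k ≠ jj i → σ k ≠ i ∧ σ k ≠ jj i) → ∀ k, σ (σ k) = k := by decide +kernel

theorem eq_one (hq : q ∈ QQ z) {P : Subgroup G} (hP : IsPGroup 3 P) (hq' : q ∈ P) : q = 1 := by
  have : Fact (Nat.Prime 2) := ⟨Nat.prime_two⟩
  have : Fact (Nat.Prime 3) := ⟨Nat.prime_three⟩
  exact disjoint_def.1 (IsPGroup.disjoint_of_ne 2 3 (by norm_num) _ _ (GT.isPGroup_pCoreOf 2 _) hP) hq hq'

theorem pg3 (a3 : a ^ 3 = 1) : IsPGroup 3 (zpowers a) := by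
  rintro ⟨_, n, rfl⟩
  refine ⟨1, Subtype.ext ?_⟩
  simp only [pow_one, SubgroupClass.coe_pow, OneMemClass.coe_one]
  rw [← zpow_natCast, ← zpow_mul, mul_comm, zpow_mul, zpow_natCast, a3, one_zpow]

theorem card3 (a3 : a ^ 3 = 1) (a1 : a ≠ 1) : Nat.card (zpowers a) = 3 := by
  have : Fact (Nat.Prime 3) := ⟨Nat.prime_three⟩
  rw [Nat.card_zpowers, orderOf_eq_prime a3 a1]

theorem mem_norm (c : Commute a b) : b ∈ normalizer (zpowers a : Set G) :=
  centralizer_le_normalizer _ (mem_centralizer_iff.2 (by rintro _ ⟨n, rfl⟩; exact (c.zpow_left n).eq))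

theorem card9 (a3 : a ^ 3 = 1) (a1 : a ≠ 1) (b3 : b ^ 3 = 1) (c : Commute a b) (hb : b ∉ zpowers a) :
    Nat.card (zpowers a ⊔ zpowers b : Subgroup G) = 9 := by
  rw [GT.PG.card_sup_zpowers Nat.prime_three (mem_norm c) hb (b3 ▸ one_mem _), card3 a3 a1]

theorem ac_mm {m n : ℕ} (h : Co z τ π) (k : Ac z π a (mx m)) (k' : Ac z π b (mx n)) :
    Ac z π (a * b) (mx (mul m n)) :=
  (h.ac_mul k k').congr fun v => by rw [Function.comp_apply, mx_mul]

theorem ac_q (h : Co z τ π) (hq : q ∈ QQ z) (k : Ac z π a S) : Ac z π (q * a) S := (h.ac_mul (h.ac_mem hq) k :)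

set_option linter.auxLemma false in
theorem pw3_aux (k x y w : ℕ) : ∀ r, r = pw3.match_1 (fun _ => ℕ) k (fun _ => x) (fun _ => y) (fun _ => w) →
    r = x ∨ r = y ∨ r = w := by
  rintro _ rfl
  rcases k with _ | _ | k
  exacts [.inl rfl, .inr (.inl rfl), .inr (.inr rfl)]

theorem pw3_cases (m k : ℕ) : pw3 m k = one ∨ pw3 m k = m ∨ pw3 m k = mul m m := pw3_aux k _ _ _ _ rfl

theorem exists_pw (h : Lf z π O81 L81) (ha : a ∈ Kf z π i) (a3 : a ^ 3 = 1) (a1 : a ≠ 1) {k : ℕ} (hk : k < 3) :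
    ∃ b ∈ zpowers a, Ac z π b (mx (pw3 (th i) k)) := by
  have h1 : Ac z π 1 (mx one) := (h.co.ac_mem (one_mem _)).congr fun v => (mx_one v).symm
  have h2 : a * a ∈ zpowers a := mul_mem (mem_zpowers a) (mem_zpowers a)
  rcases k1 h ha with e | e | e
  · exact absurd (eq_one (h.co.mem_of_ac e fun _ => rfl) (pg3 a3) (mem_zpowers a)) a1
  · rcases pw3_cases (th i) k with e' | e' | e' <;> rw [e']
    exacts [⟨1, one_mem _, h1⟩, ⟨a, mem_zpowers a, e⟩, ⟨_, h2, ac_mm h.co e e⟩]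
  · have e2 := ac_mm h.co e e
    rw [(f9 i).2.1] at e2
    rcases pw3_cases (th i) k with e' | e' | e' <;> rw [e']
    exacts [⟨1, one_mem _, h1⟩, ⟨_, h2, e2⟩, ⟨a, mem_zpowers a, e⟩]

theorem exists_th (h : Lf z π O81 L81) (j : Fin 4) : ∃ b ∈ Kf z π j, b ^ 3 = 1 ∧ b ≠ 1 := by
  obtain ⟨g, c⟩ := h.rl (thw j)
  rw [th_eq] at c
  have h3 : g * (g * g) ∈ QQ z := h.co.mem_of_ac (ac_mm h.co c (ac_mm h.co c c)) fun v => by
    rw [(f9 j).1, mx_one]
  have h4 : (g * (g * g)) ^ 4 = 1 := by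
    rw [show 4 = 2 * 2 from rfl, pow_mul, pow_two (g * (g * g))]
    cases e : qb false (π (g * (g * g)))
    · rw [(h.co.sq _ h3).2 e, one_pow]
    · rw [(h.co.sq' h3).2 e, pow_two, h.co.zz]
  have h5 : (g * (g * g) * g) ^ 3 = 1 := by
    rw [← h4, ← pow_three, ← pow_succ, ← pow_mul, ← pow_mul]
  have c' : Ac z π (g * (g * g) * g) (mx (th j)) := ac_q h.co h3 c
  exact ⟨_, k2 h.co c' h5 (f9 j).2.2.1, h5, fun e =>
    (f9 j).2.2.2 ((h.co.ac_ext c' (h.co.ac_mem (e ▸ one_mem _)) _).trans (id_eq _))⟩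

/-- The centraliser of `z` and `y` has order divisible by nine. -/
theorem exists_nine (h : Lf z π O81 L81) (c : Ac z π y (mx d81.a)) (yy : y * y = 1) :
    ∃ P : Subgroup G, P ≤ centralizer {z} ⊓ centralizer {y} ∧ Nat.card P = 9 := by
  have : Fact (Nat.Prime 3) := ⟨Nat.prime_three⟩
  obtain ⟨g1, c1⟩ := h.rl [1, 5, 1, 5]
  obtain ⟨g2, c2⟩ := h.rl [1, 5, 1, 5, 4, 2, 4, 2]
  rw [f0.1] at c1
  rw [f0.2.1] at c2
  obtain ⟨u, u1, u2⟩ := Y3.adjust h.co c yy c1 (fun v => by rw [← mx_mul, f7.1, mx_mul]) f6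
  obtain ⟨w, w1, w2⟩ := Y3.adjust h.co c yy c2 (fun v => by rw [← mx_mul, f7.2.1, mx_mul]) f6
  obtain ⟨φ, hφ, -⟩ := h.co.exists_act
  obtain ⟨e1, e2, e3, e4, e5, e6⟩ := f8
  set X : Subgroup G := centralizer {z} ⊓ centralizer {y}
  let u' : centralizer ({z} : Set G) := ⟨u, mem_centralizer_singleton_iff.2 u1.1.eq.symm⟩
  let w' : centralizer ({z} : Set G) := ⟨w, mem_centralizer_singleton_iff.2 w1.1.eq.symm⟩
  have hu : ∀ v, φ u' v = mx T1 v := fun v => by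
    rw [← f0.2.2.1, mx_mul, h.co.ac_ext (hφ u') u1 v, Function.comp_apply]
  have hw : ∀ v, φ w' v = mx T2 v := fun v => by
    rw [← f0.2.2.2, mx_mul, h.co.ac_ext (hφ w') w1 v, Function.comp_apply]
  have h9 := card9 (a := φ w') (b := φ u')
    (Equiv.ext fun v => by simp only [pow_three, Equiv.Perm.mul_apply, hw, ← mx_mul, e2, mx_one, Equiv.Perm.one_apply])
    (fun e => e6 (by rw [← hw, e, Equiv.Perm.one_apply]))
    (Equiv.ext fun v => by simp only [pow_three, Equiv.Perm.mul_apply, hu, ← mx_mul, e1, mx_one, Equiv.Perm.one_apply])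
    (Equiv.ext fun v => by simp only [Equiv.Perm.mul_apply, hu, hw, ← mx_mul, e3])
    (by
      rintro ⟨n, e⟩
      refine e5 ?_
      rw [← hu, ← e]
      exact Equiv.Perm.zpow_apply_eq_self_of_apply_eq_self ((hw _).trans e4) n)
  have hd : 3 ^ 2 ∣ Nat.card X := by
    rw [← Nat.card_congr (subgroupOfEquivOfLe (inf_le_left : X ≤ _)).toEquiv]
    refine (show 3 ^ 2 = 9 from rfl).trans h9.symm ▸ (card_dvd_of_le ?_).trans (card_map_dvd _ φ)
    exact sup_le (zpowers_le.2 ⟨w', ⟨w'.2, mem_centralizer_singleton_iff.2 w2.eq.symm⟩, rfl⟩)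
      (zpowers_le.2 ⟨u', ⟨u'.2, mem_centralizer_singleton_iff.2 u2.eq.symm⟩, rfl⟩)
  obtain ⟨P, hP⟩ := Sylow.exists_subgroup_card_pow_prime 3 hd
  exact ⟨P.map X.subtype, map_subtype_le _, by rw [card_map_of_injective X.subtype_injective, hP]; rfl⟩

/-- `⟨a, b⟩` is a Sylow 3-subgroup of `C(t)`. -/
theorem syl (h : Lf z π O81 L81) (ha : a ∈ Kf z π i) (a3 : a ^ 3 = 1) (a1 : a ≠ 1) (hb : b ∈ Kf z π (jj i))
    (b3 : b ^ 3 = 1) (b1 : b ≠ 1) (hM : ∀ g, Commute a g → Commute z g) {t : G} (ht : t ∈ QQ z) (e : π t = tv i) :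
    Inv.Fz.IsSylIn 3 (zpowers a ⊔ zpowers b) (centralizer {t}) := by
  have : Fact (Nat.Prime 3) := ⟨Nat.prime_three⟩
  have c := k5 h (f3 i).2.2 ha hb
  set B := zpowers a ⊔ zpowers b with hB
  have hBz : B ≤ centralizer {z} := sup_le (zpowers_le.2 (mem_centralizer_singleton_iff.2 (k0 h.co ha).eq.symm))
    (zpowers_le.2 (mem_centralizer_singleton_iff.2 (k0 h.co hb).eq.symm))
  refine Inv.Fz.isSylIn_of_card_le
    (sup_le (zpowers_le.2 (mem_centralizer_singleton_iff.2 (ha t ⟨ht, e ▸ (f3 i).1⟩).symm))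
      (zpowers_le.2 (mem_centralizer_singleton_iff.2 (hb t ⟨ht, e ▸ (f3 i).2.1⟩).symm)))
    ((pg3 a3).to_sup_of_normal_right' (pg3 b3) (zpowers_le.2 (mem_norm c.symm))) fun P hP hPt hBP => ?_
  by_contra hlt
  obtain ⟨x, ⟨hxP, hxN⟩, hxB⟩ := SetLike.exists_of_lt (Inv.Fz.lt_inf_normalizer hP
    (lt_of_le_of_ne hBP fun e => hlt (e ▸ le_rfl)))
  have h1 : Commute a (cj x z) := by
    rw [commute_cj_right]
    have : cj x⁻¹ a ∈ B := cj_mem_of_normalizer (inv_mem hxN) (mem_sup_left (mem_zpowers a))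
    exact mem_centralizer_singleton_iff.1 (hBz this)
  have hxz : Commute z x := (cj_eq_self_iff.1 (k7 h ha a3 a1 (TT.isConj_cj x z) (hM _ h1) h1)).symm
  obtain ⟨T, cx⟩ := h.co.exists_ac hxz
  have hT : T (tv i) = tv i := e ▸ h.co.fix_of_comm cx ht (mem_centralizer_singleton_iff.1 (hPt hxP))
  obtain ⟨σ, hσ⟩ := k4 h cx
  have hσ2 := f10 i σ fun k hk => by
    obtain ⟨u, u1, u2⟩ := (f4 i k).2 hk
    exact (f4 i _).1 ⟨T u, (hσ k u).trans u1, by rw [← hT, (h.co.iso cx).f, u2]⟩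
  have odd : ∀ x ∈ P, Odd (orderOf x) := fun x hx => by
    obtain ⟨k, hk⟩ := IsPGroup.iff_orderOf.1 hP ⟨x, hx⟩
    rw [← orderOf_mk x hx, hk]
    exact Odd.pow (by decide)
  have cx2 := h.co.ac_mul cx cx
  obtain ⟨n, hn, e2⟩ := k8 h.co cx2 (odd _ (mul_mem hxP hxP)) fun k v => by
    rw [← hσ k v, ← hσ (σ k) (T v), hσ2]; rfl
  obtain ⟨k, hk, l, hl, e3⟩ := f5 i hn (by rw [← e2, Function.comp, hT, hT])
  obtain ⟨a', a1', a2'⟩ := exists_pw h ha a3 a1 hk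
  obtain ⟨b', b1', b2'⟩ := exists_pw h hb b3 b1 hl
  have hab : a' * b' ∈ B := mul_mem_sup a1' b1'
  have h2 := eq_one (h.co.mul_inv_mem cx2 (ac_mm h.co a2' b2') fun v => by rw [e2, e3]) hP
    (mul_mem (mul_mem hxP hxP) (inv_mem (hBP hab)))
  rw [mul_inv_eq_one] at h2
  obtain ⟨m, hm⟩ := odd x hxP
  refine hxB ?_
  have : x = ((x * x) ^ m)⁻¹ := eq_inv_of_mul_eq_one_right (by
    rw [← pow_two, ← pow_mul, ← pow_succ, ← hm, pow_orderOf_eq_one])
  rw [this, h2]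
  exact inv_mem (pow_mem hab m)

end P3S

open P3S in
theorem not_le (h : Lf z π O81 L81) (ha : a ∈ Kf z π i) (a3 : a ^ 3 = 1) (a1 : a ≠ 1) :
    ∃ g, Commute a g ∧ ¬ Commute z g := by
  have : Fact (Nat.Prime 3) := ⟨Nat.prime_three⟩
  by_contra! hM
  obtain ⟨p, pa⟩ := h.base d81 d81_mem
  obtain ⟨r, r1, r2, r3⟩ := partner h.co pa (u := vv 16) (by decide +kernel)
  obtain ⟨g, cg⟩ := h.rl (xw i)
  have pm := pa.pt.cj h.co.bg cg.1
  have em : π (cj g p) = vv 1 + tv i := by rw [cg.2 p pa.pt.mem, pa.eq]; exact f1 i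
  generalize cj g p = m at pm em
  obtain ⟨n, hn, cy, hy⟩ := r3 m pm.mem (em ▸ (f2 i).1)
  obtain rfl := (f2 i).2 n hn (em ▸ hy)
  have zy : IsConj z (cj r m) := pm.conj.trans (TT.isConj_cj r m)
  have yy : cj r m * cj r m = 1 := (h.co.bg.of_isConj zy).sq
  have hz := h.co.bg.z_mem
  have ht : z * p * m ∈ QQ z := mul_mem (mul_mem hz pa.pt.mem) pm.mem
  have et : π (z * p * m) = tv i := by
    rw [h.co.mul _ (mul_mem hz pa.pt.mem) _ pm.mem, h.co.z_mul pa.pt.mem, pa.eq, em]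
    exact add_add_self _ _
  have er : cj r (z * p * m) = z * cj r m := by
    rw [cj_mul, cj_mul, r1, r2, ← mul_assoc, ← (h.co.bg.comm pa.pt.mem).eq, mul_assoc z, (h.co.bgt pa.pt).sq, mul_one]
  obtain ⟨P, hP, h9⟩ := exists_nine h cy yy
  obtain ⟨b, hb, b3, b1⟩ := exists_th h (jj i)
  have hS := syl h ha a3 a1 hb b3 b1 hM ht et
  have c := k5 h (f3 i).2.2 ha hb
  have hB : Nat.card (zpowers a ⊔ zpowers b : Subgroup G) ≤ 9 := by
    by_cases k : b ∈ zpowers a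
    · rw [sup_eq_left.2 (zpowers_le.2 k), card3 a3 a1]; norm_num
    · exact (card9 a3 a1 b3 c k).le
  obtain ⟨w, -, hw⟩ := hS.exists_cj_le (Inv.Fz.isPGroup_cj (IsPGroup.of_card (n := 2) h9) r⁻¹) (by
    refine Inv.Fz.cj_le_iff.2 fun x hx => mem_centralizer_singleton_iff.2 ?_
    refine (commute_cj_left (g := r⁻¹)).2 ?_
    rw [inv_inv, er]
    exact Commute.mul_right (mem_centralizer_singleton_iff.1 (hP hx).1) (mem_centralizer_singleton_iff.1 (hP hx).2))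
  rw [Inv.Fz.cj_cj] at hw
  have e := eq_of_le_of_card_ge hw (by rw [Inv.Fz.card_cj, h9]; exact hB)
  have hx := hP (Inv.Fz.mem_cj.1 (e.ge (mem_sup_left (mem_zpowers a))))
  generalize w * r⁻¹ = v at hx
  have key : ∀ s, IsConj z s → v⁻¹ * a * v ∈ centralizer {s} → cj v s = z := fun s zs k => by
    have k' : Commute a (cj v s) := commute_cj_right.2 (by
      rw [cj_def, inv_inv]; exact mem_centralizer_singleton_iff.1 k)
    exact k7 h ha a3 a1 (zs.trans (TT.isConj_cj v s)) (hM _ k') k'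
  have e' := cj_inj.1 ((key _ zy hx.2).trans (key _ (IsConj.refl z) hx.1).symm)
  exact f7.2.2 ((h.co.ac_ext cy (h.co.ac_mem (e' ▸ hz)) _).trans (id_eq _))

end Cfsg.Agent.W4.P3
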