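import Mathlib
import Cfsg.Agent.W4.P3S
import Cfsg.Agent.Holt.Grp

/-! Commuting root elements: `Z*` in the normaliser of a subgroup of order three of a fundamental subgroup
(see `stubs/Cfsg/Agent/W4/P3.md`, section P3Z). -/

set_option autoImplicit false
set_option maxRecDepth 100000
set_option linter.unusedVariables false
set_option linter.unusedSectionVars false

namespace Cfsg.Agent.W4.P3

open Cfsg.Agent.Spor Cfsg.Agent.Spor.TT Cfsg.Agent.LX Cfsg.Agent.Gr6 Cfsg.Agent.W3 Subgroup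

namespace Z

open FusA

/-- The regular four-group on the planes. -/
def xr (c i : Fin 4) : Fin 4 := Fin.ofNat 4 (Nat.xor c i)

theorem xr_sq : ∀ (σ : Fin 4 → Fin 4) (c d : Fin 4), c ≠ 0 → d ≠ 0 → c ≠ d → (∀ i, σ (xr c i) = xr c (σ i)) →
    (∀ i, σ (xr d i) = xr d (σ i)) → ∀ i, σ (σ i) = i := by decide +kernel

/-- The matrix `m` permutes the planes as `xr c`. -/
def pl (m : ℕ) (c : Fin 4) : Prop := ∀ i, bt (vm (xr c i)) (mx m (nv i)).n = true

instance (m : ℕ) (c : Fin 4) : Decidable (pl m c) := inferInstanceAs (Decidable (∀ i, _))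

/-- Two matrices generate the regular four-group on the planes. -/
def reg (m n : ℕ) : Bool := decide (∃ c d : Fin 4, c ≠ 0 ∧ d ≠ 0 ∧ c ≠ d ∧ pl m c ∧ pl n d)

/-- Two matrices commute. -/
def cm (a b : ℕ) : Bool := Nat.beq (mul a b) (mul b a)

/-- The nontrivial members of `B` commuting with two matrices. -/
def fx (B : List ℕ) (m n : ℕ) : List ℕ := flt (fun b => !Nat.beq b one && (cm b m && cm b n)) B

/-- The products of commuting members. -/
def prods (l l' : List ℕ) : List ℕ := l.flatMap fun a => (flt (cm a) l').map (mul a)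

/-- Each member is the square of the other one. -/
def cyc (l : List ℕ) : Bool := allL (fun a => allL (fun b => Nat.beq b a || Nat.beq b (mul a a)) l) l

/-- The test for a pair of matrices. -/
def ck (B : List ℕ) (T m n : ℕ) : Bool := frc (mul T m) fun m' => frc (mul T n) fun n' =>
  frcL (fx B m n) fun l1 => frcL (fx B m' n) fun l2 => frcL (fx B m n') fun l3 => frcL (fx B m' n') fun l4 =>
    ((reg m n && reg m' n) && (reg m n' && reg m' n')) && ((cyc l1 && cyc l2) && (cyc l3 && cyc l4)) &&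
      frcL (prods l1 l2) fun p => frcL (prods l3 l4) fun q => frcL (prods p q) fun r => decide (∀ j, mem r (th j) = true)

/-- The matrix is trivial on the planes. -/
def bad (T m : ℕ) : Bool := Nat.beq m one || Nat.beq m T

theorem ck_all : (frcL ((List.range 81).map bm) fun B => frc t81 fun T => frcL d81.els fun A =>
    allL (fun m => allL (fun n => bad T m || bad T n || frc (mul m n) (bad T) || ck B T m n) A) A) = true := by
  decide +kernel

theorem els_f0 : ∀ m ∈ d81.els, (mx m (vv 16) = mx one (vv 16) → m = one) ∧ (mx m (vv 16) = mx t81 (vv 16) → m = t81) := by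
  decide +kernel

theorem planes : ∀ v : V, ∀ i j, bt (vm i) v.n = true → bt (vm j) v.n = true → v = 0 ∨ i = j := by decide +kernel

theorem nv_mem : ∀ i, bt (vm i) (nv i).n = true ∧ nv i ≠ 0 := by decide +kernel

theorem th_spec : ∀ j, mul (th j) (mul (th j) (th j)) = one ∧ (∀ v : V, bt (pm j) v.n = true → mx (th j) v = v) ∧
    mx (th j) (nv j) ≠ nv j := by decide +kernel

/-- The vectors used for the plane `i`. -/
def Vec (i : Fin 4) (u w n : V) : Prop :=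
  (bt (pm i) u.n = true ∧ bt (pm i) w.n = true ∧ bt (pm i) n.n = true ∧ bt (pm i) (0 : V).n = true) ∧
  (qb false u = false ∧ qb false w = false ∧ qb false n = true ∧ fb u w = false ∧ fb n u = false ∧ fb n w = false) ∧
  ((∃ v, u = v + mx t81 v) ∧ (∃ v, w = v + mx t81 v) ∧ ∃ v, n = v + mx t81 v) ∧
  (u ≠ 0 ∧ u ≠ vv 1 ∧ w ≠ 0 ∧ w ≠ vv 1 ∧ u + w ≠ 0 ∧ u + w ≠ vv 1) ∧
  ∀ α β, ∃ r : V, bt (pm i) r.n = true ∧ fb r u = α ∧ fb r w = β

theorem vec : ∀ i, Vec i (nv (i + 1) + nv (i + 2)) (nv (i + 2) + nv (i + 3)) (nv (i + 2)) := by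
  unfold Vec; decide +kernel

theorem mul_eq_mat (a b : ℕ) : mul a b = mat fun v => mx a (mx b v) := by
  have k : ∀ v, mx b v = lin (vv (ap b 0)) (vv (ap b 1)) (vv (ap b 2)) (vv (ap b 3)) (vv (ap b 4)) (vv (ap b 5))
    (vv (ap b 6)) (vv (ap b 7)) v := fun _ => rfl
  have e : ∀ a b c d e f g h : V, lin a b c d e f g h (vv 1) = a ∧ lin a b c d e f g h (vv 2) = b ∧
      lin a b c d e f g h (vv 4) = c ∧ lin a b c d e f g h (vv 8) = d ∧ lin a b c d e f g h (vv 16) = e ∧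
      lin a b c d e f g h (vv 32) = f ∧ lin a b c d e f g h (vv 64) = g ∧ lin a b c d e f g h (vv 128) = h :=
    fun a b c d e f g h => by
      refine ⟨?_, ?_, ?_, ?_, ?_, ?_, ?_, ?_⟩
      · change a + 0 + 0 + 0 + 0 + 0 + 0 + 0 = a; simp
      · change 0 + b + 0 + 0 + 0 + 0 + 0 + 0 = b; simp
      · change 0 + 0 + c + 0 + 0 + 0 + 0 + 0 = c; simp
      · change 0 + 0 + 0 + d + 0 + 0 + 0 + 0 = d; simp
      · change 0 + 0 + 0 + 0 + e + 0 + 0 + 0 = e; simp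
      · change 0 + 0 + 0 + 0 + 0 + f + 0 + 0 = f; simp
      · change 0 + 0 + 0 + 0 + 0 + 0 + g + 0 = g; simp
      · change 0 + 0 + 0 + 0 + 0 + 0 + 0 + h = h; simp
  obtain ⟨e0, e1, e2, e3, e4, e5, e6, e7⟩ := e (vv (ap b 0)) (vv (ap b 1)) (vv (ap b 2)) (vv (ap b 3)) (vv (ap b 4))
    (vv (ap b 5)) (vv (ap b 6)) (vv (ap b 7))
  rw [mul, frc_eq, frc_eq, mm, mat]
  simp only [k, e0, e1, e2, e3, e4, e5, e6, e7, ap_tb' a (ap_lt b _)]

theorem cm_of {a b : ℕ} (h : ∀ v, mx a (mx b v) = mx b (mx a v)) : cm a b = true := by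
  rw [cm, Nat.beq_eq, mul_eq_mat, mul_eq_mat, funext h]

variable {G : Type*} [Group G] [Finite G] {z a b c d f g p q s x y ρ : G} {τ : Bool} {π : G → V} {S : V → V}
  {i j : Fin 4} {O : Subgroup G} {m n : ℕ}

theorem mem_nz (h : cj g a ∈ zpowers a) : g ∈ normalizer (zpowers a : Set G) :=
  mem_normalizer_fintype (by rintro _ ⟨k, rfl⟩; exact conj_zpow (a := g) (b := a) (i := k) ▸ zpow_mem h k)

theorem nrm {X : Subgroup G} (h : g ∈ normalizer (X : Set G)) (c : Commute g f) :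
    g ∈ normalizer ((X ⊓ centralizer {f} : Subgroup G) : Set G) :=
  mem_normalizer_fintype fun x hx => ⟨cj_mem_of_normalizer h hx.1, Spor.mem_centralizer_singleton.2
    ((commute_cj_right_of c).2 (Spor.mem_centralizer_singleton.1 hx.2))⟩

theorem four {X : Subgroup G} (hX : Odd (Nat.card X)) (z2 : orderOf z = 2) (f2 : f * f = 1) (f1 : f ≠ 1) (zf : z ≠ f)
    (c : Commute z f) (nz : z ∈ normalizer (X : Set G)) (nf : f ∈ normalizer (X : Set G))
    (h : ∃ x ∈ X, ¬ Commute z x) : ∃ f', (f' = f ∨ f' = z * f) ∧ ∃ x ∈ X ⊓ centralizer {f'}, ¬ Commute z x := by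
  by_contra! k
  obtain ⟨x, hx, h⟩ := h
  exact h (Spor.mem_centralizer_singleton.1 (GT.le_of_four_group (H := centralizer {z}) z2
    (orderOf_eq_prime (by rw [pow_two, f2]) f1) zf c nz nf (fun e => (Nat.not_even_iff_odd.2 hX) (even_iff_two_dvd.2 e))
    inf_le_right (fun y hy => Spor.mem_centralizer_singleton.2 (k f (.inl rfl) y hy))
    (fun y hy => Spor.mem_centralizer_singleton.2 (k _ (.inr rfl) y hy)) hx))

theorem odd_inf {X Y : Subgroup G} (h : Odd (Nat.card X)) : Odd (Nat.card (X ⊓ Y : Subgroup G)) :=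
  h.of_dvd_nat (card_dvd_of_le inf_le_left)

/-- The odd core of the normaliser of `⟨a⟩`. -/
theorem exists_O (h : Lf z π O81 L81) (ha : a ∈ Kf z π i) (a3 : a ^ 3 = 1) (a1 : a ≠ 1) :
    ∃ O : Subgroup G, Odd (Nat.card O) ∧ (∀ g, cj g a ∈ zpowers a → g ∈ normalizer (O : Set G)) ∧
      (∀ x ∈ O, Commute a x) ∧ ∃ x ∈ O, ¬ Commute z x := by
  have za := k0 h.co ha
  have iso : ∀ y ∈ normalizer (zpowers a : Set G), Commute z (y * z * y⁻¹) → y * z * y⁻¹ = z := fun y hy c =>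
    k7 h ha a3 a1 (TT.isConj_cj y z) c (commute_cj_right.2 (by
      obtain ⟨k, e⟩ := cj_mem_of_normalizer (inv_mem hy) (mem_zpowers a)
      exact e ▸ za.symm.zpow_left k))
  have o := Nat.coprime_two_right.1 (GT.coprime_card_pPrimeCoreOf 2 (normalizer (zpowers a : Set G)))
  refine ⟨_, o, fun g hg => GT.le_normalizer_pPrimeCoreOf _ (mem_nz hg), fun x hx => ?_, ?_⟩
  · obtain ⟨k, e⟩ := cj_mem_of_normalizer (GT.pPrimeCoreOf_le _ hx) (mem_zpowers a)
    have o3 : orderOf a = 3 := orderOf_eq_prime a3 a1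
    have e' : a ^ (k % 3) = cj x a := by
      have := zpow_mod_orderOf a k
      rw [o3] at this
      exact this.trans e
    obtain k0 | k1 | k2 : k % 3 = 0 ∨ k % 3 = 1 ∨ k % 3 = 2 := by omega
    · rw [k0, zpow_zero, eq_comm, cj_eq_iff, cj_one_right] at e'
      exact absurd e' a1
    · rw [k1, zpow_one] at e'
      exact (cj_eq_self_iff.1 e'.symm).symm
    · rw [k2, zpow_two] at e'
      have c : Commute (x ^ 2) a := cj_eq_self_iff.1 (by
        rw [pow_two, ← cj_cj, ← e', cj_mul, ← e', ← mul_assoc, ← pow_three', a3, one_mul])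
      obtain ⟨l, hl⟩ := (mem_zpowers_pow_iff (g := x) (k := 2)).2
        (Nat.coprime_two_left.2 (Holt.odd_order_of_card o hx))
      exact hl ▸ (c.zpow_left l).symm
  · obtain ⟨g, c, k⟩ := not_le h ha a3 a1
    have hg := mem_nz (g := g) (a := a) (by rw [cj_of_commute c.symm]; exact mem_zpowers a)
    refine ⟨_, Holt.zstar h.co.bg.es.orderOf_z (mem_nz (by rw [cj_of_commute za]; exact mem_zpowers a)) iso g hg, fun e => k ?_⟩
    have := e.mul_right (Commute.refl z)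
    rw [commutatorElement_def, inv_mul_cancel_right] at this
    exact (cj_eq_self_iff.1 (iso g hg this)).symm

/-- The matrix `m` is induced by an element of the conjugate of `O` that is inverted by `s`. -/
def Rm (z : G) (π : G → V) (s ρ : G) (O : Subgroup G) (m : ℕ) : Prop :=
  ∃ y, cj ρ y ∈ O ∧ cj s y = y⁻¹ ∧ Ac z π y (mx m)

theorem odd_of (o : Odd (Nat.card O)) (hy : cj ρ y ∈ O) : Odd (orderOf y) :=
  orderOf_cj ρ y ▸ Holt.odd_order_of_card o hy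

theorem eq_one (h : Co z τ π) (o : Odd (Nat.card O)) (hy : cj ρ y ∈ O) (k : y ∈ QQ z) : y = 1 :=
  Holt.eq_one_of_odd_of_two h.bg.es.isPGroup k (odd_of o hy)

theorem Rm.mul (h : Co z τ π) (o : Odd (Nat.card O)) (k : Rm z π s ρ O m) (k' : Rm z π s ρ O n) (c : cm m n = true) :
    Rm z π s ρ O (mul m n) := by
  obtain ⟨y, h1, h2, h3⟩ := k
  obtain ⟨w, k1, k2, k3⟩ := k'
  have e := eq_one h o (ρ := ρ) (by simp only [cj_mul, cj_inv]; exact mul_mem (mul_mem h1 k1) (inv_mem (mul_mem k1 h1)))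
    (h.mul_inv_mem (h.ac_mul h3 k3) (h.ac_mul k3 h3) fun v => by
      rw [Function.comp, Function.comp, ← mx_mul, ← mx_mul, Nat.beq_eq.mp c])
  exact ⟨y * w, cj_mul ρ y w ▸ mul_mem h1 k1, by rw [cj_mul, h2, k2, ← mul_inv_rev, mul_inv_eq_one.1 e],
    (h.ac_mul h3 k3).congr fun v => (mx_mul m n v).symm⟩

theorem Rm.prods (h : Co z τ π) (o : Odd (Nat.card O)) {l l' : List ℕ} (k : ∀ m ∈ l, Rm z π s ρ O m)
    (k' : ∀ m ∈ l', Rm z π s ρ O m) : ∀ m ∈ prods l l', Rm z π s ρ O m := fun m hm => by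
  obtain ⟨a, ha, hm⟩ := List.mem_flatMap.1 hm
  obtain ⟨b, hb, rfl⟩ := List.mem_map.1 hm
  exact (k a ha).mul h o (k' b (mem_flt.1 hb).1) (mem_flt.1 hb).2

theorem Rm.cyc (h : Co z τ π) (o : Odd (Nat.card O)) {l : List ℕ} (c : cyc l = true) (k : ∃ m ∈ l, Rm z π s ρ O m) :
    ∀ m ∈ l, Rm z π s ρ O m := fun m hm => by
  obtain ⟨a, ha, k⟩ := k
  rcases Bool.or_eq_true_iff.1 (allL_iff.1 (allL_iff.1 c a ha) m hm) with e | e <;> rw [Nat.beq_eq.mp e]
  exacts [k, k.mul h o k (cm_of fun _ => rfl)]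

theorem perm_comm (h : Lf z π O81 L81) (cy : Ac z π y S) (cg : Ac z π g (mx m)) (c : Commute y g) {σ : Fin 4 → Fin 4}
    (e : ∀ i v, bt (vm (σ i)) (S v).n = bt (vm i) v.n) {k : Fin 4} (hk : pl m k) (i : Fin 4) :
    σ (xr k i) = xr k (σ i) := by
  obtain ⟨μ, hμ⟩ := k4 h cg
  have h1 : ∀ i, μ i = xr k i := fun i => (planes _ _ _ ((hμ i _).trans (nv_mem i).1) (hk i)).resolve_left
    fun e => (nv_mem i).2 ((h.co.iso cg).eq_zero.1 e)
  refine (planes (S (mx m (nv i))) _ _ ((e _ _).trans (hk i)) ?_).resolve_left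
    fun e => (nv_mem i).2 ((h.co.iso cg).eq_zero.1 ((h.co.iso cy).eq_zero.1 e))
  rw [h.co.ac_comm cy cg c, ← h1, hμ, e, (nv_mem i).1]

/-- The element attached to a pair of involutions. -/
theorem step (h : Lf z π O81 L81) (t : Tr z π p s ρ) (o : Odd (Nat.card O)) (nz : z ∈ normalizer (O : Set G))
    (hx : x ∈ O) (zx : ¬ Commute z x) (sx : Commute s x) (fx' : Commute f x) (gx : Commute g x) (zf : Commute z f)
    (zg : Commute z g) (cf : Ac z π (cj ρ⁻¹ f) (mx m)) (cg : Ac z π (cj ρ⁻¹ g) (mx n)) (r : reg m n = true) :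
    ∃ b ∈ fx ((List.range 81).map bm) m n, Rm z π s ρ O b := by
  have zs : Commute z s := t.ac.1
  have e1 : cj ρ⁻¹ s = z := by rw [← t.c1, cj_inv_cj]
  have e2 : cj ρ (z * s) = z := by rw [cj_mul, t.c1, t.c2, zs.eq, ← mul_assoc, ← t.c1, ← cj_mul, h.co.zz, cj_one_right, one_mul]
  have k : ∀ {u}, Commute u x → Commute z u → Commute (cj ρ⁻¹ (x * (cj z x)⁻¹)) (cj ρ⁻¹ u) := fun c c' =>
    TT.commute_cj.2 (c.mul_right ((commute_cj_right_of c').2 c).inv_right).symm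
  have h1 : cj ρ (cj ρ⁻¹ (x * (cj z x)⁻¹)) ∈ O := by
    rw [cj_cj_inv]; exact mul_mem hx (inv_mem (cj_mem_of_normalizer nz hx))
  have h2 : cj (z * s) (cj ρ⁻¹ (x * (cj z x)⁻¹)) = (cj ρ⁻¹ (x * (cj z x)⁻¹))⁻¹ := by
    rw [← cj_inj (g := ρ), cj_dist, e2, cj_inv, cj_cj_inv, cj_mul, cj_inv, cj_cj, h.co.zz, cj_one, mul_inv_rev, inv_inv]
  have h3 : cj ρ⁻¹ (x * (cj z x)⁻¹) ≠ 1 := fun e => by
    rw [cj_eq_iff, cj_one_right, mul_inv_eq_one, eq_comm, cj_eq_self_iff] at e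
    exact zx e
  have h4 := k sx zs
  have h5 := k fx' zf
  have h6 := k gx zg
  generalize cj ρ⁻¹ (x * (cj z x)⁻¹) = y at h1 h2 h3 h4 h5 h6
  rw [e1] at h4
  have h7 : cj s y = y⁻¹ := by
    rw [← cj_cj, cj_eq_iff, cj_of_commute h4.symm.inv_left.inv_right] at h2
    exact h2
  obtain ⟨S, cy⟩ := h.co.exists_ac h4.symm
  obtain ⟨σ, hσ⟩ := k4 h cy
  obtain ⟨c, d, c0, d0, cd, hc, hd⟩ := of_decide_eq_true r
  have h8 := xr_sq σ c d c0 d0 cd (perm_comm h cy cf h5 hσ hc) (perm_comm h cy cg h6 hσ hd)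
  have h9 : cj ρ (y * y) ∈ O := cj_mul ρ y y ▸ mul_mem h1 h1
  have cy2 := h.co.ac_mul cy cy
  obtain ⟨e, he, eS⟩ := k8 h.co cy2 (odd_of o h9) fun i v => by
    rw [← hσ i v, ← hσ (σ i), h8]; rfl
  rw [eS] at cy2
  refine ⟨bm e, mem_flt.2 ⟨List.mem_map.2 ⟨e, List.mem_range.2 he, rfl⟩, ?_⟩, y * y, h9,
    by rw [cj_mul, h7, mul_inv_rev], cy2⟩
  rw [cm_of (h.co.ac_comm cy2 cf (h5.mul_left h5)), cm_of (h.co.ac_comm cy2 cg (h6.mul_left h6))]
  cases e' : Nat.beq (bm e) one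
  · rfl
  · exact absurd (Holt.eq_one_of_odd_of_sq (odd_of o h1) (eq_one h.co o h9
      (h.co.mem_of_ac cy2 fun v => by rw [Nat.beq_eq.mp e', mx_one]))) h3

/-- Elements of `O` centralising `s` and two given involutions, but not `z`. -/
theorem good (h : Co z false π) (cs : Ac z π s (mx t81)) (ss : s * s = 1) (o : Odd (Nat.card O))
    (nR : ∀ r ∈ QQ z, bt (pm i) (π r).n = true → r ∈ normalizer (O : Set G)) (ns : s ∈ normalizer (O : Set G))
    (hO : ∃ x ∈ O, ¬ Commute z x) {u w n : V} (v : Vec i u w n) (hf : f ∈ QQ z) (hg : g ∈ QQ z) (ef : π f = u)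
    (eg : π g = w) : (Commute s f ∧ Commute s g) ∧
      ∃ x ∈ O, ¬ Commute z x ∧ Commute s x ∧ Commute f x ∧ Commute g x := by
  obtain ⟨⟨p1, p2, p3, p4⟩, ⟨q1, q2, q3, q4, q5, q6⟩, ⟨⟨u', r1⟩, ⟨w', r2⟩, n', r3⟩, ⟨n1, -, n2, -⟩, ex⟩ := v
  have z2 := h.bg.es.orderOf_z
  have nz := nR z h.bg.z_mem (h.self ▸ p4)
  have mc : ∀ {x y : G}, x ∈ centralizer ({y} : Set G) ↔ Commute y x := Spor.mem_centralizer_singleton
  have f2 := (h.sq f hf).2 (ef ▸ q1)
  have g2 := (h.sq g hg).2 (eg ▸ q2)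
  have sf : Commute s f := cj_eq_self_iff.1
    ((h.cj_of_range cs (.inl ss) hf (ef.trans r1)).trans (inv_eq_of_mul_eq_one_right f2))
  have sg : Commute s g := cj_eq_self_iff.1
    ((h.cj_of_range cs (.inl ss) hg (eg.trans r2)).trans (inv_eq_of_mul_eq_one_right g2))
  refine ⟨⟨sf, sg⟩, ?_⟩
  have ovr : ∀ {x y : G}, x ∈ QQ z → y = x ∨ y = z * x → y ∈ QQ z ∧ π y = π x := by
    rintro x _ hx (rfl | rfl)
    exacts [⟨hx, rfl⟩, ⟨mul_mem h.bg.z_mem hx, h.z_mul hx⟩]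
  have adj : ∀ {x y : G}, x ∈ QQ z → y ∈ QQ z → π y = π x → ∃ α, ∀ r ∈ QQ z, fb (π r) (π x) = α → cj r x = y :=
    fun hx hy e => ((h.eq_iff hy hx).1 e).elim
      (fun e => ⟨false, fun r hr k => (cj_of_commute ((h.comm _ hr _ hx).2 k)).trans e.symm⟩)
      fun e => ⟨true, fun r hr k => (h.cj_of_fb hr hx k).trans e.symm⟩
  obtain ⟨f', hf', h1⟩ := four o z2 f2 (fun e => n1 (by rw [← ef, e, h.one])) (fun e => n1 (by rw [← ef, ← e, h.self]))
    (h.bg.comm hf) nz (nR f hf (ef ▸ p1)) hO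
  obtain ⟨mf, ef'⟩ := ovr hf hf'
  obtain ⟨g', hg', x, hx, h2⟩ := four (odd_inf o) z2 g2 (fun e => n2 (by rw [← eg, e, h.one]))
    (fun e => n2 (by rw [← eg, ← e, h.self])) (h.bg.comm hg) (nrm nz (h.bg.comm mf))
    (nrm (nR g hg (eg ▸ p2)) ((h.comm _ hg _ mf).2 (by rw [ef', ef, eg, fb_comm, q4]))) h1
  obtain ⟨mg, eg'⟩ := ovr hg hg'
  obtain ⟨α, hα⟩ := adj mf hf ef'.symm
  obtain ⟨β, hβ⟩ := adj mg hg eg'.symm
  obtain ⟨r, r4, r5, r6⟩ := ex α β
  obtain ⟨r, hr, rfl⟩ := h.surj r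
  have h3 : ∃ x ∈ O ⊓ centralizer {f} ⊓ centralizer {g}, ¬ Commute z x :=
    ⟨cj r x, ⟨⟨cj_mem_of_normalizer (nR r hr r4) hx.1.1,
      mc.2 (hα r hr (by rw [ef', ef, r5]) ▸ TT.commute_cj.2 (mc.1 hx.1.2))⟩,
      mc.2 (hβ r hr (by rw [eg', eg, r6]) ▸ TT.commute_cj.2 (mc.1 hx.2))⟩,
      fun e => h2 ((commute_cj_right_of (h.bg.comm hr).symm).1 e)⟩
  obtain ⟨k, hk, rfl⟩ := h.surj n
  have kk := (h.sq' hk).2 q3
  have ks : cj k s = z * s := by
    rw [← kk, show cj k s = k * (cj s k)⁻¹ * s by simp [cj, mul_assoc], h.cj_of_range cs (.inl ss) hk r3, inv_inv]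
  have s1 : ∀ {y}, y = 1 ∨ y = z → s ≠ y := fun {y} hy e => by
    have : Commute k s := by
      rcases hy with rfl | rfl <;> rw [e]
      exacts [Commute.one_right k, (h.bg.comm hk).symm]
    exact h.bg.ne_one (by simpa [cj_of_commute this] using ks)
  obtain ⟨s', hs', x, hx, h4⟩ := four (odd_inf (odd_inf o)) z2 ss (s1 (.inl rfl)) (s1 (.inr rfl)).symm cs.1
    (nrm (nrm nz (h.bg.comm hf)) (h.bg.comm hg)) (nrm (nrm ns sf) sg) h3
  rcases hs' with rfl | rfl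
  · exact ⟨x, hx.1.1.1, h4, mc.1 hx.2, mc.1 hx.1.1.2, mc.1 hx.1.2⟩
  · refine ⟨cj k x, cj_mem_of_normalizer (nR k hk p3) hx.1.1.1,
      fun e => h4 ((commute_cj_right_of (h.bg.comm hk).symm).1 e), ?_,
      (commute_cj_right_of ((h.comm _ hk _ hf).2 (ef ▸ q5))).2 (mc.1 hx.1.1.2),
      (commute_cj_right_of ((h.comm _ hk _ hg).2 (eg ▸ q6))).2 (mc.1 hx.1.2)⟩
    have := (TT.commute_cj (g := k)).2 (mc.1 hx.2)
    rwa [cj_mul, ks, cj_of_commute (h.bg.comm hk).symm, h.bg.es.z_mul_z_mul] at this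

end Z

variable {G : Type*} [Group G] [Finite G] {z a b c d f g p q s x y ρ : G} {τ : Bool} {π : G → V} {S : V → V} {i j : Fin 4}

open Z FusA in
theorem exists_comm (h : Lf z π O81 L81) (t : Tr z π p s ρ) (ha : a ∈ Kf z π i) (a3 : a ^ 3 = 1) (a1 : a ≠ 1)
    (sa : cj s a = a⁻¹) (j : Fin 4) :
    ∃ c ∈ Kf z π j, c ^ 3 = 1 ∧ c ≠ 1 ∧ cj s c = c⁻¹ ∧ Commute a (cj ρ c) := by
  obtain ⟨O, o, nO, cO, hO⟩ := exists_O h ha a3 a1
  have co := h.co
  have ss : s * s = 1 := by rw [← t.c1, ← cj_mul, co.zz, cj_one_right]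
  have nR : ∀ r ∈ QQ z, bt (pm i) (π r).n = true → r ∈ normalizer (O : Set G) := fun r hr e =>
    nO r ((cj_of_commute (mem_centralizer_iff.1 ha r ⟨hr, e⟩)).symm ▸ mem_zpowers a)
  obtain ⟨u, w, n, v⟩ : ∃ u w n, Vec i u w n := ⟨_, _, _, vec i⟩
  have gd := fun f g => good (f := f) (g := g) co t.ac ss o nR (nO s (sa ▸ inv_mem (mem_zpowers a))) hO v
  obtain ⟨⟨-, -, -, p4⟩, -, -, ⟨n1, n2, n3, n4, n5, n6⟩, -⟩ := v
  obtain ⟨f, hf, ef⟩ := co.surj u
  obtain ⟨g, hg, eg⟩ := co.surj w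
  have t' := t.symm co
  obtain ⟨sf, sg⟩ := (gd f g hf hg ef eg).1
  obtain ⟨-, m, hm, cf, bf⟩ := t'.star co hf ((co.bg.comm hf).mul_left sf)
  obtain ⟨-, n, hn, cg, bg⟩ := t'.star co hg ((co.bg.comm hg).mul_left sg)
  obtain ⟨-, l, hl, cl, bl⟩ := t'.star co (mul_mem hf hg)
    ((co.bg.comm (mul_mem hf hg)).mul_left (sf.mul_right sg))
  have nb : ∀ {m}, bad t81 m = true → m = one ∨ m = t81 := fun e => by simpa [bad] using e
  have key : ck ((List.range 81).map bm) t81 m n = true := by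
    have := ck_all
    simp only [frcL_eq, frc_eq, allL_iff, Bool.or_eq_true] at this
    refine (this m hm n hn).resolve_left ?_
    rintro ((e | e) | e)
    · exact (ef ▸ bf (nb e)).elim n1 n2
    · exact (eg ▸ bg (nb e)).elim n3 n4
    · have e' : mx l (vv 16) = mx (mul m n) (vv 16) :=
        (co.ac_ext cl (cj_mul ρ⁻¹ f g ▸ co.ac_mul cf cg) _).trans (mx_mul m n _).symm
      have := bl ((nb e).imp (fun e => (els_f0 l hl).1 (by rw [e', e])) fun e => (els_f0 l hl).2 (by rw [e', e]))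
      rw [co.mul f hf g hg, ef, eg] at this
      exact this.elim n5 n6
  have zm : ∀ {f m}, Ac z π (cj ρ⁻¹ f) (mx m) → Ac z π (cj ρ⁻¹ (z * f)) (mx (mul t81 m)) := fun c => by
    rw [cj_mul, t'.c1]
    exact (co.ac_mul t'.ac c).congr fun v => (mx_mul _ _ v).symm
  have st : ∀ {f g m n}, f ∈ QQ z → g ∈ QQ z → π f = u → π g = w → Ac z π (cj ρ⁻¹ f) (mx m) →
      Ac z π (cj ρ⁻¹ g) (mx n) → reg m n = true → cyc (fx ((List.range 81).map bm) m n) = true →
      ∀ b ∈ fx ((List.range 81).map bm) m n, Rm z π s ρ O b := fun hf hg ef eg cf cg r c =>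
    let ⟨x, hx, h1, h2, h3, h4⟩ := (gd _ _ hf hg ef eg).2
    Rm.cyc co o c (step h t o (nR z co.bg.z_mem (co.self ▸ p4)) hx h1 h2 h3 h4 (co.bg.comm hf) (co.bg.comm hg) cf cg r)
  have hf' := mul_mem co.bg.z_mem hf
  have hg' := mul_mem co.bg.z_mem hg
  have ef' := (co.z_mul hf).trans ef
  have eg' := (co.z_mul hg).trans eg
  simp only [ck, frcL_eq, frc_eq, Bool.and_eq_true, decide_eq_true_eq, mem_iff] at key
  obtain ⟨⟨⟨⟨r1, r2⟩, r3, r4⟩, ⟨c1, c2⟩, c3, c4⟩, key⟩ := key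
  obtain ⟨c, h1, h2, h3⟩ := Rm.prods co o
    (Rm.prods co o (st hf hg ef eg cf cg r1 c1) (st hf' hg ef' eg (zm cf) cg r2 c2))
    (Rm.prods co o (st hf hg' ef eg' cf (zm cg) r3 c3) (st hf' hg' ef' eg' (zm cf) (zm cg) r4 c4)) _ (key j)
  obtain ⟨e1, e2, e3⟩ := th_spec j
  have c3 : c ^ 3 = 1 := eq_one co o (cj_pow ρ c 3 ▸ pow_mem h1 3) (by
    rw [pow_three]
    exact co.mem_of_ac (co.ac_mul h3 (co.ac_mul h3 h3)) fun v => by
      have := mx_one v
      rwa [← e1, mx_mul, mx_mul] at this)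
  exact ⟨c, k2 co h3 c3 e2, c3, fun e => e3 (co.ac_ext h3 (co.ac_mem (e ▸ one_mem _)) _), h2, cO _ h1⟩

end Cfsg.Agent.W4.P3
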