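import Mathlib
import Cfsg.Agent.W4.Bd
import Cfsg.Agent.ThR.Main

/-! The system `A9`: the centraliser of `z` permutes nine totally singular subspaces as `A9`. -/

set_option autoImplicit false
set_option maxRecDepth 100000
set_option linter.unusedVariables false

namespace Cfsg.Agent.W4

open Cfsg.Agent.Spor Cfsg.Agent.Spor.TT Cfsg.Agent.LX Cfsg.Agent.Gr6 Cfsg.Agent.W3 Subgroup

namespace ThA

open Equiv

/-- The number of the subspace containing a singular vector, as a table. -/
def CL : ℕ := 0x1090905090706090908020903090904090901080305090906070909090902040901090608090209030905090907090403070201090909090909090905060804090205090906030901090908070909040708090905020909090901060909030406090309070908090901090509020904090909090909090907020301080506040905070901090906090308090209090408030909090901050206090909090704020906090901090805090709090309040909090902030701090909090608050405090903060909020809090701090904090908020909050709090603090901040906090709080903090509020901090400000000000000000000000000000009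

/-- A fixed vector in the subspace of a singular vector, as a table. -/
def RV : ℕ := 0x12000016001c1e00001a1400180000100000121a181600001e1c0000000014100012001e1a00140018001600001c0010181c14120000000000000000161e1a1000141600001e18001200001a1c0000101c1a0000161400000000121e000018101e0018001c001a00001200160014001000000000000000001c1418121a161e1000161c001200001e00181a00140000101a18000000001216141e000000001c1014001e000012001a16001c00001800100000000014181c12000000001e1a1610160000181e0000141a00001c1200001000001a140000161c00001e1800001210001e001c001a0018001600140012001001010101010101010101010101010100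

/-- The number of the subspace. -/
def cl (v : V) : ℕ := ap CL v.n

/-- The representatives. -/
def rp (i : Fin 9) : V := vv (ap 0x1a1c1e161018141201 i)

theorem cl_rp : ∀ i : Fin 9, cl (rp i) = i := by decide +kernel

theorem cl_lt : ∀ v : V, cl v < 9 ↔ qb false v = false ∧ v ≠ 0 := by decide +kernel

theorem rv_eq : ∀ v : V, ap RV v.n = ap 0x1a1c1e161018141201 (cl v) ∧ cl (vv (ap RV v.n)) = cl v := by
  decide +kernel

/-- The map respects the subspaces. -/
def Pr (T : V → V) : Prop := ∀ u v, cl u = cl v → cl (T u) = cl (T v)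

/-- The test for `Pr`. -/
def prB (m : ℕ) : Bool := frc (tb m) fun t => allN (fun v => Nat.beq (ap CL (ap t v)) (ap CL (ap t (ap RV v)))) 256

theorem pr_of_prB {m : ℕ} (h : prB m = true) : Pr (mx m) := fun u v e => by
  rw [prB, frc_eq, allN_iff] at h
  have k : ∀ v : V, cl (mx m v) = ap CL (ap (tb m) (ap RV v.n)) := fun v => by
    simpa only [Nat.beq_eq, ap_tb, cl] using h _ v.lt
  rw [k, k, (rv_eq u).1, (rv_eq v).1, e]

theorem cl_iso {T : V → V} (h : Iso false T) (i : Fin 9) : cl (T (rp i)) < 9 := by
  rw [cl_lt, h.q, Ne, h.eq_zero, ← Ne, ← cl_lt, cl_rp]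
  exact i.2

theorem prB_N : allL prB N135 = true := by decide +kernel

theorem prB_gn (i : ℕ) : prB (gn L135 i) = true := by
  have h1 : ∀ m ∈ one :: L135.flatMap fun d => [d.a, d.b, d.c], prB m = true := by decide +kernel
  refine h1 _ ?_
  rw [gn, List.getD_eq_getElem?_getD]
  cases e : (L135.flatMap fun d => [d.a, d.b, d.c])[i]? with
  | none => exact List.mem_cons_self
  | some m => exact List.mem_cons_of_mem _ (List.mem_of_getElem? e)

theorem pr_wm (w : List ℕ) {n : ℕ} (hn : n ∈ N135) : Pr (mx (mul (wm (gn L135) w) n)) := by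
  induction w with
  | nil =>
    rw [show mx (mul (wm (gn L135) []) n) = mx n from funext fun v => (mx_mul _ _ v).trans (mx_one _)]
    exact pr_of_prB (allL_iff.1 prB_N n hn)
  | cons i w ih =>
    rw [show mx (mul (wm (gn L135) (i :: w)) n) = mx (gn L135 i) ∘ mx (mul (wm (gn L135) w) n) from
      funext fun v => (mx_mul _ _ v).trans ((mx_mul _ _ _).trans (congrArg _ (mx_mul _ _ v).symm))]
    exact fun u v e => pr_of_prB (prB_gn i) _ _ (ih u v e)

/-- The adjacent transpositions. -/
def sw9 (i : Fin 8) : Perm (Fin 9) := swap i.castSucc i.succ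

/-- Words for generators of `A9`. -/
def wd9 (i : Fin 8) : List ℕ := [[], [2, 8, 5, 3, 8, 1], [1, 4, 0, 8, 1, 0], [5, 4, 6, 1, 7, 3, 1],
  [5, 3, 6, 2, 8, 0, 4, 0], [6, 5, 8, 3, 1, 5], [7, 2, 7, 4, 8, 4], [2, 7, 0, 5, 7, 5, 3, 0]].getD i []

theorem wd9_spec : ∀ i : Fin 8, frc (tb (wm (gn L135) (wd9 i))) (fun t => decide (∀ j : Fin 9,
    ap CL (ap t (rp j).n) = sw9 0 (sw9 i j))) = true := by decide +kernel

theorem alt_le {K : Subgroup (Perm (Fin 9))} (h : ∀ i, sw9 0 * sw9 i ∈ K) : alternatingGroup (Fin 9) ≤ K := by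
  have hs : ∀ i, Perm.sign (sw9 i) = -1 := fun i => Perm.sign_swap (Fin.castSucc_lt_succ (i := i)).ne
  have h3 : ∀ σ : Perm (Fin 9), (Perm.sign σ = 1 → σ ∈ K) ∧ (Perm.sign σ = -1 → sw9 0 * σ ∈ K) := by
    intro σ
    have : σ ∈ Submonoid.closure (Set.range sw9) := by
      exact (Perm.mclosure_swap_castSucc_succ 8).symm ▸ Submonoid.mem_top σ
    induction this using Submonoid.closure_induction_left with
    | one => exact ⟨fun _ => K.one_mem, fun h => by simp at h⟩
    | mul_left x hx y _ ih =>
      obtain ⟨i, rfl⟩ := hx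
      rw [map_mul, hs]
      refine ⟨fun e => ?_, fun e => ?_⟩
      · have h1 := mul_mem (inv_mem (h i)) (ih.2 (neg_eq_iff_eq_neg.1 (by simpa using e)))
        rwa [mul_inv_rev, mul_assoc, inv_mul_cancel_left, show (sw9 i)⁻¹ = sw9 i from swap_inv _ _] at h1
      · rw [← mul_assoc]
        exact mul_mem (h i) (ih.1 (by simpa using e))
  exact fun σ hσ => (h3 σ).1 hσ

theorem card_le {α β γ : Type*} (A : List α) (B : List β) (f : α → β → γ) {S : Set γ}
    (h : ∀ x ∈ S, ∃ a ∈ A, ∃ b ∈ B, x = f a b) : S.ncard ≤ A.length * B.length := by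
  classical
  refine (Set.ncard_le_ncard (t := (((A ×ˢ B).map fun p => f p.1 p.2).toFinset : Set γ)) (fun x hx => ?_)).trans ?_
  · obtain ⟨a, ha, b, hb, rfl⟩ := h x hx
    simpa using ⟨a, b, ⟨ha, hb⟩, rfl⟩
  · rw [Set.ncard_coe_finset, ← List.length_product]
    exact (List.toFinset_card_le _).trans (List.length_map _).le

end ThA

open ThA

variable {G : Type*} [Group G] [Finite G] {z a g s t t0 t1 u : G} {τ : Bool} {π : G → V} {T : V → V} {O : ℕ} {L : List PD}

/-- PLAN section Th. -/
theorem Lf.th [IsSimpleGroup G] (h : Lf z π O135 L135) : Cfsg.Spor.IsoTh G := by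
  obtain ⟨φ, h1, h2⟩ := h.co.exists_act
  have hP : ∀ g, Pr (φ g) := fun g => by
    obtain ⟨p, -, n, hn, e⟩ := h.bound135 _ _ (h1 g)
    exact e ▸ pr_wm p.2 hn
  let ψ₀ : centralizer ({z} : Set G) →* Function.End (Fin 9) :=
    { toFun := fun g i => ⟨cl (φ g (rp i)), cl_iso (h.co.iso (h1 g)) i⟩
      map_one' := funext fun i => Fin.ext ((congrArg (fun f : Equiv.Perm V => cl (f (rp i))) φ.map_one).trans (cl_rp i))
      map_mul' := fun a b => funext fun i => Fin.ext ((congrArg (fun f : Equiv.Perm V => cl (f (rp i)))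
        (φ.map_mul a b)).trans (hP a _ _ (cl_rp ⟨_, cl_iso (h.co.iso (h1 b)) i⟩).symm)) }
  let ψ := ψ₀.toHomPerm
  have h3 : ∀ g i, (ψ g i : ℕ) = cl (φ g (rp i)) := fun g i => rfl
  have h4 : alternatingGroup (Fin 9) ≤ ψ.range := alt_le fun i => by
    obtain ⟨g, c⟩ := h.rl (wd9 i)
    refine ⟨⟨g, Spor.mem_centralizer_singleton.2 c.1⟩, Equiv.ext fun j => Fin.ext ?_⟩
    have k := wd9_spec i
    rw [frc_eq, decide_eq_true_iff] at k
    rw [h3, h.co.ac_ext (h1 _) c, cl, ← ap_tb, k]
    rfl
  have h5 : φ.ker ≤ ψ.ker := fun g hg => Equiv.ext fun j => Fin.ext (by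
    rw [h3, show φ g = 1 from hg]; exact cl_rp j)
  have h6 : φ.ker.index ≤ 181440 := by
    rw [index_ker, ← SetLike.coe_sort_coe, Nat.card_coe_set_eq,
      ← Set.ncard_image_of_injective _ (DFunLike.coe_injective (F := Equiv.Perm V))]
    refine (card_le W135 N135 (fun p n => mx (mul (wm (gn L135) p.2) n)) ?_).trans (by decide +kernel)
    rintro _ ⟨_, ⟨g, rfl⟩, rfl⟩
    exact h.bound135 _ _ (h1 g)
  have h7 : Nat.card (alternatingGroup (Fin 9)) = 181440 := by
    have := two_mul_nat_card_alternatingGroup (α := Fin 9)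
    rw [Nat.card_perm, Nat.card_eq_fintype_card (α := Fin 9), Fintype.card_fin] at this
    exact Nat.eq_of_mul_eq_mul_left two_pos (this.trans (by decide))
  have h8 := card_le_of_le h4
  have h9 := index_antitone h5
  rw [index_ker ψ] at h9
  have h10 : ψ.range = alternatingGroup (Fin 9) := (eq_of_le_of_card_ge h4 (by omega)).symm
  have h11 : φ.ker = ψ.ker := eq_of_le_of_card_ge h5 (by
    have k1 := φ.ker.card_mul_index
    have k2 := ψ.ker.card_mul_index
    rw [index_ker ψ, h10, h7] at k2
    rw [show φ.ker.index = 181440 by omega] at k1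
    omega)
  have h12 : ψ.ker = (QQ z).subgroupOf (centralizer {z}) := h11 ▸ Subgroup.ext h2
  have h13 : QQ z ≤ centralizer {z} := fun q hq => Spor.mem_centralizer_singleton.2 (h.co.bg.comm hq)
  have e := subgroupOfEquivOfLe h13
  refine (ThR.ty_of_simple (Q := ψ.ker) h.co.bg.es.orderOf_z ?_ ?_ ?_
    ((QuotientGroup.quotientKerEquivRange ψ).trans (MulEquiv.subgroupCongr h10))).iso
  · rw [h12]; exact isExtraspecial_congr e.symm h.co.bg.es.isExtraspecial
  · rw [h12, Nat.card_congr e.toEquiv, h.co.card]; rfl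
  · rw [h12]
    exact fun c hc => h.co.bg.lg.centralizer_le fun q hq => congrArg Subtype.val (hc ⟨q, h13 hq⟩ hq)

end Cfsg.Agent.W4
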