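import Mathlib
import Cfsg.Agent.W4.L0
import Cfsg.Agent.W4.M
import Cfsg.Agent.Spor.FL.Lab

/-! A long root element of `O₈⁺(2)`. -/

set_option autoImplicit false
set_option maxRecDepth 100000
set_option synthInstance.maxSize 10000
set_option linter.unusedVariables false

namespace Cfsg.Agent.W4.X

open Cfsg.Agent.Spor Cfsg.Agent.Spor.TT Cfsg.Agent.LX Cfsg.Agent.Gr6 Cfsg.Agent.Cl Subgroup

/-- The orthogonal group `O₈⁺(2)`. -/
abbrev Γ : Type := OG (qf false)

/-- The group `Ω₈⁺(2)`. -/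
noncomputable def Om : Subgroup Γ := (dickson (qf_nondeg false)).ker

/-- A long root element. -/
noncomputable def z0 : Γ := eich (qf false) (vv 1) (vv 2)

theorem fixpt {P α : Type*} [Group P] (hP : IsPGroup 2 P) (f : P → α → α) (S : Finset α) (h1 : ∀ a ∈ S, f 1 a = a)
    (hm : ∀ g h, ∀ a ∈ S, f (g * h) a = f g (f h a)) (hS : ∀ g, ∀ a ∈ S, f g a ∈ S) (ho : ¬ 2 ∣ S.card) :
    ∃ a ∈ S, ∀ g, f g a = a := by
  letI : MulAction P S := { smul g a := ⟨f g a, hS g a a.2⟩, one_smul a := Subtype.ext (h1 a a.2)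
                            mul_smul g h a := Subtype.ext (hm g h a a.2) }
  obtain ⟨a, ha⟩ := hP.nonempty_fixed_point_of_prime_not_dvd_card S (by simpa using ho)
  exact ⟨a, a.2, fun g => congrArg Subtype.val (ha g)⟩

instance : Finite Γ := Finite.of_injective (fun (g : Γ) (v : V) => g.1 v) fun _ _ e => OG.ext (congrFun e)

theorem iso (g : Γ) : Iso false g.1 := ⟨map_add g.1, fun v => b2_inj.1 (g.2 v)⟩

theorem cj_eich (g : Γ) {x w : V} (hx : qb false x = false) (hw : fb x w = false) :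
    cj g (eich (qf false) x w) = eich (qf false) (g.1 x) (g.1 w) := OG.ext fun v => by
  rw [cj, OG.mul_app, OG.mul_app, LZ.eich_eq hx hw, (iso g).rho, OG.app_inv_app,
    LZ.eich_eq (((iso g).q x).trans hx) (((iso g).f x w).trans hw)]

theorem eich_mem (x w : V) : eich (qf false) x w ∈ Om :=
  dickson_eich_of_not_oExc _ (not_oExc_of_finrank (by rw [LZ.finrank_V]; decide)) x w

theorem z0_app (v : V) : z0.1 v = rho false (vv 1) (vv 2) v := LZ.eich_eq rfl rfl v

/-- The first parameter. -/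
def uu (p : V) (b : Bool) : V := mx 0x80400804 p + sm b (vv 2)
/-- The second parameter. -/
def ww (p : V) : V := mx 0x0804804000000000 p
/-- The coordinates. -/
def pk0 (x y : V) : V := mx 0x0804000002010000 x + mx 0x2010000080400000 y
/-- The maps induced by the elements of `Q`. -/
def El (p : V) (b : Bool) (v : V) : V := rho false (vv 1) (uu p b) (rho false (vv 2) (ww p) v)
/-- The elements of `Q`. -/
noncomputable def el (p : V) (b : Bool) : Γ := eich (qf false) (vv 1) (uu p b) * eich (qf false) (vv 2) (ww p)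
/-- The coordinates of an element of `Q`. -/
def π0 (g : Γ) : V := pk0 (g.1 (vv 16)) (g.1 (vv 32))

theorem c_u : ∀ p b, fb (uu p b) (vv 1) = false ∧ fb (uu p b) (vv 2) = false ∧ fb (ww p) (vv 1) = false ∧
    fb (ww p) (vv 2) = false ∧ pk0 (El p b (vv 16)) (El p b (vv 32)) = p ∧ El p b (vv 16) ≠ El p (!b) (vv 16) ∧
    (p = 0 ∨ ∃ r ∈ [1, 2, 4, 8, 16, 32, 64, 128], fb (uu (vv r) false) (ww p) ≠ fb (uu p b) (ww (vv r))) := by
  decide +kernel

theorem c_l : ∀ x, fb x (vv 1) = true → fb x (vv 2) = false → qb false x = false → ∀ y, fb y (vv 1) = false →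
    fb y (vv 2) = true → qb false y = false → fb x y = false → ∃ b, El (pk0 x y) b (vv 16) = x ∧ El (pk0 x y) b (vv 32) = y ∧
      ∀ n ∈ [4, 8, 64, 128], El (pk0 x y) b (vv n) = vv n + sm (fb (vv n) x) (vv 1) + sm (fb (vv n) y) (vv 2) := by
  decide +kernel

theorem c_z : ∀ v, rho false (vv 1) (vv 2) v = v + sm (fb v (vv 2)) (vv 1) + sm (fb v (vv 1)) (vv 2) ∧
    (rho false (vv 1) (vv 2) v = v ↔ fb v (vv 1) = false ∧ fb v (vv 2) = false) ∧ El 0 true v = rho false (vv 1) (vv 2) v ∧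
    El 0 false v = v ∧ rho false (vv 2) (vv 1) v = rho false (vv 1) (vv 2) v := by decide +kernel

theorem el_app (p : V) (b : Bool) (v : V) : (el p b).1 v = El p b v := by
  rw [el, OG.mul_app, LZ.eich_eq rfl ((fb_comm _ _).trans (c_u p b).1), LZ.eich_eq rfl ((fb_comm _ _).trans (c_u p b).2.2.2.1)]
  rfl

theorem π0_el (p : V) (b : Bool) : π0 (el p b) = p := by rw [π0, el_app, el_app, (c_u p b).2.2.2.2.1]

theorem el_mul (p r : V) (b c : Bool) : el p b * el r c = el (p + r) (b ^^ c ^^ fb (uu r c) (ww p)) := OG.ext fun v => by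
  obtain ⟨h1, h2, h3, h4, -⟩ := c_u p b
  obtain ⟨k1, k2, k3, k4, -⟩ := c_u r c
  rw [OG.mul_app, el_app, el_app, el_app, El, El, El, (iso_rho rfl h4).rho, rho_rho h4 k4, rho_of_perp (v := vv 1) rfl,
    fb_comm, h3, sm_false, add_zero, rho_of_perp k2, rho_rho h1 (by rw [fb_add_left, k1, fb_sm_left]; simp; intro; rfl)]
  simp only [uu, ww, mx_add, sm_xor]
  congr 1
  abel

theorem z0_eq : z0 = el 0 true := OG.ext fun v => by rw [z0_app, el_app, (c_z v).2.2.1]

theorem one_eq : 1 = el 0 false := OG.ext fun v => by rw [el_app, (c_z v).2.2.2.1]; rfl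

theorem z0_mul (p : V) (b : Bool) : z0 * el p b = el p (!b) := by
  rw [z0_eq, el_mul, zero_add, ww, mx_zero, fb_zero, Bool.xor_false, Bool.true_xor]

theorem el_inj {p r : V} {b c : Bool} (h : el p b = el r c) : p = r ∧ b = c := by
  obtain rfl : p = r := by rw [← π0_el p b, h, π0_el]
  refine ⟨rfl, by_contra fun k => (c_u p b).2.2.2.2.2.1 ?_⟩
  rw [← el_app, h, el_app, Bool.eq_not_of_ne (Ne.symm k)]

theorem eqv_el (p : V) (b c : Bool) : Eqv z0 (el p b) (el p c) := by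
  by_cases h : b = c
  · exact .inl (h ▸ rfl)
  · exact .inr (by rw [z0_mul, Bool.eq_not_of_ne h])

/-- The extraspecial group. -/
noncomputable def Q0 : Subgroup Γ where
  carrier := {g | ∃ p b, g = el p b}
  one_mem' := ⟨_, _, one_eq⟩
  mul_mem' := by rintro _ _ ⟨p, b, rfl⟩ ⟨r, c, rfl⟩; exact ⟨_, _, el_mul ..⟩
  inv_mem' := by
    rintro _ ⟨p, b, rfl⟩
    rcases eqv_el 0 (b ^^ b ^^ fb (uu p b) (ww p)) false with e | e <;> rw [← one_eq, ← add_self p, ← el_mul] at e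
    · exact ⟨p, b, inv_eq_of_mul_eq_one_right e⟩
    · exact ⟨p, !b, inv_eq_of_mul_eq_one_left (by rw [← z0_mul, mul_assoc, e, mul_one, z0_eq, el_mul, add_self, one_eq]; rfl)⟩

theorem mem_Q0 {g : Γ} : g ∈ Q0 ↔ g.1 (vv 1) = vv 1 ∧ g.1 (vv 2) = vv 2 ∧
    ∀ v, z0.1 v = v → ∃ u, v + g.1 v = u + z0.1 u := by
  constructor
  · rintro ⟨p, b, rfl⟩
    obtain ⟨h1, h2, h3, h4, -⟩ := c_u p b
    have k : ∀ v, fb v (vv 1) = false → fb v (vv 2) = false →
        El p b v = v + sm (fb v (uu p b)) (vv 1) + sm (fb v (ww p)) (vv 2) := fun v k1 k2 => by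
      rw [El, rho_of_perp k2, rho_of_perp (by rw [fb_add_left, k1, fb_sm_left]; simp; intro; rfl), fb_add_left, fb_sm_left,
        fb_comm (vv 2), h2, Bool.and_false, Bool.xor_false, add_right_comm]
    refine ⟨by rw [el_app, k _ rfl rfl, fb_comm, h1, fb_comm, h3]; rfl, by rw [el_app, k _ rfl rfl, fb_comm, h2, fb_comm, h4]; rfl,
      fun v hv => ?_⟩
    obtain ⟨k1, k2⟩ := (c_z v).2.1.1 (z0_app v ▸ hv)
    rw [el_app, k v k1 k2, add_assoc, add_add_self]
    simp only [z0_app]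
    generalize fb v (uu p b) = i
    generalize fb v (ww p) = j
    revert i j
    decide +kernel
  rintro ⟨h1, h2, h3⟩
  have i := iso g
  have f1 : ∀ v, fb (g.1 v) (vv 1) = fb v (vv 1) := fun v => by rw [← i.f v, h1]
  have f2 : ∀ v, fb (g.1 v) (vv 2) = fb v (vv 2) := fun v => by rw [← i.f v, h2]
  obtain ⟨b, k1, k2, k3⟩ := c_l _ (f1 (vv 16)) (f2 _) (i.q _) _ (f1 (vv 32)) (f2 _) (i.q _) (i.f _ _)
  have k : ∀ n ∈ [4, 8, 64, 128], g.1 (vv n) = El (π0 g) b (vv n) := fun n hn => by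
    have ⟨n1, n2, n3, n4⟩ : fb (vv n) (vv 1) = false ∧ fb (vv n) (vv 2) = false ∧ fb (vv n) (vv 16) = false ∧
      fb (vv n) (vv 32) = false := by revert n; decide +kernel
    obtain ⟨u, e⟩ := h3 (vv n) ((z0_app _).trans ((c_z _).2.1.2 ⟨n1, n2⟩))
    rw [z0_app, (c_z u).1, add_assoc, add_add_self, add_comm, add_eq_iff, add_comm, ← add_assoc] at e
    have e1 := i.f (vv n) (vv 16)
    have e2 := i.f (vv n) (vv 32)
    rw [e, fb_add_left, fb_add_left, fb_sm_left, fb_sm_left, fb_comm (vv 1), fb_comm (vv 2), f1, f2] at e1 e2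
    rw [π0, k3 n hn, e, show fb u (vv 2) = fb (vv n) (g.1 (vv 16)) by
      revert e1; rw [n3]; cases fb u (vv 2) <;> cases fb u (vv 1) <;> cases fb (vv n) (g.1 (vv 16)) <;> decide,
      show fb u (vv 1) = fb (vv n) (g.1 (vv 32)) by
      revert e2; rw [n4]; cases fb u (vv 2) <;> cases fb u (vv 1) <;> cases fb (vv n) (g.1 (vv 32)) <;> decide]
  have ⟨m1, m2⟩ := (by decide +kernel : ∀ p b, El p b (vv 1) = vv 1 ∧ El p b (vv 2) = vv 2) (π0 g) b
  refine ⟨π0 g, b, OG.ext fun v => ?_⟩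
  rw [i.eq_lin, (iso (el _ b)).eq_lin v]
  simp only [el_app]
  rw [h1, h2, m1, m2, k 4 (by decide), k 8 (by decide), k 64 (by decide), k 128 (by decide), π0, k1, k2]

theorem es0 : ES2 Q0 z0 := by
  refine ⟨⟨_, _, z0_eq⟩, fun e => absurd (el_inj (z0_eq.symm.trans (e.trans one_eq))).2 (by decide),
    by rw [z0_eq, el_mul, one_eq]; rfl, ?_, ?_, ?_, el (vv 1) false, ⟨_, _, rfl⟩, el (vv 16) false, ⟨_, _, rfl⟩, fun e => by
      rw [el_mul, el_mul] at e; exact absurd (el_inj e).2 (by decide +kernel)⟩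
  · rintro _ ⟨p, b, rfl⟩
    rw [z0_mul, z0_eq, el_mul, add_zero, uu, mx_zero, zero_add, sm_true, fb_comm, (c_u p b).2.2.2.1]
    cases b <;> rfl
  · rintro _ ⟨p, b, rfl⟩ _ ⟨r, c, rfl⟩
    rw [el_mul, el_mul, add_comm r]
    exact eqv_el ..
  · rintro _ ⟨p, b, rfl⟩ h
    rcases (c_u p b).2.2.2.2.2.2 with rfl | ⟨r, -, k⟩
    · cases b
      exacts [.inl one_eq.symm, .inr z0_eq.symm]
    · have := h _ ⟨vv r, false, rfl⟩
      rw [el_mul, el_mul] at this
      exact absurd (by simpa using (el_inj this).2) k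

theorem comm_app {c : Γ} (h : Commute z0 c) (v : V) : z0.1 (c.1 v) = c.1 (z0.1 v) := congrArg (·.1 v) h.eq

theorem norm0 {c q : Γ} (h : Commute z0 c) (hq : q ∈ Q0) : cj c q ∈ Q0 := by
  obtain ⟨h1, h2, h3⟩ := mem_Q0.1 hq
  have k : ∀ u, (cj c q).1 (u + z0.1 u) = u + z0.1 u := fun u => by
    rw [cj, OG.mul_app, OG.mul_app, map_add, ← comm_app h.inv_right, z0_app, (c_z _).1, add_assoc, add_add_self, map_add,
      (iso q).sm, (iso q).sm, h1, h2, ← add_add_self ((c⁻¹).1 u) (_ + _), ← add_assoc ((c⁻¹).1 u) (sm _ _), ← (c_z _).1,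
      ← z0_app, comm_app h.inv_right, map_add, OG.app_inv_app, OG.app_inv_app]
  refine mem_Q0.2 ⟨by simpa [z0_app, show vv 32 + rho false (vv 1) (vv 2) (vv 32) = vv 1 from rfl] using k (vv 32),
    by simpa [z0_app, show vv 16 + rho false (vv 1) (vv 2) (vv 16) = vv 2 from rfl] using k (vv 16), fun v hv => ?_⟩
  obtain ⟨u, e⟩ := h3 ((c⁻¹).1 v) (by rw [comm_app h.inv_right, hv])
  exact ⟨c.1 u, by rw [comm_app h, ← map_add, ← e, map_add, OG.app_inv_app]; rfl⟩

theorem eich_mem_Q0 {x w : V} (hx : x = vv 1 ∨ x = vv 2) (h : z0.1 w = w) : eich (qf false) x w ∈ Q0 := by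
  obtain ⟨h1, h2⟩ := (c_z w).2.1.1 (z0_app w ▸ h)
  have k : ∀ v, fb v x = false → (eich (qf false) x w).1 v = v + sm (fb v w) x := fun v hv => by
    rcases hx with rfl | rfl
    · rw [LZ.eich_eq rfl ((fb_comm _ _).trans h1), rho_of_perp hv]
    · rw [LZ.eich_eq rfl ((fb_comm _ _).trans h2), rho_of_perp hv]
  refine mem_Q0.2 ⟨?_, ?_, fun v hv => ?_⟩
  · rw [k _ (by rcases hx with rfl | rfl <;> rfl), fb_comm, h1, sm_false, add_zero]
  · rw [k _ (by rcases hx with rfl | rfl <;> rfl), fb_comm, h2, sm_false, add_zero]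
  · obtain ⟨k1, k2⟩ := (c_z v).2.1.1 (z0_app v ▸ hv)
    rw [k _ (by rcases hx with rfl | rfl <;> assumption), add_add_self]
    simp only [z0_app]
    generalize fb v w = i
    rcases hx with rfl | rfl <;> revert i <;> decide +kernel

theorem triv0 {c : Γ} (h : Commute z0 c) (k : ∀ q ∈ Q0, Eqv z0 (cj c q) q) : c ∈ Q0 := by
  have r : ∀ u, fb (c.1 (u + z0.1 u)) (vv 64) = false ∧ z0.1 (vv 64) = vv 64 := fun u => by
    rw [map_add, ← comm_app h, z0_app, z0_app]
    generalize c.1 u = u; revert u; decide +kernel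
  have k1 : ∀ x, x = vv 1 ∨ x = vv 2 → c.1 x = x := fun x hx => by
    have h1 : qb false x = false ∧ fb x (vv 4) = false ∧ rho false x (vv 4) (vv 64) = vv 64 + x ∧
      rho false (vv 1) (vv 2) (vv 64 + x) = vv 64 + x ∧ x ≠ 0 ∧ ∃ u, x = u + rho false (vv 1) (vv 2) u := by
      rcases hx with rfl | rfl <;> decide +kernel
    obtain ⟨h1, h2, h3, h4, h5, u, h6⟩ := h1
    have h7 : (cj c (eich (qf false) x (vv 4))).1 (vv 64) = vv 64 + x := by
      rcases k _ (eich_mem_Q0 hx (w := vv 4) (z0_app _)) with e | e <;> rw [e]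
      · rw [LZ.eich_eq h1 h2, h3]
      · rw [OG.mul_app, LZ.eich_eq h1 h2, h3, z0_app, h4]
    rw [cj_eich c h1 h2, LZ.eich_eq (((iso c).q x).trans h1) (((iso c).f _ _).trans h2),
      rho_of_perp (by rw [fb_comm, h6, ← z0_app]; exact (r u).1), add_right_inj] at h7
    revert h7
    cases fb (vv 64) (c.1 (vv 4))
    exacts [fun e => absurd e.symm h5, id]
  refine mem_Q0.2 ⟨k1 _ (.inl rfl), k1 _ (.inr rfl), fun v hv => ?_⟩
  obtain ⟨h1, h2⟩ := (c_z v).2.1.1 (z0_app v ▸ hv)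
  have h3 := (fb_comm _ _).trans h1
  have h4 := k _ (eich_mem_Q0 (.inl rfl) hv)
  rw [cj_eich c rfl h3, k1 _ (.inl rfl)] at h4
  have h5 : fb (vv 1) (c.1 v) = false := by rw [← k1 _ (.inl rfl), (iso c).f, h3]
  have key : ∀ v, fb v (vv 1) = false → fb v (vv 2) = false → ∀ w, fb (vv 1) w = false → (rho false (vv 1) w (vv 16) =
      rho false (vv 1) v (vv 16) ∨ rho false (vv 1) w (vv 16) = rho false (vv 1) (vv 2) (rho false (vv 1) v (vv 16))) →
      ∃ n ∈ [0, 16, 32, 48], v + w = vv n + rho false (vv 1) (vv 2) (vv n) := by decide +kernel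
  obtain ⟨n, -, e⟩ := key v h1 h2 _ h5 (h4.imp (fun e => by rw [← LZ.eich_eq rfl h5, e, LZ.eich_eq rfl h3]) fun e => by
    rw [← LZ.eich_eq rfl h5, e, OG.mul_app, LZ.eich_eq rfl h3, z0_app])
  exact ⟨vv n, z0_app _ ▸ e⟩

/-- The action on the coordinates. -/
noncomputable def act (c : Γ) (p : V) : V := π0 (cj c (el p false))

theorem cj_el {c : Γ} (h : Commute z0 c) (p : V) (b : Bool) : ∃ b', cj c (el p b) = el (act c p) b' := by
  obtain ⟨r, b', e⟩ := norm0 h ⟨p, false, rfl⟩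
  rw [act, e, π0_el]
  cases b
  · exact ⟨b', e⟩
  · exact ⟨!b', by rw [← z0_mul, ← e, ← cj_of_commute h.symm, ← cj_mul, z0_mul]; rfl⟩

/-- Six long root elements that commute with `z0`. -/
def gl (i : ℕ) : V × V × ℕ := [(vv 4, vv 8, 0x8040609009060201), (vv 64, vv 128, 0x9060201008040609),
  (vv 4, vv 128, 0xc0402030080c0301), (vv 64, vv 8, 0x80c030100c040203), (vv 1, vv 32, 0x8241281408040201)].getD i
  (vv 2, vv 16, 0x8040201028148241)

/-- The distance to the first basis vector. -/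
def rkT : ℕ := 0x3020203030303020203030303020203020202020202020202020202020202020303030303030303030203030303020302020202010101010202020202020202020303030303030303030303030302030202020202020202020202020202020203020303030303020203020302030203020202020101010102020202020202020303030203030303030303030303020302020202010102020202020201010202030303030303030303030302030302030101010101010101010101010101010103020203030302030303020303020203020202020101020202020202010102020303020303030203020302030203020302020202010101010202020201010000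

theorem c_g : ∀ i < 6, qb false (gl i).1 = false ∧ fb (gl i).1 (gl i).2.1 = false ∧ (∀ v, rho false (vv 1) (vv 2)
    (rho false (gl i).1 (gl i).2.1 v) = rho false (gl i).1 (gl i).2.1 (rho false (vv 1) (vv 2) v)) ∧
    ∀ p, pk0 (rho false (gl i).1 (gl i).2.1 (El p false (rho false (gl i).1 (gl i).2.1 (vv 16))))
      (rho false (gl i).1 (gl i).2.1 (El p false (rho false (gl i).1 (gl i).2.1 (vv 32)))) = mx (gl i).2.2 p := by
  decide +kernel

theorem c_rk : ∀ p : V, p = 0 ∨ p = vv 1 ∨ ∃ i < 6, (mx (gl i).2.2 p ≠ 0 ∧ ap rkT (mx (gl i).2.2 p).n < ap rkT p.n) ∨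
    (p + mx (gl i).2.2 p ≠ 0 ∧ ap rkT (p + mx (gl i).2.2 p).n < ap rkT p.n) := by decide +kernel

theorem irrV (S : V → Prop) (h0 : S 0) (h1 : ∀ u v, S u → S v → S (u + v))
    (h2 : ∀ c ∈ Om, Commute z0 c → ∀ p, S p → S (act c p)) {p : V} (hp : S p) (hn : p ≠ 0) (v : V) : S v := by
  have k : ∀ i < 6, ∀ p, S p → S (mx (gl i).2.2 p) := fun i hi p hp => by
    obtain ⟨k1, k2, k3, k4⟩ := c_g i hi
    have := h2 _ (eich_mem (gl i).1 (gl i).2.1) (OG.ext fun v => by
      simp only [OG.mul_app, z0_app, LZ.eich_eq k1 k2, k3]) p hp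
    simpa only [act, π0, cj, eich_inv, neg_eq, OG.mul_app, LZ.eich_eq k1 k2, el_app, k4] using this
  have k1 : S (vv 1) := by
    induction h : ap rkT p.n using Nat.strong_induction_on generalizing p with
    | _ n ih =>
      rcases c_rk p with e | e | ⟨i, hi, e | e⟩
      exacts [absurd e hn, e ▸ hp, ih _ (h ▸ e.2) (k i hi p hp) e.1 rfl, ih _ (h ▸ e.2) (h1 _ _ hp (k i hi p hp)) e.1 rfl]
  have k8 : S (vv 8) := k 0 (by decide) _ (k 1 (by decide) _ k1)
  have k2 : ∀ p, S p → S (mx (gl 2).2.2 (mx (gl 3).2.2 p)) := fun p h => k 2 (by decide) _ (k 3 (by decide) _ h)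
  have k4 : ∀ p, S p → S (mx (gl 4).2.2 (mx (gl 5).2.2 p)) := fun p h => k 4 (by decide) _ (k 5 (by decide) _ h)
  have s : ∀ b p, S p → S (sm b p) := fun b p h => by cases b; exacts [h0, h]
  rw [show v = _ from (Iso.id (τ := false)).eq_lin v]
  exact h1 _ _ (h1 _ _ (h1 _ _ (h1 _ _ (h1 _ _ (h1 _ _ (h1 _ _ (s _ _ k1) (s _ _ (k2 _ k1))) (s _ _ (k2 _ k8))) (s _ _ k8))
    (s _ _ (k4 _ (k2 _ k8)))) (s _ _ (k4 _ k8))) (s _ _ (k4 _ k1))) (s _ _ (k4 _ (k2 _ k1)))

theorem act_mul {c d : Γ} (hc : Commute z0 c) (hd : Commute z0 d) (p : V) : act (c * d) p = act c (act d p) := by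
  obtain ⟨b, e⟩ := cj_el hd p false
  obtain ⟨b', e'⟩ := cj_el hc (act d p) b
  rw [act, ← cj_cj, e, e', π0_el]

theorem act_add {c : Γ} (hc : Commute z0 c) (p r : V) : act c (p + r) = act c p + act c r := by
  obtain ⟨b1, e1⟩ := cj_el hc p false
  obtain ⟨b2, e2⟩ := cj_el hc r false
  obtain ⟨b3, e3⟩ := cj_el hc (p + r) (false ^^ false ^^ fb (uu r false) (ww p))
  rw [← el_mul, cj_mul, e1, e2, el_mul] at e3
  exact (el_inj e3).1.symm

theorem act_one (p : V) : act 1 p = p := by rw [act, cj_one, π0_el]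

theorem lg0 : Lg Q0 z0 := ⟨es0.aes, fun c h q hq => norm0 h hq, fun c h k => triv0 h k⟩

theorem QQ_eq : QQ z0 = Q0 := by
  refine le_antisymm (fun r hr => ?_) lg0.le_pCoreOf
  have m : ∀ {r}, r ∈ QQ z0 → Commute z0 r := fun h => Spor.mem_centralizer_singleton.1 (GT.pCoreOf_le _ h)
  have a0 : ∀ c, act c 0 = 0 := fun c => by rw [act, ← one_eq, cj_one_right, one_eq, π0_el]
  obtain ⟨p, h1, h2⟩ := fixpt (GT.isPGroup_pCoreOf 2 (centralizer {z0})) (fun g => act g) (Finset.univ.erase 0)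
    (fun p _ => act_one p) (fun g h p _ => act_mul (m g.2) (m h.2) p) (fun g p hp => by
      simp only [Finset.mem_erase, Finset.mem_univ, and_true] at hp ⊢
      exact fun e => hp (by rw [← act_one p, ← inv_mul_cancel g.1, act_mul (m g.2).inv_right (m g.2), e, a0]))
    (by rw [Finset.card_erase_of_mem (Finset.mem_univ _), Finset.card_univ, ← Nat.card_eq_fintype_card, card_V]; decide)
  have k := irrV (fun p => ∀ r ∈ QQ z0, act r p = p) (fun r _ => a0 r)
    (fun u v h1 h2 r hr => by rw [act_add (m hr), h1 r hr, h2 r hr]) (fun c _ hc p h r hr => by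
      have h3 : cj c⁻¹ r ∈ QQ z0 := mem_QQ_cj.1 ((cj_of_commute hc.symm).symm ▸ hr)
      rw [← act_mul (m hr) hc, show r * c = c * cj c⁻¹ r by simp [cj, mul_assoc], act_mul hc (m h3), h _ h3])
    (fun r hr => h2 ⟨r, hr⟩) (Finset.ne_of_mem_erase h1)
  refine triv0 (m hr) ?_
  rintro _ ⟨p, b, rfl⟩
  obtain ⟨b', e⟩ := cj_el (m hr) p b
  rw [e, k p r hr]
  exact eqv_el ..

theorem big : LX.Big z0 := ⟨QQ_eq ▸ es0, QQ_eq ▸ lg0, by
  rw [QQ_eq, ← Nat.card_congr (Equiv.ofBijective (fun x : V × Bool => (⟨el x.1 x.2, _, _, rfl⟩ : Q0))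
    ⟨fun x y e => Prod.ext (el_inj (congrArg Subtype.val e)).1 (el_inj (congrArg Subtype.val e)).2,
      fun ⟨_, p, b, e⟩ => ⟨(p, b), Subtype.ext e.symm⟩⟩), Nat.card_prod, card_V]
  simp⟩

theorem QQ_le : QQ z0 ≤ Om := by
  rw [QQ_eq]
  rintro _ ⟨p, b, rfl⟩
  exact mul_mem (eich_mem _ _) (eich_mem _ _)

theorem irr {K : Subgroup Γ} (h1 : K ≤ QQ z0) (h2 : z0 ∈ K) (h3 : ∀ g ∈ Om, Commute z0 g → ∀ k ∈ K, cj g k ∈ K) :
    K ≤ zpowers z0 ∨ K = QQ z0 := by
  rw [QQ_eq] at *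
  refine or_iff_not_imp_left.2 fun k => le_antisymm h1 ?_
  obtain ⟨x, h4, h5⟩ := SetLike.not_le_iff_exists.1 k
  obtain ⟨p, b, rfl⟩ := h1 h4
  rintro _ ⟨r, c, rfl⟩
  obtain ⟨c', e⟩ := irrV (fun p => ∃ b, el p b ∈ K) ⟨_, one_eq ▸ one_mem K⟩
    (fun u v ⟨_, a⟩ ⟨_, b⟩ => ⟨_, el_mul u v _ _ ▸ mul_mem a b⟩)
    (fun g hg hc p ⟨b, a⟩ => let ⟨b', e⟩ := cj_el hc p b; ⟨b', e ▸ h3 g hg hc _ a⟩) ⟨b, h4⟩ (fun e => h5 (by
      cases b
      exacts [e ▸ one_eq ▸ one_mem _, e ▸ z0_eq ▸ mem_zpowers _])) r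
  exact (eqv_el r c c').elim (· ▸ e) (· ▸ mul_mem h2 e)

theorem c_t : (∀ x, qb false x = false → x ≠ 0 → ∃ y, rf false (x + y) (rf false (y + vv 1) (vv 1)) = x) ∧
    ∀ x, qb false x = false → fb x (vv 1) = false → fb x (vv 16) = false → x ≠ 0 → ∃ y,
      rf false (x + y) (rf false (y + vv 2) (vv 1)) = vv 1 ∧ rf false (x + y) (rf false (y + vv 2) (vv 2)) = x := by
  decide +kernel

theorem exists_cen {P : Subgroup Γ} (h : IsPGroup 2 P) : ∃ g : Γ, ∀ x ∈ P, Commute (cj g z0) x := by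
  obtain ⟨x, h1, h2⟩ := fixpt h (fun g v => g.1.1 v) (Finset.univ.filter fun v => qb false v = false ∧ v ≠ 0)
    (fun _ _ => rfl) (fun _ _ _ _ => rfl) (fun g v hv => by
      simp only [Finset.mem_filter, Finset.mem_univ, true_and] at hv ⊢
      exact ⟨((iso _).q v).trans hv.1, OG.app_ne_zero _ hv.2⟩) (by decide +kernel)
  simp only [Finset.mem_filter, Finset.mem_univ, true_and] at h1
  obtain ⟨g, hg⟩ : ∃ g : Γ, g.1 (vv 1) = x :=
    let ⟨y, e⟩ := c_t.1 x h1.1 h1.2; ⟨orefl _ _ * orefl _ _, by rw [OG.mul_app, LZ.orefl_eq, LZ.orefl_eq, e]⟩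
  have k : ∀ r : P, (cj g⁻¹ r.1).1 (vv 1) = vv 1 := fun r => by
    rw [cj, inv_inv, OG.mul_app, OG.mul_app, hg, h2 r, ← hg, OG.inv_app_app]
  have n : ∀ v, qb false v = false → fb v (vv 1) = false → v ≠ 0 → v ≠ vv 1 → qb false (v + sm (fb v (vv 16)) (vv 1)) = false ∧
    fb (v + sm (fb v (vv 16)) (vv 1)) (vv 1) = false ∧ fb (v + sm (fb v (vv 16)) (vv 1)) (vv 16) = false ∧
      v + sm (fb v (vv 16)) (vv 1) ≠ 0 := by decide +kernel
  obtain ⟨y, h3, h4⟩ := fixpt h (fun r v => (cj g⁻¹ r.1).1 v + sm (fb ((cj g⁻¹ r.1).1 v) (vv 16)) (vv 1))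
    (Finset.univ.filter fun v => qb false v = false ∧ fb v (vv 1) = false ∧ fb v (vv 16) = false ∧ v ≠ 0)
    (fun v hv => by simp only [Finset.mem_filter] at hv; simp [cj_one_right, hv.2.2.2.1]) (fun r s v _ => by
      rw [coe_mul, cj_mul, OG.mul_app, map_add, (iso _).sm, k r, fb_add_left, fb_sm_left, sm_xor,
        show fb (vv 1) (vv 16) = true from rfl, Bool.and_true, add_add_add_comm, add_assoc, add_self, add_zero]) (fun r v hv => by
      simp only [Finset.mem_filter, Finset.mem_univ, true_and] at hv ⊢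
      refine n _ (((iso _).q v).trans hv.1) (by rw [← k r, (iso _).f, hv.2.1]) (OG.app_ne_zero _ hv.2.2.2) fun e => ?_
      exact absurd (((iso _).inj (e.trans (k r).symm)) ▸ hv.2.2.1) (by decide)) (by decide +kernel)
  simp only [Finset.mem_filter, Finset.mem_univ, true_and] at h3
  obtain ⟨g', e1, e2⟩ : ∃ g : Γ, g.1 (vv 1) = vv 1 ∧ g.1 (vv 2) = y :=
    let ⟨w, e⟩ := c_t.2 y h3.1 h3.2.1 h3.2.2.1 h3.2.2.2
    ⟨orefl _ _ * orefl _ _, by simpa only [OG.mul_app, LZ.orefl_eq] using e⟩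
  refine ⟨g * g', fun r hr => ?_⟩
  have h5 := (fb_comm _ _).trans h3.2.1
  rw [← cj_cj, commute_cj_left, z0, cj_eich g' rfl rfl, e1, e2]
  refine (cj_eq_self_iff.1 ?_).symm
  have h6 := add_eq_iff.1 (h4 ⟨r, hr⟩)
  rw [cj_eich _ rfl h5, k ⟨r, hr⟩, h6]
  refine OG.ext fun v => ?_
  rw [LZ.eich_eq rfl h5, LZ.eich_eq rfl (by rw [fb_add_right, h5, fb_sm_right, fb_self, Bool.and_false]; rfl),
    ← rho_rho h3.2.1 (by rw [fb_sm_left, fb_self, Bool.and_false])]
  cases fb _ (vv 16)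
  · rw [sm_false, rho_zero]
  · rw [sm_true, rho_self rfl]

theorem exists_tri : ∃ g ∈ Om, ∃ g' ∈ Om, cj g' z0 = z0 * cj g z0 := by
  refine ⟨_, mul_mem (eich_mem (vv 2) (vv 64)) (eich_mem (vv 4) (vv 32)), _, eich_mem (vv 4) (vv 32), ?_⟩
  rw [z0, cj_eich _ rfl rfl, cj_eich _ rfl rfl]
  simp only [OG.mul_app, LZ.eich_eq (τ := false) (x := vv 4) (w := vv 32) rfl rfl,
    LZ.eich_eq (τ := false) (x := vv 2) (w := vv 64) rfl rfl]
  exact (eich_mul (Q := qf false) (u := vv 1) (v := vv 2) (w := vv 4) rfl (polar_qf _ _ _) (polar_qf _ _ _)).symm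

theorem om_equiv : Nonempty (Om ≃* Cfsg.POmega (ZMod 2) (Cfsg.quadFormPlus 4 (ZMod 2))) :=
  let ⟨e, he⟩ := equiv_plus
  ⟨(MulEquiv.subgroupCongr (commutator_OG_eq_ker_dickson (qf_nondeg false)
    (not_oExc_of_finrank (by rw [LZ.finrank_V]; decide)) rfl).symm).trans ((commutatorCongr (OG.congr e he)).trans
      ((omegaEquivOG (quad_plus 4 (ZMod 2))).symm.trans FL.o8Equiv.symm))⟩

theorem om_index : Om.index = 2 ∧ centralizer (Om : Set Γ) = ⊥ := by
  refine ⟨?_, eq_bot_iff.2 fun c hc => ?_⟩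
  · rw [Om, index_ker, MonoidHom.range_eq_top.2 fun u => ?_, card_top]
    · simp
    · rcases Int.units_eq_one_or u with rfl | rfl
      exacts [⟨1, map_one _⟩, ⟨_, dickson_orefl _ (v := vv 17) (by rw [qf_apply]; decide)⟩]
  · have k : ∀ q ∈ QQ z0, c * q = q * c := fun q hq => (hc q (QQ_le hq)).symm
    have m := big.lg.triv c (k _ big.z_mem).symm fun q hq => .inl (by rw [k q hq, mul_inv_cancel_right])
    refine (big.es.center c m k).resolve_right fun e => ?_
    obtain ⟨g, hg, g', hg', h⟩ := exists_tri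
    rw [← e, cj_of_commute (hc g hg), cj_of_commute (hc g' hg'), left_eq_mul] at h
    exact big.ne_one (e ▸ h)

end Cfsg.Agent.W4.X
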